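import Mathlib
import Cfsg.Agent.Lib.lead.Hall

/-!
# A Hall-type conjugation lemma for a factorised solvable subgroup

Shared library file of seat `helper56` (piece L1 of helper3's plan for S1425).
-/

set_option autoImplicit false

namespace Cfsg.Agent.Lib.helper56

open Cfsg.Agent.Lib.lead

/-- `H = B * D` solvable, `B` a `π'`-group, `Y ≤ H` a `π`-group: `Y` is `H`-conjugate into `D`. -/
theorem hall_factor_conj {G : Type*} [Group G] [Finite G] (π : Set ℕ) (H B D Y : Subgroup G)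
    (hH : Group.IsSolvable H) (hBH : B ≤ H) (hDH : D ≤ H)
    (hBn : H ≤ Subgroup.normalizer (B : Set G))
    (hBπ : ∀ p : ℕ, p.Prime → p ∣ Nat.card B → p ∉ π)
    (hfac : ∀ h ∈ H, ∃ b ∈ B, ∃ d ∈ D, h = b * d) (hYH : Y ≤ H)
    (hYπ : ∀ p : ℕ, p.Prime → p ∣ Nat.card Y → p ∈ π) :
    ∃ h ∈ H, Y.map (MulAut.conj h).toMonoidHom ≤ D := by
  classical
  haveI := hH
  obtain ⟨T, hT⟩ := exists_isPiHall_of_isSolvable π ↥(D.subgroupOf H)
  -- the index of `D` in `H` divides `|B|`
  have hdvd : (D.subgroupOf H).index ∣ Nat.card (B.subgroupOf H) := by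
    haveI : MulAction.IsPretransitive ↥(B.subgroupOf H) (↥H ⧸ D.subgroupOf H) := ⟨by
      intro x y
      induction x using QuotientGroup.induction_on with
      | H x =>
      induction y using QuotientGroup.induction_on with
      | H y =>
      obtain ⟨b1, hb1, d1, hd1, hx⟩ := hfac x x.2
      obtain ⟨b2, hb2, d2, hd2, hy⟩ := hfac y y.2
      have hmem : (⟨b2 * b1⁻¹, H.mul_mem (hBH hb2) (H.inv_mem (hBH hb1))⟩ : ↥H) ∈
          B.subgroupOf H := by
        rw [Subgroup.mem_subgroupOf]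
        exact B.mul_mem hb2 (B.inv_mem hb1)
      refine ⟨⟨_, hmem⟩, ?_⟩
      change ((⟨b2 * b1⁻¹, _⟩ : ↥H) • (QuotientGroup.mk x : ↥H ⧸ D.subgroupOf H)) = _
      rw [MulAction.Quotient.smul_mk]
      rw [QuotientGroup.eq]
      rw [Subgroup.mem_subgroupOf]
      have : ((((⟨b2 * b1⁻¹, H.mul_mem (hBH hb2) (H.inv_mem (hBH hb1))⟩ : ↥H) • x)⁻¹ * y : ↥H) : G)
          = d1⁻¹ * d2 := by
        simp only [smul_eq_mul, Subgroup.coe_mul, Subgroup.coe_inv]
        rw [hx, hy]
        group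
      rw [this]
      exact D.mul_mem (D.inv_mem hd1) hd2⟩
    have h1 := MulAction.index_stabilizer_of_transitive ↥(B.subgroupOf H)
      (QuotientGroup.mk 1 : ↥H ⧸ D.subgroupOf H)
    rw [Subgroup.index, ← h1]
    exact Subgroup.index_dvd_card _
  have hcB : Nat.card (B.subgroupOf H) = Nat.card B :=
    Nat.card_congr (Subgroup.subgroupOfEquivOfLe hBH).toEquiv
  have hcY : Nat.card (Y.subgroupOf H) = Nat.card Y :=
    Nat.card_congr (Subgroup.subgroupOfEquivOfLe hYH).toEquiv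
  have hTH : Cfsg.IsPiHall π (T.map (D.subgroupOf H).subtype) := by
    rw [isPiHall_iff] at hT ⊢
    refine ⟨?_, ?_⟩
    · rw [Subgroup.card_map_of_injective (D.subgroupOf H).subtype_injective]
      exact hT.1
    · rw [Subgroup.index_map_subtype]
      refine PiNum.mul hT.2 ?_
      intro p hp hpd
      exact hBπ p hp (hcB ▸ hpd.trans hdvd)
  have hY' : Cfsg.IsPiSubgroup π (Y.subgroupOf H) := by
    intro p hp hpd
    exact hYπ p hp (hcY ▸ hpd)
  obtain ⟨g, hg⟩ := le_conj_isPiHall_of_isSolvable hTH hY'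
  refine ⟨(g⁻¹ : ↥H), (g⁻¹).2, ?_⟩
  rintro _ ⟨y, hy, rfl⟩
  have hy' : (⟨y, hYH hy⟩ : ↥H) ∈ Y.subgroupOf H := by
    rw [Subgroup.mem_subgroupOf]; exact hy
  obtain ⟨t, ht, hty⟩ := hg hy'
  obtain ⟨t0, -, rfl⟩ := ht
  have ht0 : (((D.subgroupOf H).subtype t0 : ↥H) : G) ∈ D := by
    have := t0.2
    rw [Subgroup.mem_subgroupOf] at this
    exact this
  have hyv : y = (g : G) * (((D.subgroupOf H).subtype t0 : ↥H) : G) * (g : G)⁻¹ := by
    have := congrArg (fun z : ↥H => (z : G)) hty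
    simp only [MulEquiv.coe_toMonoidHom, MulAut.conj_apply, Subgroup.coe_mul,
      Subgroup.coe_inv] at this
    exact this.symm
  simp only [MulEquiv.coe_toMonoidHom, MulAut.conj_apply, Subgroup.coe_inv, inv_inv]
  rw [hyv]
  have : ((g : G))⁻¹ * ((g : G) * (((D.subgroupOf H).subtype t0 : ↥H) : G) * (g : G)⁻¹) * (g : G)
      = (((D.subgroupOf H).subtype t0 : ↥H) : G) := by group
  rw [this]
  exact ht0

end Cfsg.Agent.Lib.helper56
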