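/-
Bender-Glauberman, Theorem 14.2(c) (statement S1430, clause (3b)): the hypothesis `SigmaHyp` of
`Cfsg.Agent.Lib.helper87.BG142` (a subgroup `X` of prime order of a Hall `κ(M)`-subgroup lies in
`M*_σ` for every maximal subgroup `M*` containing `N_G(X)`) follows from the hypothesis `NAHyp`
of `Cfsg.Agent.Lib.helper71.BGRegNA` alone.

Sketch.  `p ∈ κ(M)`, `X = ⟨z⟩ ≤ M` of order `p`, `H ≥ N_G(X)` maximal, and suppose `p ∉ σ(H)`.
Then `p ∈ τ₂(H)` (S1409) and `H_σ` is nilpotent (S1417).  Take `d ∈ C_{M_σ}(X)` of prime order `q`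
(`q ∈ σ(M)`, `q ∉ σ(H)`), a complement `E` of `H_σ` in `H` containing `d` and `z`, and `B ≤ E`
elementary abelian of order `p ^ 2`; `z ∈ B` (S1418) and `d` does not centralize `B` (the
`L`-argument), so `C_B(d) = X`.  If the Sylow `p`-subgroups of `G` are abelian, `N_G(B)` normalizes
`C_B(d) = X`, against `N_G(B) ≰ H`.  Otherwise `X = B ∩ C(H_σ)` (S1419), `d` centralizes a
non-identity element of `H_σ` (Frobenius action of `[B,d]⟨d⟩`), `q` has rank one in `H`, and either
`q ∈ τ₁(H)`, which is `NAHyp`, or `q ∈ τ₃(H)`, where `⟨d⟩` is normal in `E` and centralizes `B`.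
-/
import Mathlib
import Cfsg.Agent.S1350
import Cfsg.Agent.S1403
import Cfsg.Agent.S1404
import Cfsg.Agent.S1409
import Cfsg.Agent.S1415
import Cfsg.Agent.S1417
import Cfsg.Agent.S1418
import Cfsg.Agent.S1419
import Cfsg.Agent.Lib.helper71.BGRegNA
import Cfsg.Agent.Lib.helper54.BG1428Good
import Cfsg.Agent.Lib.helper54.BGPrimeAct
import Cfsg.Agent.Lib.helper54.BGThirteen
import Cfsg.Agent.Lib.helper12.FrobFixB
import Cfsg.Agent.Lib.lead.Hall

set_option autoImplicit false
open Cfsg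

namespace Cfsg.Agent.Lib.helper56.BGOb

open Cfsg.Agent.Lib.helper8 Cfsg.Agent.Lib.helper97 Cfsg.Agent.Lib.helper71.BGRegNA
open Cfsg.Agent.Lib.helper87.BG142

variable {G : Type*} [Group G]

/-- A subgroup of prime order is generated by an element of that order. -/
theorem ob_exists_gen [Finite G] (X : Subgroup G) (hX : (Nat.card X).Prime) :
    ∃ z : G, z ∈ X ∧ orderOf z = Nat.card X ∧ X = Subgroup.zpowers z := by
  have hne : X ≠ ⊥ := by
    intro h
    rw [h, Subgroup.card_bot] at hX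
    exact Nat.not_prime_one hX
  obtain ⟨z, hz1⟩ := (Subgroup.ne_bot_iff_exists_ne_one).mp hne
  have hz1' : (z : G) ≠ 1 := fun h => hz1 (Subtype.ext h)
  have hdvd : orderOf (z : G) ∣ Nat.card X := by
    have h := orderOf_dvd_natCard (⟨(z : G), z.2⟩ : X)
    rwa [Subgroup.orderOf_mk] at h
  have ho : orderOf (z : G) = Nat.card X := by
    rcases (Nat.dvd_prime hX).mp hdvd with h | h
    · exact absurd (orderOf_eq_one_iff.mp h) hz1'
    · exact h
  refine ⟨z, z.2, ho, ?_⟩
  symm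
  apply Subgroup.eq_of_le_of_card_ge (Subgroup.zpowers_le.mpr z.2)
  rw [Nat.card_zpowers, ho]

/-- An element whose order is coprime to the index of a normal subgroup `N` of `E` lies in `N`. -/
theorem ob_mem_of_coprime_index [Finite G] (E N : Subgroup G)
    (hn : E ≤ Subgroup.normalizer (N : Set G)) (d : G) (hdE : d ∈ E)
    (hcop : (orderOf d).Coprime (N.relIndex E)) : d ∈ N := by
  have : (N.subgroupOf E).Normal := Subgroup.normal_subgroupOf_of_le_normalizer hn
  let π := QuotientGroup.mk' (N.subgroupOf E)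
  have h1 : orderOf (π ⟨d, hdE⟩) ∣ orderOf d := by
    have h := orderOf_map_dvd π (⟨d, hdE⟩ : E)
    rwa [Subgroup.orderOf_mk] at h
  have h2 : orderOf (π ⟨d, hdE⟩) ∣ N.relIndex E := by
    have h := orderOf_dvd_natCard (π ⟨d, hdE⟩)
    rwa [← Subgroup.index_eq_card] at h
  have h3 : orderOf (π ⟨d, hdE⟩) = 1 := Nat.eq_one_of_dvd_coprimes hcop h1 h2
  have h4 : π ⟨d, hdE⟩ = 1 := orderOf_eq_one_iff.mp h3
  have h5 : (⟨d, hdE⟩ : E) ∈ N.subgroupOf E := (QuotientGroup.eq_one_iff _).mp h4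
  exact Subgroup.mem_subgroupOf.mp h5

/-- An element which has a power of coprime exponent centralizing `b` ... : if `u ^ p = 1` and
`u ^ q = 1` with `p`, `q` coprime then `u = 1`. -/
theorem ob_eq_one_of_pow {u : G} {p q : ℕ} (hpq : p.Coprime q) (hp : u ^ p = 1) (hq : u ^ q = 1) :
    u = 1 := by
  have h1 : orderOf u ∣ p := orderOf_dvd_of_pow_eq_one hp
  have h2 : orderOf u ∣ q := orderOf_dvd_of_pow_eq_one hq
  exact orderOf_eq_one_iff.mp (Nat.eq_one_of_dvd_coprimes hpq h1 h2)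

/-- The "commutator line" of an element `d` of prime order `q ≠ p` acting on an elementary abelian
group `B` of order `p ^ 2` with `|C_B(d)| = p`: a `d`-invariant subgroup of order `p` of `B` on
which `d` acts without fixed points. -/
theorem ob_exists_fpf_line [Finite G] {p q : ℕ} [Fact p.Prime] (hpq : p.Coprime q)
    (B : Subgroup G) (hBcomm : ∀ a ∈ B, ∀ b ∈ B, a * b = b * a) (hBexp : ∀ a ∈ B, a ^ p = 1)
    (hBc : Nat.card B = p ^ 2) (d : G) (hdN : d ∈ Subgroup.normalizer (B : Set G))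
    (hdo : d ^ q = 1)
    (hfix : Nat.card ↥(B ⊓ Subgroup.centralizer ({d} : Set G)) = p) :
    ∃ B1 : Subgroup G, B1 ≤ B ∧ Nat.card B1 = p ∧ d ∈ Subgroup.normalizer (B1 : Set G) ∧
      ∀ u ∈ B1, d * u = u * d → u = 1 := by
  have hp : p.Prime := Fact.out
  have hconj : ∀ b ∈ B, d * b * d⁻¹ ∈ B := fun b hb =>
    (Subgroup.mem_normalizer_iff.mp hdN b).mp hb
  let φ : B →* B :=
    { toFun := fun b => ⟨(b : G)⁻¹ * (d * b * d⁻¹), B.mul_mem (B.inv_mem b.2) (hconj b b.2)⟩
      map_one' := by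
        apply Subtype.ext
        simp
      map_mul' := by
        intro a b
        apply Subtype.ext
        show ((a : G) * (b : G))⁻¹ * (d * ((a : G) * (b : G)) * d⁻¹) =
          (a : G)⁻¹ * (d * a * d⁻¹) * ((b : G)⁻¹ * (d * b * d⁻¹))
        have h1 : (b : G)⁻¹ * ((a : G)⁻¹ * (d * a * d⁻¹)) =
            (a : G)⁻¹ * (d * a * d⁻¹) * (b : G)⁻¹ :=
          hBcomm _ (B.inv_mem b.2) _ (B.mul_mem (B.inv_mem a.2) (hconj a a.2))
        calc ((a : G) * (b : G))⁻¹ * (d * ((a : G) * (b : G)) * d⁻¹)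
            = (b : G)⁻¹ * ((a : G)⁻¹ * (d * a * d⁻¹)) * (d * b * d⁻¹) := by group
          _ = (a : G)⁻¹ * (d * a * d⁻¹) * (b : G)⁻¹ * (d * b * d⁻¹) := by rw [h1]
          _ = (a : G)⁻¹ * (d * a * d⁻¹) * ((b : G)⁻¹ * (d * b * d⁻¹)) := by group }
  have hφ : ∀ b : B, ((φ b : B) : G) = (b : G)⁻¹ * (d * b * d⁻¹) := fun b => rfl
  -- the kernel of `φ` is `C_B(d)`
  have hker : (φ.ker).map B.subtype = B ⊓ Subgroup.centralizer ({d} : Set G) := by
    ext x
    constructor
    · rintro ⟨b, hb, rfl⟩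
      refine Subgroup.mem_inf.mpr ⟨b.2, ?_⟩
      rw [mem_cent_singleton]
      have h1 : ((φ b : B) : G) = 1 := by
        rw [MonoidHom.mem_ker.mp hb]; rfl
      rw [hφ] at h1
      have h2 : d * (b : G) * d⁻¹ = b := by
        have := congrArg (fun t => (b : G) * t) h1
        simpa [mul_assoc] using this
      calc d * (b : G) = d * b * d⁻¹ * d := by group
        _ = (b : G) * d := by rw [h2]
    · intro hx
      obtain ⟨hxB, hxd⟩ := Subgroup.mem_inf.mp hx
      rw [mem_cent_singleton] at hxd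
      refine ⟨⟨x, hxB⟩, MonoidHom.mem_ker.mpr ?_, rfl⟩
      apply Subtype.ext
      rw [hφ]
      show x⁻¹ * (d * x * d⁻¹) = 1
      rw [hxd]
      group
  have hkerc : Nat.card φ.ker = p := by
    rw [← hfix, ← hker]
    exact (Subgroup.card_map_of_injective (Subgroup.subtype_injective B)).symm
  have hrange : Nat.card φ.range = p := by
    have h1 : Nat.card φ.ker * φ.ker.index = Nat.card B := Subgroup.card_mul_index φ.ker
    rw [Subgroup.index_ker, hkerc, hBc, pow_two] at h1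
    exact Nat.eq_of_mul_eq_mul_left hp.pos h1
  refine ⟨φ.range.map B.subtype, Subgroup.map_subtype_le _, ?_, ?_, ?_⟩
  · rw [Subgroup.card_map_of_injective (Subgroup.subtype_injective B)]
    exact hrange
  · apply Subgroup.mem_normalizer_fintype
    rintro u ⟨_, ⟨b, rfl⟩, rfl⟩
    refine ⟨φ ⟨d * b * d⁻¹, hconj b b.2⟩, ⟨_, rfl⟩, ?_⟩
    show (d * (b : G) * d⁻¹)⁻¹ * (d * (d * (b : G) * d⁻¹) * d⁻¹) =
      d * ((b : G)⁻¹ * (d * (b : G) * d⁻¹)) * d⁻¹
    group
  · rintro u ⟨_, ⟨b, rfl⟩, rfl⟩ hdu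
    set u : G := (b : G)⁻¹ * (d * (b : G) * d⁻¹) with hu
    have huB : u ∈ B := B.mul_mem (B.inv_mem b.2) (hconj b b.2)
    have hdb : d * (b : G) * d⁻¹ = (b : G) * u := by rw [hu]; group
    have hduk : ∀ k : ℕ, d * u ^ k * d⁻¹ = u ^ k := by
      intro k
      have h1 : d * u ^ k = u ^ k * d := (Commute.pow_right (show Commute d u from hdu) k).eq
      rw [h1]; group
    have key : ∀ k : ℕ, d ^ k * (b : G) * (d ^ k)⁻¹ = (b : G) * u ^ k := by
      intro k
      induction k with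
      | zero => simp
      | succ k ih =>
        calc d ^ (k + 1) * (b : G) * (d ^ (k + 1))⁻¹
            = d * (d ^ k * (b : G) * (d ^ k)⁻¹) * d⁻¹ := by
              rw [pow_succ']; group
          _ = d * ((b : G) * u ^ k) * d⁻¹ := by rw [ih]
          _ = (d * (b : G) * d⁻¹) * (d * u ^ k * d⁻¹) := by group
          _ = (b : G) * u * u ^ k := by rw [hdb, hduk]
          _ = (b : G) * u ^ (k + 1) := by rw [pow_succ']; group
    have hq1 : u ^ q = 1 := by
      have h := key q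
      rw [hdo] at h
      have h' : (b : G) = (b : G) * u ^ q := by simpa using h
      exact (mul_eq_left.mp h'.symm)
    exact ob_eq_one_of_pow hpq (hBexp u huB) hq1

/-- If `d ^ p` centralizes `b` and `d` has order `q` coprime to `p`, then `d` is a power of
`d ^ p`. -/
theorem ob_mem_zpowers_pow {d : G} {p q : ℕ} (hpq : p.Coprime q) (hdo : d ^ q = 1) :
    d ∈ Subgroup.zpowers (d ^ p) := by
  have h : Int.gcd (p : ℤ) (q : ℤ) = 1 := by
    rw [Int.gcd_natCast_natCast]; exact hpq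
  have hb := Int.gcd_eq_gcd_ab (p : ℤ) (q : ℤ)
  rw [h] at hb
  have hd : d = (d ^ p) ^ (Int.gcdA (p : ℤ) (q : ℤ)) := by
    have h1 : d ^ ((p : ℤ) * Int.gcdA (p : ℤ) (q : ℤ) + (q : ℤ) * Int.gcdB (p : ℤ) (q : ℤ)) = d := by
      rw [← hb]; simp
    rw [zpow_add, zpow_mul, zpow_mul] at h1
    have h2 : (d ^ (q : ℤ)) = 1 := by
      rw [zpow_natCast]; exact hdo
    rw [h2, one_zpow, mul_one, zpow_natCast] at h1
    exact h1.symm
  have h3 := Subgroup.zpow_mem (Subgroup.zpowers (d ^ p)) (Subgroup.mem_zpowers (d ^ p))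
    (Int.gcdA (p : ℤ) (q : ℤ))
  rwa [← hd] at h3

/-- The core of (O-b): an element `z` of prime order `p ∈ κ(M)` of `M` has `p ∈ σ(H)` for every
maximal subgroup `H` containing `N_G(⟨z⟩)`. -/
theorem ob_core [Finite G] (hG : IsMinSimpleOddOrder G) (hNA : NAHyp G) (M H : Subgroup G)
    (hM : IsCoatom M) (hH : IsCoatom H) (z : G) (hzM : z ∈ M) (hzκ : orderOf z ∈ kappa M)
    (hNX : Subgroup.normalizer ((Subgroup.zpowers z : Subgroup G) : Set G) ≤ H) :
    orderOf z ∈ sigma H := by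
  by_contra hpH
  obtain ⟨hodd, hsimple, hna, hsolv⟩ := id hG
  have hpp : (orderOf z).Prime := hzκ.1
  have : Fact (orderOf z).Prime := ⟨hpp⟩
  have hU : BGUniqHyp G := fun K hK h1 h2 => Cfsg.Agent.S1403.result hG K hK h1 h2
  have hz1 : z ≠ 1 := by
    rintro rfl
    rw [orderOf_one] at hpp
    exact Nat.not_prime_one hpp
  -- Step 1: an element `d` of prime order `q` of `M_σ` centralizing `z`
  obtain ⟨c, hcσ, hc1, hzc⟩ := kappa_singular M (orderOf z) hzκ z hzM rfl
  have hco1 : orderOf c ≠ 1 := fun h => hc1 (orderOf_eq_one_iff.mp h)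
  obtain ⟨q, hq, hqc⟩ := Nat.exists_prime_and_dvd hco1
  obtain ⟨d, hd⟩ : ∃ d : G, d = c ^ (orderOf c / q) := ⟨_, rfl⟩
  have hdo : orderOf d = q := by
    rw [hd]; exact orderOf_pow_orderOf_div (orderOf_pos c).ne' hqc
  have hdσ : d ∈ sigmaCore M := by
    rw [hd]; exact Subgroup.pow_mem _ hcσ _
  have hzd : z * d = d * z := by
    rw [hd]; exact (Commute.pow_right (show Commute z c from hzc) _).eq
  have hdq : d ^ q = 1 := by rw [← hdo]; exact pow_orderOf_eq_one d
  have hd1 : d ≠ 1 := by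
    intro h
    rw [h, orderOf_one] at hdo
    exact Nat.not_prime_one (hdo ▸ hq)
  have hqM : q ∈ sigma M := Cfsg.Agent.Lib.helper54.PrimeAct.mem_sigma_of_dvd hG M hM
    (D := Subgroup.zpowers d) (Subgroup.zpowers_le.mpr hdσ) hq (by rw [Nat.card_zpowers, hdo])
  have hpq : orderOf z ≠ q := by
    intro h
    exact hzκ.2.2.1 (h ▸ hqM)
  have hcop : (orderOf z).Coprime q := (Nat.coprime_primes hpp hq).mpr hpq
  -- Step 2: `p ∈ τ₂(H)`, `H_σ` nilpotent
  have hzH : z ∈ H := hNX (Subgroup.le_normalizer (Subgroup.mem_zpowers z))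
  have hdH : d ∈ H := hNX (Subgroup.centralizer_le_normalizer _ (mem_cent_zpowers.mpr hzd))
  obtain ⟨⟨hr2, hr1⟩, hni, -⟩ := Cfsg.Agent.S1409.result hG H hH (orderOf z) hpH
    (Subgroup.zpowers z) (Nat.card_zpowers z) hNX
  have hpτ : orderOf z ∈ tau2 H := ⟨hpp, hpH, hr2, hr1⟩
  obtain ⟨B0, hB0H, hB0e, hB0c⟩ := bg_exists_elemAb_sq H (orderOf z) hr2 hr1
  have hnil : Group.IsNilpotent ↥(sigmaCore H) :=
    (Cfsg.Agent.S1417.result hG H hH (orderOf z) hpτ B0 ⟨hB0H, hB0e, hB0c⟩).1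
  -- Step 3: `q ∉ σ(H)`
  have hqH : q ∉ sigma H := by
    intro hqH
    obtain ⟨P⟩ : Nonempty (Sylow (orderOf z) ↥M) := inferInstance
    have hStp : IsPGroup (orderOf z) ↥((P : Subgroup ↥M).map M.subtype) := P.isPGroup'.map _
    have hStc : IsCyclic ↥((P : Subgroup ↥M).map M.subtype) := by
      haveI : IsCyclic ↥(P : Subgroup ↥M) := (hzκ.2.2.2 P).1
      exact isCyclic_of_surjective
        ((P : Subgroup ↥M).equivMapOfInjective M.subtype
          (Subgroup.subtype_injective M)).toMonoidHom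
        ((P : Subgroup ↥M).equivMapOfInjective M.subtype
          (Subgroup.subtype_injective M)).surjective
    have hSyl : ¬ orderOf z ∣ ((P : Subgroup ↥M).map M.subtype).relIndex M := by
      have h1 : ((P : Subgroup ↥M).map M.subtype).relIndex M = (P : Subgroup ↥M).index := by
        show ((((P : Subgroup ↥M).map M.subtype)).subgroupOf M).index = _
        congr 1
        exact Subgroup.comap_map_eq_self_of_injective (Subgroup.subtype_injective M) _
      rw [h1]
      exact P.not_dvd_index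
    exact Cfsg.Agent.Lib.helper54.PrimeAct.no_common_sigma hG M hM H hH _ hStp hStc hSyl B0 hB0H
      hB0e hB0c hnil hqM hqH
  -- Step 4: a complement `E` of `H_σ` in `H` containing `z` and `d`
  have hodz : orderOf (d * z) = q * orderOf z := by
    have h := Commute.orderOf_mul_eq_mul_orderOf_of_coprime (show Commute d z from hzd.symm)
      (by rw [hdo]; exact hcop.symm)
    rw [h, hdo]
  have hWH : Subgroup.zpowers (d * z) ≤ H := Subgroup.zpowers_le.mpr (H.mul_mem hdH hzH)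
  have hWp : ∀ r : ℕ, r.Prime → r ∣ Nat.card ↥(Subgroup.zpowers (d * z)) → r ∉ sigma H := by
    intro r hr hrd
    rw [Nat.card_zpowers, hodz] at hrd
    rcases (Nat.Prime.dvd_mul hr).mp hrd with h | h
    · rw [(Nat.prime_dvd_prime_iff_eq hr hq).mp h]; exact hqH
    · rw [(Nat.prime_dvd_prime_iff_eq hr hpp).mp h]; exact hpH
  obtain ⟨E, hE, hWE⟩ := Cfsg.Agent.Lib.helper60.BGCentU.exists_compl_ge hG H hH _ hWH hWp
  have hdzE : d * z ∈ E := hWE (Subgroup.mem_zpowers _)
  have hzE : z ∈ E := by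
    have h1 : (d * z) ^ q = z ^ q := by
      rw [(show Commute d z from hzd.symm).mul_pow, hdq, one_mul]
    have h2 : z ∈ Subgroup.zpowers (z ^ q) :=
      ob_mem_zpowers_pow (d := z) (p := q) (q := orderOf z) hcop.symm (pow_orderOf_eq_one z)
    have h3 : z ^ q ∈ E := by rw [← h1]; exact E.pow_mem hdzE q
    exact (Subgroup.zpowers_le.mpr h3) h2
  have hdE : d ∈ E := by
    have he : d = d * z * z⁻¹ := by group
    rw [he]; exact E.mul_mem hdzE (E.inv_mem hzE)
  -- Step 5: `B ≤ E` elementary abelian of order `p ^ 2`, `C_B(d) = ⟨z⟩`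
  obtain ⟨B, hBE, hBe, hBc⟩ := bg7_exists_elemAb_compl H E hE (orderOf z) hpτ
  obtain ⟨⟨hEB, hsub⟩, ⟨-, -, hNB⟩, -⟩ :=
    Cfsg.Agent.S1418.result hG H hH E hE (orderOf z) hpτ B ⟨hBE, hBe, hBc⟩
  have hXE : Subgroup.zpowers z ≤ E := Subgroup.zpowers_le.mpr hzE
  have hXB : Subgroup.zpowers z ≤ B := hsub _ hXE (Nat.card_zpowers z)
  have hzB : z ∈ B := hXB (Subgroup.mem_zpowers z)
  have hBel := (bg_elemAb_iff B).mp hBe
  have hX1 : Subgroup.zpowers z ≠ ⊥ := by
    intro h
    have h1 : z ∈ (⊥ : Subgroup G) := h ▸ Subgroup.mem_zpowers z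
    exact hz1 (Subgroup.mem_bot.mp h1)
  have hdB : ¬ ∀ a ∈ B, d * a = a * d := by
    intro h
    exact Cfsg.Agent.Lib.helper54.Good.l_argument hG M hM (prankLE_one_of_kappa M hzκ) hni B hBe
      hBc (Subgroup.zpowers z) hXB (Subgroup.zpowers_le.mpr hzM) hX1 d hdσ hq hdo
      (fun a ha => mem_cent_singleton.mpr (h a ha))
  have hRD : Subgroup.zpowers z ≤ B ⊓ Subgroup.centralizer ({d} : Set G) := by
    rw [Subgroup.zpowers_le]
    exact Subgroup.mem_inf.mpr ⟨hzB, mem_cent_singleton.mpr hzd.symm⟩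
  have hDB : B ⊓ Subgroup.centralizer ({d} : Set G) ≠ B := by
    intro h
    apply hdB
    intro a ha
    have h1 : a ∈ B ⊓ Subgroup.centralizer ({d} : Set G) := by rw [h]; exact ha
    exact mem_cent_singleton.mp (Subgroup.mem_inf.mp h1).2
  have hDcard : Nat.card ↥(B ⊓ Subgroup.centralizer ({d} : Set G)) = orderOf z := by
    have h1 : Nat.card ↥(B ⊓ Subgroup.centralizer ({d} : Set G)) ∣ orderOf z ^ 2 := by
      rw [← hBc]
      exact Subgroup.card_dvd_of_le inf_le_left
    obtain ⟨k, hk2, hk⟩ := (Nat.dvd_prime_pow hpp).mp h1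
    have h2 : orderOf z ∣ Nat.card ↥(B ⊓ Subgroup.centralizer ({d} : Set G)) := by
      have := Subgroup.card_dvd_of_le hRD
      rwa [Nat.card_zpowers] at this
    have hk0 : k ≠ 0 := by
      rintro rfl
      rw [hk, pow_zero] at h2
      exact hpp.one_lt.ne' (Nat.dvd_one.mp h2)
    have hk2' : k ≠ 2 := by
      rintro rfl
      apply hDB
      apply Subgroup.eq_of_le_of_card_ge inf_le_left
      rw [hk, hBc]
    have hk1 : k = 1 := by omega
    rw [hk, hk1, pow_one]
  have hDR : Subgroup.zpowers z = B ⊓ Subgroup.centralizer ({d} : Set G) := by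
    apply Subgroup.eq_of_le_of_card_ge hRD
    rw [hDcard, Nat.card_zpowers]
  have hdN : d ∈ Subgroup.normalizer (B : Set G) := hEB hdE
  by_cases hS : ∀ S : Sylow (orderOf z) G, ¬ IsMulCommutative (S : Subgroup G)
  · -- nonabelian Sylow subgroups
    obtain ⟨htau2, ⟨hA0c, -⟩, h19⟩ :=
      Cfsg.Agent.S1419.result hG H hH E hE (orderOf z) hpτ hS B ⟨hBE, hBe, hBc⟩
    have hRA0 : Subgroup.zpowers z = B ⊓ Subgroup.centralizer (sigmaCore H : Set G) := by
      by_contra hne
      apply (h19 (Subgroup.zpowers z) hXE (Nat.card_zpowers z) hne).2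
      exact (Subgroup.centralizer_le_normalizer _).trans hNX
    have hσ1 : sigmaCore H ≠ ⊥ := by
      intro h
      have h1 : B ≤ B ⊓ Subgroup.centralizer (sigmaCore H : Set G) := by
        intro b hb
        refine Subgroup.mem_inf.mpr ⟨hb, ?_⟩
        rw [h, Subgroup.mem_centralizer_iff]
        intro x hx
        rw [Subgroup.coe_bot, Set.mem_singleton_iff] at hx
        rw [hx, one_mul, mul_one]
      have h2 := Subgroup.card_le_of_le h1
      rw [hBc, hA0c] at h2
      have h3 := hpp.one_lt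
      nlinarith
    have hq2 : PRankLE q 2 ↥H := by
      by_contra h
      exact hqH (bg_alpha_sub_sigma hG hU H hH ⟨hq, h⟩)
    have hq1 : PRankLE q 1 ↥H := by
      by_contra h
      have h1 : q ∈ tau2 H := ⟨hq, hqH, hq2, h⟩
      rw [htau2] at h1
      exact hpq (Set.mem_singleton_iff.mp h1).symm
    have hqdvd : q ∣ Nat.card ↥H := by
      have h := orderOf_dvd_natCard (⟨d, hdH⟩ : ↥H)
      rwa [Subgroup.orderOf_mk, hdo] at h
    obtain ⟨B1, hB1B, hB1c, hdB1, hfpf⟩ :=
      ob_exists_fpf_line hcop B hBel.1 hBel.2 hBc d hdN hdq hDcard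
    have hB1ne : B1 ≠ B ⊓ Subgroup.centralizer (sigmaCore H : Set G) := by
      intro h
      have hzB1 : z ∈ B1 := by rw [h, ← hRA0]; exact Subgroup.mem_zpowers z
      exact hz1 (hfpf z hzB1 hzd.symm)
    have hB1reg : sigmaCore H ⊓ Subgroup.centralizer (B1 : Set G) = ⊥ :=
      (h19 B1 (hB1B.trans hBE) hB1c hB1ne).1
    have hsing : sigmaCore H ⊓
        Subgroup.centralizer ((Subgroup.zpowers d : Subgroup G) : Set G) ≠ ⊥ := by
      intro hbot
      have hD1 : Subgroup.zpowers d ≠ ⊥ := by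
        intro h
        have h1 : d ∈ (⊥ : Subgroup G) := h ▸ Subgroup.mem_zpowers d
        exact hd1 (Subgroup.mem_bot.mp h1)
      have hDn : Subgroup.zpowers d ≤ Subgroup.normalizer (B1 : Set G) :=
        Subgroup.zpowers_le.mpr hdB1
      have hUn : ∀ e ∈ Subgroup.zpowers d, ∀ u ∈ B1, e * u * e⁻¹ ∈ B1 := fun e he u hu =>
        (Subgroup.mem_normalizer_iff.mp (hDn he) u).mp hu
      have hfp : ∀ e ∈ Subgroup.zpowers d, e ≠ 1 → ∀ u ∈ B1, e * u = u * e → u = 1 := by
        intro e he he1 u hu heu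
        have hle : Subgroup.zpowers e ≤ Subgroup.zpowers d := Subgroup.zpowers_le.mpr he
        have hoe : orderOf e = q := by
          have h1 : orderOf e ∣ q := by
            have h := Subgroup.card_dvd_of_le hle
            rwa [Nat.card_zpowers, Nat.card_zpowers, hdo] at h
          rcases (Nat.dvd_prime hq).mp h1 with h | h
          · exact absurd (orderOf_eq_one_iff.mp h) he1
          · exact h
        have heq : Subgroup.zpowers e = Subgroup.zpowers d := by
          apply Subgroup.eq_of_le_of_card_ge hle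
          rw [Nat.card_zpowers, Nat.card_zpowers, hoe, hdo]
        have hde : d ∈ Subgroup.zpowers e := heq ▸ Subgroup.mem_zpowers d
        obtain ⟨k, hk⟩ := Subgroup.mem_zpowers_iff.mp hde
        apply hfpf u hu
        rw [← hk]
        exact ((show Commute e u from heu).zpow_left k).eq
      have hle : B1 ⊔ Subgroup.zpowers d ≤ E :=
        sup_le (hB1B.trans hBE) (Subgroup.zpowers_le.mpr hdE)
      have hHn : ∀ x ∈ B1 ⊔ Subgroup.zpowers d, ∀ h ∈ sigmaCore H,
          x * h * x⁻¹ ∈ sigmaCore H := by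
        intro x hx h hh
        have hxN := Cfsg.Agent.Lib.helper13.le_normalizer_sigmaCore H (hE.1 (hle hx))
        exact (Subgroup.mem_normalizer_iff.mp hxN h).mp hh
      have hσtop : sigmaCore H ≠ ⊤ := by
        intro h
        apply hH.1
        rw [eq_top_iff, ← h]
        exact hE.2.1
      have hsolvσ : Group.IsSolvable ↥(sigmaCore H) := hsolv _ hσtop
      have hcopσ : (Nat.card ↥(sigmaCore H)).Coprime (Nat.card ↥(B1 ⊔ Subgroup.zpowers d)) :=
        Nat.Coprime.coprime_dvd_right (Subgroup.card_dvd_of_le hle)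
          (Cfsg.Agent.Lib.helper54.compl_card_coprime hG H hH E hE).symm
      have hff := Cfsg.Agent.Lib.helper12.ff_formula B1 (Subgroup.zpowers d) (sigmaCore H) hD1 hUn
        hfp hHn hsolvσ hcopσ
      have h1 : sigmaCore H ⊓
          Subgroup.centralizer ((B1 ⊔ Subgroup.zpowers d : Subgroup G) : Set G) = ⊥ := by
        rw [eq_bot_iff, ← hbot]
        exact inf_le_inf_left _ (Subgroup.centralizer_le
          (SetLike.coe_subset_coe.mpr (le_sup_right : Subgroup.zpowers d ≤ B1 ⊔ Subgroup.zpowers d)))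
      rw [h1, hbot, hB1reg] at hff
      simp only [Subgroup.card_bot, one_pow, one_mul, mul_one] at hff
      exact hσ1 (Subgroup.card_eq_one.mp hff)
    have hcent : B ⊓ Subgroup.centralizer (sigmaCore H : Set G) ≤
        Subgroup.centralizer ((Subgroup.zpowers d : Subgroup G) : Set G) := by
      rw [← hRA0, Subgroup.zpowers_le]
      exact mem_cent_zpowers.mpr hzd.symm
    by_cases hq' : q ∣ Nat.card ↥⁅H, H⁆
    · -- `q ∈ τ₃(H)`: `⟨d⟩` is normal in `E`, so `[B, d] ≤ B ∩ ⟨d⟩ = 1`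
      have hqτ3 : q ∈ tau3 H := ⟨hq, hqH, hq', hq1⟩
      have hEtop : E ≠ ⊤ := by
        intro h
        apply hH.1
        rw [eq_top_iff, ← h]
        exact hE.1
      have hsolvE : Group.IsSolvable ↥E := hsolv E hEtop
      obtain ⟨H3, hH3⟩ := Cfsg.Agent.Lib.lead.exists_isPiHall_of_isSolvable (tau3 H) ↥E
      have hHall : IsPiHallOf (tau3 H) (H3.map E.subtype) E := by
        refine ⟨Subgroup.map_subtype_le _, ?_, ?_⟩
        · intro r hr hrd
          rw [Subgroup.card_map_of_injective (Subgroup.subtype_injective E)] at hrd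
          exact hH3.1 r hr hrd
        · intro r hr hrτ
          have h1 : (H3.map E.subtype).relIndex E = H3.index := by
            show ((H3.map E.subtype).subgroupOf E).index = _
            congr 1
            exact Subgroup.comap_map_eq_self_of_injective (Subgroup.subtype_injective E) _
          rw [h1]
          exact hH3.2 r hr hrτ
      obtain ⟨hcyc3, -, hnorm3⟩ := (Cfsg.Agent.S1415.result hG H hH E hE).2.2 _ hHall
      have hdE3 : d ∈ H3.map E.subtype := by
        apply ob_mem_of_coprime_index E _ hnorm3 d hdE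
        rw [hdo]
        exact (Nat.Prime.coprime_iff_not_dvd hq).mpr (hHall.2.2 q hq hqτ3)
      have hEd : ∀ e ∈ E, e * d * e⁻¹ ∈ Subgroup.zpowers d := by
        intro e he
        have h1 : e * d * e⁻¹ ∈ H3.map E.subtype :=
          (Subgroup.mem_normalizer_iff.mp (hnorm3 he) d).mp hdE3
        exact Cfsg.Agent.Lib.helper25.BG1428.mem_zpowers_of_isCyclic hcyc3 hdE3 h1
          (by rw [conj_pow, pow_orderOf_eq_one, mul_one, mul_inv_cancel])
      apply hdB
      intro b hb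
      have hbE : b ∈ E := hBE hb
      have hw1 : b * d * b⁻¹ * d⁻¹ ∈ Subgroup.zpowers d :=
        (Subgroup.zpowers d).mul_mem (hEd b hbE)
          ((Subgroup.zpowers d).inv_mem (Subgroup.mem_zpowers d))
      have hw2 : b * d * b⁻¹ * d⁻¹ ∈ B := by
        have h1 : d * b⁻¹ * d⁻¹ ∈ B :=
          (Subgroup.mem_normalizer_iff.mp hdN b⁻¹).mp (B.inv_mem hb)
        have he : b * d * b⁻¹ * d⁻¹ = b * (d * b⁻¹ * d⁻¹) := by group
        rw [he]; exact B.mul_mem hb h1
      have hwq : (b * d * b⁻¹ * d⁻¹) ^ q = 1 := by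
        obtain ⟨k, hk⟩ := Subgroup.mem_zpowers_iff.mp hw1
        rw [← hk, ← zpow_natCast, ← zpow_mul, mul_comm, zpow_mul, zpow_natCast, hdq, one_zpow]
      have hw : b * d * b⁻¹ * d⁻¹ = 1 := ob_eq_one_of_pow hcop (hBel.2 _ hw2) hwq
      have h3 : b * d = (b * d * b⁻¹ * d⁻¹) * (d * b) := by group
      rw [hw, one_mul] at h3
      exact h3.symm
    · -- `q ∈ τ₁(H)`: this is `NAHyp`
      exact hNA H hH E hE (orderOf z) hpτ hS B hBE hBe hBc q ⟨hq, hqH, hqdvd, hq', hq1⟩
        (Subgroup.zpowers d) (Subgroup.zpowers_le.mpr hdE) (by rw [Nat.card_zpowers, hdo]) hsing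
        hcent
  · -- abelian Sylow subgroups: `N_G(B)` normalizes `C_B(d) = ⟨z⟩`
    push_neg at hS
    obtain ⟨S₀, hS₀⟩ := hS
    have hBp : IsPGroup (orderOf z) B := IsPGroup.of_card hBc
    obtain ⟨S₁, hBS₁⟩ := hBp.exists_le_sylow
    obtain ⟨g, hg⟩ := MulAction.exists_smul_eq G S₀ S₁
    have hSab : ∀ a ∈ (S₁ : Subgroup G), ∀ b ∈ (S₁ : Subgroup G), a * b = b * a := by
      intro a ha b hb
      rw [← hg] at ha hb
      have ha' := (bg_mem_smul_sylow S₀ g a).mp ha
      have hb' := (bg_mem_smul_sylow S₀ g b).mp hb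
      have hcomm : (⟨g⁻¹ * a * g, ha'⟩ : (S₀ : Subgroup G)) * ⟨g⁻¹ * b * g, hb'⟩ =
          ⟨g⁻¹ * b * g, hb'⟩ * ⟨g⁻¹ * a * g, ha'⟩ := isMulCommutative_iff.mp hS₀ _ _
      have h1 : g⁻¹ * a * g * (g⁻¹ * b * g) = g⁻¹ * b * g * (g⁻¹ * a * g) :=
        congrArg Subtype.val hcomm
      have h2 : g⁻¹ * (a * b) * g = g⁻¹ * (b * a) * g := by
        calc g⁻¹ * (a * b) * g = g⁻¹ * a * g * (g⁻¹ * b * g) := by group
          _ = g⁻¹ * b * g * (g⁻¹ * a * g) := h1
          _ = g⁻¹ * (b * a) * g := by group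
      exact mul_left_cancel (mul_right_cancel h2)
    have c8 : BG8Ctx H E B (orderOf z) S₁ := ⟨hH, hE, hpτ, ⟨hBE, hBe, hBc⟩, hSab, hBS₁⟩
    have hcomm := Cfsg.Agent.Lib.helper36.bg8_comm_le_cent hG c8
    have key : ∀ n ∈ Subgroup.normalizer (B : Set G), n * z * n⁻¹ ∈ Subgroup.zpowers z := by
      intro n hn
      rw [hDR]
      refine Subgroup.mem_inf.mpr ⟨(Subgroup.mem_normalizer_iff.mp hn z).mp hzB, ?_⟩
      rw [mem_cent_singleton]
      have hc0 := hcomm n⁻¹ (inv_mem hn) d hdN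
      have hyc0 := Subgroup.mem_centralizer_iff.mp hc0 z hzB
      have e1 : n⁻¹ * d * n = (n⁻¹ * d * n⁻¹⁻¹ * d⁻¹) * d := by group
      calc d * (n * z * n⁻¹) = n * ((n⁻¹ * d * n) * z) * n⁻¹ := by group
        _ = n * ((n⁻¹ * d * n⁻¹⁻¹ * d⁻¹) * d * z) * n⁻¹ := by rw [e1]
        _ = n * ((n⁻¹ * d * n⁻¹⁻¹ * d⁻¹) * (z * d)) * n⁻¹ := by rw [mul_assoc _ d z, hzd.symm]
        _ = n * (((n⁻¹ * d * n⁻¹⁻¹ * d⁻¹) * z) * d) * n⁻¹ := by rw [mul_assoc _ z d]
        _ = n * ((z * (n⁻¹ * d * n⁻¹⁻¹ * d⁻¹)) * d) * n⁻¹ := by rw [hyc0]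
        _ = n * (z * (n⁻¹ * d * n)) * n⁻¹ := by rw [mul_assoc z _ d, ← e1]
        _ = n * z * n⁻¹ * d := by group
    have keyz : ∀ n ∈ Subgroup.normalizer (B : Set G), ∀ h ∈ Subgroup.zpowers z,
        n * h * n⁻¹ ∈ Subgroup.zpowers z := by
      intro n hn h hh
      obtain ⟨k, rfl⟩ := Subgroup.mem_zpowers_iff.mp hh
      have he : n * z ^ k * n⁻¹ = (n * z * n⁻¹) ^ k := by
        rw [conj_zpow]
      rw [he]
      exact Subgroup.zpow_mem _ (key n hn) k
    apply hNB
    intro n hn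
    apply hNX
    rw [Subgroup.mem_normalizer_iff]
    intro h
    constructor
    · exact keyz n hn h
    · intro hh
      have h4 := keyz n⁻¹ (inv_mem hn) _ hh
      have e : n⁻¹ * (n * h * n⁻¹) * n⁻¹⁻¹ = h := by group
      rwa [e] at h4

/-- **(O-b) from (NA).**  For a Hall `κ(M)`-subgroup `K` of a maximal subgroup `M`, every subgroup
`X` of prime order of `K` lies in `M*_σ` for every maximal subgroup `M*` containing `N_G(X)`. -/
theorem sigmaHyp_of_na [Finite G] (hG : IsMinSimpleOddOrder G) (hNA : NAHyp G) (M K : Subgroup G)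
    (hM : IsCoatom M) (hK : IsPiHallOf (kappa M) K M) : SigmaHyp M K := by
  intro X hXK hXp H hH hNX
  obtain ⟨z, hzX, hzo, rfl⟩ := ob_exists_gen X hXp
  have hzM : z ∈ M := hK.1 (hXK hzX)
  have hzκ : orderOf z ∈ kappa M := by
    have h := hK.2.1 _ hXp (Subgroup.card_dvd_of_le hXK)
    rwa [Nat.card_zpowers] at h
  have hσ := ob_core hG hNA M H hM hH z hzM hzκ hNX
  have hU : BGUniqHyp G := fun K hK h1 h2 => Cfsg.Agent.S1403.result hG K hK h1 h2
  have hF : BGFusHyp G := by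
    intro M hM p hp X hXp hX1 hXM g hg
    have : Fact p.Prime := ⟨hp.1⟩
    exact (Cfsg.Agent.S1404.result hG M hM p hp X hXp hX1 hXM).1 g hg
  have hzH : z ∈ H := hNX (Subgroup.le_normalizer (Subgroup.mem_zpowers z))
  exact bg_pgroup_le_sigmaCore hG hU hF H hH hσ _ (Subgroup.zpowers_le.mpr hzH)
    (IsPGroup.of_card (n := 1) (by rw [Nat.card_zpowers, pow_one]))


end Cfsg.Agent.Lib.helper56.BGOb
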