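/-
S1430 (O-c), PIECE B of `tools/S1430_OC_SPEC.md`: in the `τ₃` context (`R ≤ E` of order
`r ∈ τ₃(M)`), a maximal subgroup `H ≥ N_G(R)` is not conjugate to `M` and `M_σ ∩ H = C_{M_σ}(R)`.

Also two tools shared with PIECE X:
* `cross_tau2`: a subgroup `X ≤ H` of prime order `s ∈ τ₂(H)` centralizes every `X`-invariant
  subgroup of `M_σ ∩ H` (`H` not conjugate to `M`);
* `comm_centralizes_norm`: two elements normalizing an elementary abelian group `A` of order `p²`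
  and a line `P ≤ A` have a commutator which centralizes `A` as soon as its order is prime to `p`.
-/
import Mathlib
import Cfsg.Agent.Lib.helper8.BGT3Defs
import Cfsg.Agent.Lib.helper54.BG1428Good

set_option autoImplicit false

namespace Cfsg.Agent.Lib.helper56.BGT3

open Cfsg Cfsg.Agent.Lib.helper8.BGT3
open scoped commutatorElement

variable {G : Type*} [Group G] [Finite G]

/-- `H` a maximal subgroup not conjugate to `M`, `X ≤ H` of prime order `s ∈ τ₂(H)`, `s ∉ σ(M)`,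
`Y0 ≤ M_σ ∩ H` normalized by `X`: then `X` centralizes `Y0`. -/
theorem cross_tau2 (hG : IsMinSimpleOddOrder G) (M H : Subgroup G) (hM : IsCoatom M)
    (hH : IsCoatom H) (hnc : ∀ g : G, H ≠ M.map (MulAut.conj g).toMonoidHom)
    (s : ℕ) (hsM : s ∉ sigma M) (hτ2 : s ∈ tau2 H) (X : Subgroup G) (hXH : X ≤ H)
    (hX : Nat.card X = s) (Y0 : Subgroup G) (hY0σ : Y0 ≤ sigmaCore M) (hY0H : Y0 ≤ H)
    (hXY : X ≤ Subgroup.normalizer (Y0 : Set G)) : Y0 ≤ Subgroup.centralizer (X : Set G) := by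
  obtain ⟨hs, hsσ, -, -⟩ := id hτ2
  haveI : Fact s.Prime := ⟨hs⟩
  have hU := Cfsg.Agent.Lib.helper13.bgx_uniq hG
  have hF := Cfsg.Agent.Lib.helper13.bgx_fus hG
  have h16 : Cfsg.Agent.Lib.helper8.BGTwelveFourHyp G :=
    fun M hM p _ A hA => Cfsg.Agent.S1416.result hG M hM p A hA
  have h17 : Cfsg.Agent.Lib.helper97.BG7FiveHyp G :=
    fun M hM p _ hp A hA => Cfsg.Agent.S1417.result hG M hM p hp A hA
  have h18 := Cfsg.Agent.Lib.helper97.bg7_six_of hG h16 h17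
  have hprimeX : ∀ q : ℕ, q.Prime → q ∣ Nat.card X → q = s := by
    intro q hq hqX
    rw [hX] at hqX
    exact (Nat.prime_dvd_prime_iff_eq hq hs).mp hqX
  have hcopMs : (Nat.card (sigmaCore M)).Coprime s :=
    Cfsg.Agent.Lib.helper8.bg_sigmaCore_card_coprime M hs hsM
  obtain ⟨E0, hE0, hXE0⟩ :=
    Cfsg.Agent.Lib.helper60.BGCentU.exists_compl_ge hG H hH X hXH (by
      intro q hq hqX hqH
      exact hsσ (hprimeX q hq hqX ▸ hqH))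
  obtain ⟨B0, hB0E, hB0, hB0c⟩ :=
    Cfsg.Agent.Lib.helper97.bg7_exists_elemAb_compl H E0 hE0 s hτ2
  obtain ⟨hnilH, -⟩ :=
    Cfsg.Agent.S1417.result hG H hH s hτ2 B0 ⟨hB0E.trans hE0.1, hB0, hB0c⟩
  have hdisj : ∀ q : ℕ, q ∈ sigma M → q ∉ sigma H := fun q hqM hqH =>
    Cfsg.Agent.Lib.helper55.BGJ.not_mem_sigma_of_nilpotent hG hU hF hM hH hnilH hnc hqM hqH
  obtain ⟨T, hTdef⟩ : ∃ T : Subgroup G, T = X ⊔ Y0 := ⟨_, rfl⟩
  have hTcard : Nat.card T ∣ Nat.card X * Nat.card Y0 :=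
    hTdef ▸ Cfsg.Agent.Lib.helper65.card_sup_dvd_mul hXY
  have hTH : T ≤ H := hTdef ▸ sup_le hXH hY0H
  obtain ⟨E1, hE1, hTE1⟩ :=
    Cfsg.Agent.Lib.helper60.BGCentU.exists_compl_ge hG H hH T hTH (by
      intro q hq hqT hqH
      rcases (Nat.Prime.dvd_mul hq).mp (hqT.trans hTcard) with h | h
      · exact hsσ (hprimeX q hq h ▸ hqH)
      · exact hdisj q
          (Cfsg.Agent.Lib.helper54.PrimeAct.mem_sigma_of_dvd hG M hM hY0σ hq h) hqH)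
  obtain ⟨B, hBE, hB, hBc⟩ :=
    Cfsg.Agent.Lib.helper97.bg7_exists_elemAb_compl H E1 hE1 s hτ2
  obtain ⟨⟨hE1N, hsub⟩, -, -⟩ := h18 H hH E1 hE1 s hτ2 B ⟨hBE, hB, hBc⟩
  have hXT : X ≤ T := hTdef ▸ le_sup_left
  have hY0T : Y0 ≤ T := hTdef ▸ le_sup_right
  have hXB : X ≤ B := hsub X (hXT.trans hTE1) hX
  rw [← Subgroup.commutator_eq_bot_iff_le_centralizer]
  have hWY : ⁅Y0, X⁆ ≤ Y0 := Cfsg.Agent.Lib.helper1.commutator_le_of_le_normalizer hXY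
  have hWB : ⁅Y0, X⁆ ≤ B := by
    rw [Subgroup.commutator_le]
    intro y hy x hx
    rw [commutatorElement_def]
    have hyN : y ∈ Subgroup.normalizer (B : Set G) := hE1N (hTE1 (hY0T hy))
    have h1 : y * x * y⁻¹ ∈ B := (Subgroup.mem_normalizer_iff.mp hyN x).mp (hXB hx)
    exact B.mul_mem h1 (B.inv_mem (hXB hx))
  have hcop : (Nat.card ↥⁅Y0, X⁆).Coprime (Nat.card B) := by
    rw [hBc]
    exact Nat.Coprime.pow_right 2
      (hcopMs.coprime_dvd_left (Subgroup.card_dvd_of_le (hWY.trans hY0σ)))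
  exact Subgroup.card_eq_one.mp (Nat.Coprime.eq_one_of_dvd hcop (Subgroup.card_dvd_of_le hWB))

/-- Two elements normalizing an elementary abelian group `A` of order `p²` and normalizing a
subgroup `P ≤ A` of order `p`: their commutator, if of order prime to `p`, centralizes `A`. -/
theorem comm_centralizes_norm {p : ℕ} [Fact p.Prime] (A P : Subgroup G)
    (hA : IsElementaryAbelian p A) (hAc : Nat.card A = p ^ 2) (hPA : P ≤ A)
    (hP : Nat.card P = p) {g h : G} (hg : g ∈ Subgroup.normalizer (A : Set G))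
    (hgP : g ∈ Subgroup.normalizer (P : Set G)) (hh : h ∈ Subgroup.normalizer (A : Set G))
    (hhP : h ∈ Subgroup.normalizer (P : Set G))
    (hcop : (orderOf (g * h * g⁻¹ * h⁻¹)).Coprime p) :
    g * h * g⁻¹ * h⁻¹ ∈ Subgroup.centralizer (A : Set G) := by
  have hp : p.Prime := Fact.out
  have hAcomm := ((Cfsg.Agent.Lib.helper8.bg_elemAb_iff A).mp hA).1
  have hPp : IsPGroup p P := IsPGroup.of_card (n := 1) (by rw [hP, pow_one])
  obtain ⟨a₀, ha₀A, ha₀P⟩ : ∃ a₀ ∈ A, a₀ ∉ P := by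
    by_contra hcon
    push Not at hcon
    have h1 : Nat.card A ≤ Nat.card P := Subgroup.card_le_of_le (fun a ha => hcon a ha)
    rw [hAc, hP] at h1
    have : p < p ^ 2 := by nlinarith [hp.two_le]
    omega
  obtain ⟨Q, hQdef⟩ : ∃ Q : Subgroup G, Q = P ⊔ Subgroup.zpowers a₀ := ⟨_, rfl⟩
  have hPQ : P ≤ Q := hQdef ▸ le_sup_left
  have hQA : Q ≤ A := by
    rw [hQdef]; exact sup_le hPA (by rw [Subgroup.zpowers_le]; exact ha₀A)
  have ha₀Q : a₀ ∈ Q :=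
    hQdef ▸ (le_sup_right : Subgroup.zpowers a₀ ≤ P ⊔ Subgroup.zpowers a₀)
      (Subgroup.mem_zpowers a₀)
  have hQeq : Q = A := by
    apply Subgroup.eq_of_le_of_card_ge hQA
    have h1 : Nat.card Q ∣ p ^ 2 := hAc ▸ Subgroup.card_dvd_of_le hQA
    have h2 : p ∣ Nat.card Q := hP ▸ Subgroup.card_dvd_of_le hPQ
    obtain ⟨j, hj, hjc⟩ := (Nat.dvd_prime_pow hp).mp h1
    have hj1 : j ≠ 1 := by
      rintro rfl
      rw [pow_one] at hjc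
      have h3 : P = Q := Subgroup.eq_of_le_of_card_ge hPQ (by rw [hjc, hP])
      exact ha₀P (h3 ▸ ha₀Q)
    have hj0 : j ≠ 0 := by
      rintro rfl
      rw [pow_zero] at hjc
      rw [hjc] at h2
      exact hp.one_lt.ne' (Nat.dvd_one.mp h2)
    have hj2 : j = 2 := by omega
    rw [hAc, hjc, hj2]
  have hzc : ∀ a ∈ P, ∀ b ∈ Subgroup.zpowers a₀, a * b = b * a := by
    intro a ha b hb
    obtain ⟨k, rfl⟩ := Subgroup.mem_zpowers_iff.mp hb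
    exact hAcomm a (hPA ha) _ (A.zpow_mem ha₀A k)
  have hdec : ∀ b ∈ A, ∃ i : ℤ, b * (a₀ ^ i)⁻¹ ∈ P := by
    intro b hb
    rw [← hQeq, hQdef] at hb
    obtain ⟨z, hz, c, hc, rfl⟩ := Cfsg.Agent.Lib.helper54.Good.mem_sup_of_comm hzc hb
    obtain ⟨i, rfl⟩ := Subgroup.mem_zpowers_iff.mp hc
    refine ⟨i, ?_⟩
    have h1 : z * a₀ ^ i * (a₀ ^ i)⁻¹ = z := by group
    rw [h1]; exact hz
  have hconjA : ∀ t ∈ Subgroup.normalizer (A : Set G), ∀ a ∈ A, t * a * t⁻¹ ∈ A :=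
    fun t ht a ha => (Subgroup.mem_normalizer_iff.mp ht a).mp ha
  have hconjP : ∀ t ∈ Subgroup.normalizer (P : Set G), ∀ z ∈ P, t * z * t⁻¹ ∈ P :=
    fun t ht z hz => (Subgroup.mem_normalizer_iff.mp ht z).mp hz
  have hstep : ∀ t ∈ Subgroup.normalizer (P : Set G), ∀ (b c : G), b * c⁻¹ ∈ P →
      (t * b * t⁻¹) * (t * c * t⁻¹)⁻¹ ∈ P := by
    intro t htP b c hbc
    have h1 : (t * b * t⁻¹) * (t * c * t⁻¹)⁻¹ = t * (b * c⁻¹) * t⁻¹ := by group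
    rw [h1]; exact hconjP t htP _ hbc
  have hpow : ∀ (b c : G), b ∈ A → c ∈ A → b * c⁻¹ ∈ P → ∀ j : ℤ, b ^ j * (c ^ j)⁻¹ ∈ P := by
    intro b c hb hc hbc j
    have hcomm : Commute b c⁻¹ := hAcomm b hb c⁻¹ (A.inv_mem hc)
    have h1 : b ^ j * (c ^ j)⁻¹ = (b * c⁻¹) ^ j := by
      rw [hcomm.mul_zpow, inv_zpow]
    rw [h1]; exact P.zpow_mem hbc j
  have htrans : ∀ b c d : G, b * c⁻¹ ∈ P → c * d⁻¹ ∈ P → b * d⁻¹ ∈ P := by
    intro b c d h1 h2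
    have h3 : b * d⁻¹ = (b * c⁻¹) * (c * d⁻¹) := by group
    rw [h3]; exact P.mul_mem h1 h2
  have hkey : ∀ s t : G, s ∈ Subgroup.normalizer (A : Set G) →
      s ∈ Subgroup.normalizer (P : Set G) → t ∈ Subgroup.normalizer (A : Set G) →
      t ∈ Subgroup.normalizer (P : Set G) → ∀ i j : ℤ, (s * a₀ * s⁻¹) * (a₀ ^ i)⁻¹ ∈ P →
      (t * a₀ * t⁻¹) * (a₀ ^ j)⁻¹ ∈ P →
      (s * (t * a₀ * t⁻¹) * s⁻¹) * ((a₀ ^ i) ^ j)⁻¹ ∈ P := by
    intro s t hsN hsP htN _ i j hi hj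
    have h1 := hstep s hsP (t * a₀ * t⁻¹) (a₀ ^ j) hj
    have h2 : s * a₀ ^ j * s⁻¹ = (s * a₀ * s⁻¹) ^ j := conj_zpow.symm
    rw [h2] at h1
    have h3 := hpow (s * a₀ * s⁻¹) (a₀ ^ i) (hconjA s hsN a₀ ha₀A) (A.zpow_mem ha₀A i) hi j
    exact htrans _ _ _ h1 h3
  have hg'N : g⁻¹ ∈ Subgroup.normalizer (A : Set G) := Subgroup.inv_mem _ hg
  have hg'P : g⁻¹ ∈ Subgroup.normalizer (P : Set G) := Subgroup.inv_mem _ hgP
  have hh'N : h⁻¹ ∈ Subgroup.normalizer (A : Set G) := Subgroup.inv_mem _ hh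
  have hh'P : h⁻¹ ∈ Subgroup.normalizer (P : Set G) := Subgroup.inv_mem _ hhP
  obtain ⟨i, hi⟩ := hdec (g⁻¹ * a₀ * g⁻¹⁻¹) (hconjA g⁻¹ hg'N a₀ ha₀A)
  obtain ⟨j, hj⟩ := hdec (h⁻¹ * a₀ * h⁻¹⁻¹) (hconjA h⁻¹ hh'N a₀ ha₀A)
  have hu1 := hkey g⁻¹ h⁻¹ hg'N hg'P hh'N hh'P i j hi hj
  have hu2 := hkey h⁻¹ g⁻¹ hh'N hh'P hg'N hg'P j i hj hi
  have hij : (a₀ ^ i) ^ j = (a₀ ^ j) ^ i := by rw [← zpow_mul, ← zpow_mul, mul_comm]
  have hu : (g⁻¹ * (h⁻¹ * a₀ * h⁻¹⁻¹) * g⁻¹⁻¹) * (h⁻¹ * (g⁻¹ * a₀ * g⁻¹⁻¹) * h⁻¹⁻¹)⁻¹ ∈ P := by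
    have h4 : (a₀ ^ j) ^ i * (h⁻¹ * (g⁻¹ * a₀ * g⁻¹⁻¹) * h⁻¹⁻¹)⁻¹ ∈ P := by
      have h5 := P.inv_mem hu2
      have e : ((h⁻¹ * (g⁻¹ * a₀ * g⁻¹⁻¹) * h⁻¹⁻¹) * ((a₀ ^ j) ^ i)⁻¹)⁻¹ =
          (a₀ ^ j) ^ i * (h⁻¹ * (g⁻¹ * a₀ * g⁻¹⁻¹) * h⁻¹⁻¹)⁻¹ := by group
      rwa [e] at h5
    rw [hij] at hu1
    exact htrans _ _ _ hu1 h4
  obtain ⟨w, hw⟩ : ∃ w : G, w = g * h * g⁻¹ * h⁻¹ := ⟨_, rfl⟩
  rw [← hw] at hcop ⊢
  -- `w` centralizes the cyclic group `P`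
  have hwP : w ∈ Subgroup.centralizer (P : Set G) := by
    have hPne : P ≠ ⊥ := by
      intro hbot
      rw [hbot, Subgroup.card_bot] at hP
      exact hp.one_lt.ne hP
    obtain ⟨z₀, hz₀P, hz₀1'⟩ : ∃ z₀ : G, z₀ ∈ P ∧ z₀ ≠ 1 := by
      obtain ⟨z, hz⟩ := (Subgroup.ne_bot_iff_exists_ne_one).mp hPne
      exact ⟨z, z.2, fun h => hz (Subtype.ext h)⟩
    have hz₀o : orderOf z₀ = p := by
      have hdvd : orderOf z₀ ∣ p := by
        have h := orderOf_dvd_natCard (⟨z₀, hz₀P⟩ : P)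
        rwa [Subgroup.orderOf_mk, hP] at h
      rcases (Nat.dvd_prime hp).mp hdvd with h | h
      · exact absurd (orderOf_eq_one_iff.mp h) hz₀1'
      · exact h
    have hPz : Subgroup.zpowers z₀ = P := by
      apply Subgroup.eq_of_le_of_card_ge (Subgroup.zpowers_le.mpr hz₀P)
      rw [Nat.card_zpowers, hz₀o, hP]
    have hpw : ∀ t ∈ Subgroup.normalizer (P : Set G), ∃ i : ℤ, t * z₀ * t⁻¹ = z₀ ^ i := by
      intro t ht
      have h1 := hconjP t ht _ hz₀P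
      rw [← hPz] at h1
      obtain ⟨i, hi⟩ := Subgroup.mem_zpowers_iff.mp h1
      exact ⟨i, hi.symm⟩
    have hclaim : ∀ s t : G, s ∈ Subgroup.normalizer (P : Set G) →
        t ∈ Subgroup.normalizer (P : Set G) →
        (s * t) * z₀ * (s * t)⁻¹ = (t * s) * z₀ * (t * s)⁻¹ := by
      intro s t hs ht
      obtain ⟨i, hi⟩ := hpw s hs
      obtain ⟨j, hj⟩ := hpw t ht
      have h1 : (s * t) * z₀ * (s * t)⁻¹ = (z₀ ^ i) ^ j := by
        calc (s * t) * z₀ * (s * t)⁻¹ = s * (t * z₀ * t⁻¹) * s⁻¹ := by group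
          _ = s * z₀ ^ j * s⁻¹ := by rw [hj]
          _ = (s * z₀ * s⁻¹) ^ j := conj_zpow.symm
          _ = (z₀ ^ i) ^ j := by rw [hi]
      have h2 : (t * s) * z₀ * (t * s)⁻¹ = (z₀ ^ j) ^ i := by
        calc (t * s) * z₀ * (t * s)⁻¹ = t * (s * z₀ * s⁻¹) * t⁻¹ := by group
          _ = t * z₀ ^ i * t⁻¹ := by rw [hi]
          _ = (t * z₀ * t⁻¹) ^ i := conj_zpow.symm
          _ = (z₀ ^ j) ^ i := by rw [hj]
      rw [h1, h2, ← zpow_mul, ← zpow_mul, mul_comm]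
    have h3 := hclaim g⁻¹ h⁻¹ hg'P hh'P
    have hwz : w * z₀ = z₀ * w := by
      have e1 : w * z₀ = (h⁻¹ * g⁻¹)⁻¹ * ((g⁻¹ * h⁻¹) * z₀ * (g⁻¹ * h⁻¹)⁻¹) *
          (h⁻¹ * g⁻¹) * w := by
        rw [hw]; group
      rw [e1, h3]
      group
    rw [Subgroup.mem_centralizer_iff]
    intro z hz
    rw [← hPz] at hz
    obtain ⟨k, rfl⟩ := Subgroup.mem_zpowers_iff.mp hz
    exact ((show Commute w z₀ from hwz).zpow_right k).eq.symm
  have hz0 : w * a₀ * w⁻¹ * a₀⁻¹ ∈ P := by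
    have e : w * a₀ * w⁻¹ * a₀⁻¹ = (h⁻¹ * g⁻¹)⁻¹ *
        ((g⁻¹ * (h⁻¹ * a₀ * h⁻¹⁻¹) * g⁻¹⁻¹) * (h⁻¹ * (g⁻¹ * a₀ * g⁻¹⁻¹) * h⁻¹⁻¹)⁻¹) *
        (h⁻¹ * g⁻¹)⁻¹⁻¹ := by
      rw [hw]; group
    rw [e]
    exact hconjP _ (Subgroup.inv_mem _ (Subgroup.mul_mem _ hh'P hg'P)) _ hu
  have hcomm0 : Commute w a₀ :=
    Cfsg.Agent.Lib.helper55.commute_of_quadratic hPp hcop hz0
      ((Subgroup.mem_centralizer_iff.mp hwP) _ hz0).symm
  rw [← hQeq, hQdef, Subgroup.mem_centralizer_iff]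
  intro b hb
  obtain ⟨z, hz, c, hc, rfl⟩ := Cfsg.Agent.Lib.helper54.Good.mem_sup_of_comm hzc hb
  obtain ⟨k, rfl⟩ := Subgroup.mem_zpowers_iff.mp hc
  have h1 : z * w = w * z := (Subgroup.mem_centralizer_iff.mp hwP) z hz
  have h2 : a₀ ^ k * w = w * a₀ ^ k := ((hcomm0.zpow_right k).eq).symm
  calc z * a₀ ^ k * w = z * (a₀ ^ k * w) := by group
    _ = z * (w * a₀ ^ k) := by rw [h2]
    _ = (z * w) * a₀ ^ k := by group
    _ = w * z * a₀ ^ k := by rw [h1]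
    _ = w * (z * a₀ ^ k) := by group

/-- PIECE B. -/
theorem t3_H (hG : IsMinSimpleOddOrder G) : HH G := by
  intro M E R r hctx H hH hNH
  obtain ⟨hM, hE, hr3, hRE, hR⟩ := hctx
  obtain ⟨hr, hrM, -, hrk⟩ := id hr3
  haveI : Fact r.Prime := ⟨hr⟩
  have hRp : IsPGroup r R := IsPGroup.of_card (n := 1) (by rw [hR, pow_one])
  have hRM : R ≤ M := hRE.trans hE.1
  have hRH : R ≤ H := Subgroup.le_normalizer.trans hNH
  have hCRH : Subgroup.centralizer (R : Set G) ≤ H :=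
    (Subgroup.centralizer_le_normalizer _).trans hNH
  have hA₁H : ∀ A₁ : Subgroup G, IsElementaryAbelian r A₁ → R ≤ A₁ → A₁ ≤ H := by
    intro A₁ hA₁ hRA₁
    have hA₁comm := ((Cfsg.Agent.Lib.helper8.bg_elemAb_iff A₁).mp hA₁).1
    refine le_trans ?_ hCRH
    intro a ha
    rw [Subgroup.mem_centralizer_iff]
    intro x hx
    exact hA₁comm x (hRA₁ hx) a ha
  have hnc : ∀ g : G, H ≠ M.map (MulAut.conj g).toMonoidHom := by
    intro g hHg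
    by_cases hrH : r ∈ sigma H
    · rw [hHg, Cfsg.Agent.Lib.helper3.sigma_map_conj] at hrH
      exact hrM hrH
    · obtain ⟨-, -, A₁, hA₁, hA₁c, hRA₁⟩ := Cfsg.Agent.S1409.result hG H hH r hrH R hR hNH
      exact Cfsg.Agent.Lib.helper54.Good.no_elemAb_conj hr hrk A₁ hA₁ hA₁c g
        (hHg ▸ hA₁H A₁ hA₁ hRA₁)
  refine ⟨hnc, le_antisymm ?_ (inf_le_inf_left _ hCRH)⟩
  refine le_inf inf_le_left ?_
  have hRJ : R ≤ Subgroup.normalizer ((sigmaCore M ⊓ H : Subgroup G) : Set G) := by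
    intro x hx
    apply Cfsg.Agent.Lib.helper13.mem_normalizer_of_forall_conj_mem
    intro y hy
    obtain ⟨hyσ, hyH⟩ := Subgroup.mem_inf.mp hy
    refine Subgroup.mem_inf.mpr ⟨?_, ?_⟩
    · have hxN := Cfsg.Agent.Lib.helper13.le_normalizer_sigmaCore M (hRM hx)
      exact (Subgroup.mem_normalizer_iff.mp hxN y).mp hyσ
    · exact H.mul_mem (H.mul_mem (hRH hx) hyH) (H.inv_mem (hRH hx))
  by_cases hrσ : r ∈ sigma H
  · exact Cfsg.Agent.Lib.helper3.bg_cross_centralize hG M H hM hH r hrM hrσ R hRp hRH _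
      inf_le_left inf_le_right hRJ
  · obtain ⟨⟨hr2, hr1⟩, -, -⟩ := Cfsg.Agent.S1409.result hG H hH r hrσ R hR hNH
    exact cross_tau2 hG M H hM hH hnc r hrM ⟨hr, hrσ, hr2, hr1⟩ R hRH hR _
      inf_le_left inf_le_right hRJ

end Cfsg.Agent.Lib.helper56.BGT3
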