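/-
S1430 (O-c), PIECE X of `tools/S1430_OC_SPEC.md` (cross-centralizing, base `τ₃`): in the `τ₃`
context (`R ≤ E` of order `r ∈ τ₃(M)`, `H ≥ N_G(R)` maximal), a subgroup `X ≤ E` of prime order
`s` centralizes `C_{M_σ}(R)` unless `s ∈ τ₁(H)` and `r ∈ σ(H)`.

Cases on the type of `s` in `H` (as in `Cfsg.Agent.Lib.helper54.Good.good_cases`):
`σ(H)` (cross-centralizing lemma), `τ₃(H)` (`H'/H_α` nilpotent), `τ₁(H)` (then `r ∈ τ₂(H)`:
the `L`-argument) and `τ₂(H)` (`cross_tau2`).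
-/
import Mathlib
import Cfsg.Agent.Lib.helper56.BGT3B

set_option autoImplicit false

namespace Cfsg.Agent.Lib.helper56.BGT3

open Cfsg Cfsg.Agent.Lib.helper8.BGT3
open scoped commutatorElement

variable {G : Type*} [Group G] [Finite G]

/-- PIECE X. -/
theorem t3_cross (hG : IsMinSimpleOddOrder G) (hN : HNorm G) (hH : HH G) : HCross G := by
  intro M E R r hctx H hHc hNH X hXE hXp hor
  obtain ⟨hM, hE, hr3, hRE, hR⟩ := id hctx
  obtain ⟨hr, hrM, -, hrk⟩ := id hr3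
  obtain ⟨hEN, -⟩ := hN M E R r hctx
  obtain ⟨hnc, -⟩ := hH M E R r hctx H hHc hNH
  haveI : Fact r.Prime := ⟨hr⟩
  obtain ⟨s, hsdef⟩ : ∃ s : ℕ, s = Nat.card X := ⟨_, rfl⟩
  rw [← hsdef] at hXp hor
  haveI : Fact s.Prime := ⟨hXp⟩
  have hU := Cfsg.Agent.Lib.helper13.bgx_uniq hG
  have hF := Cfsg.Agent.Lib.helper13.bgx_fus hG
  obtain ⟨hodd, hsimple, hna, hsolv⟩ := id hG
  have h16 : Cfsg.Agent.Lib.helper8.BGTwelveFourHyp G :=
    fun M hM p _ A hA => Cfsg.Agent.S1416.result hG M hM p A hA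
  have h17 : Cfsg.Agent.Lib.helper97.BG7FiveHyp G :=
    fun M hM p _ hp A hA => Cfsg.Agent.S1417.result hG M hM p hp A hA
  have h18 := Cfsg.Agent.Lib.helper97.bg7_six_of hG h16 h17
  have hXs : IsPGroup s X := IsPGroup.of_card (n := 1) (by rw [← hsdef, pow_one])
  have hR1 : R ≠ ⊥ := by
    intro h
    rw [h, Subgroup.card_bot] at hR
    exact hr.one_lt.ne hR
  have hCRH : Subgroup.centralizer (R : Set G) ≤ H :=
    (Subgroup.centralizer_le_normalizer _).trans hNH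
  obtain ⟨C, hCdef⟩ : ∃ C : Subgroup G, C = sigmaCore M ⊓ Subgroup.centralizer (R : Set G) :=
    ⟨_, rfl⟩
  rw [← hCdef]
  have hCσ : C ≤ sigmaCore M := hCdef ▸ inf_le_left
  have hCC : C ≤ Subgroup.centralizer (R : Set G) := hCdef ▸ inf_le_right
  have hCH : C ≤ H := hCC.trans hCRH
  have hXN : X ≤ Subgroup.normalizer (R : Set G) := hXE.trans hEN
  have hXH : X ≤ H := hXN.trans hNH
  have hRH : R ≤ H := Subgroup.le_normalizer.trans hNH
  have hRM : R ≤ M := hRE.trans hE.1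
  have hXM : X ≤ M := hXE.trans hE.1
  have hXC : X ≤ Subgroup.normalizer (C : Set G) := by
    intro x hx
    apply Cfsg.Agent.Lib.helper13.mem_normalizer_of_forall_conj_mem
    intro y hy
    rw [hCdef] at hy ⊢
    obtain ⟨hyσ, hyC⟩ := Subgroup.mem_inf.mp hy
    refine Subgroup.mem_inf.mpr ⟨?_, ?_⟩
    · have hxN := Cfsg.Agent.Lib.helper13.le_normalizer_sigmaCore M (hXM hx)
      exact (Subgroup.mem_normalizer_iff.mp hxN y).mp hyσ
    · rw [Subgroup.mem_centralizer_iff] at hyC ⊢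
      intro z hz
      have h1 : x⁻¹ * z * x⁻¹⁻¹ ∈ R :=
        (Subgroup.mem_normalizer_iff.mp (Subgroup.inv_mem _ (hXN hx)) z).mp hz
      have h2 := hyC _ h1
      calc z * (x * y * x⁻¹) = x * ((x⁻¹ * z * x⁻¹⁻¹) * y) * x⁻¹ := by group
        _ = x * (y * (x⁻¹ * z * x⁻¹⁻¹)) * x⁻¹ := by rw [h2]
        _ = x * y * x⁻¹ * z := by group
  have hsE : s ∣ Nat.card E := hsdef ▸ Subgroup.card_dvd_of_le hXE
  have hsM : s ∉ sigma M := by
    intro hsσ
    have h1 := (Cfsg.Agent.S1350.result hG M hM).1.2.2 s hXp hsσ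
    rw [← Cfsg.Agent.Lib.helper29.IsComplIn.card_left hE] at h1
    exact h1 hsE
  have hcopMs : (Nat.card (sigmaCore M)).Coprime s :=
    Cfsg.Agent.Lib.helper8.bg_sigmaCore_card_coprime M hXp hsM
  have hcopMr : (Nat.card (sigmaCore M)).Coprime r :=
    Cfsg.Agent.Lib.helper8.bg_sigmaCore_card_coprime M hr hrM
  have hcopXC : (Nat.card X).Coprime (Nat.card C) := by
    rw [← hsdef]
    exact (hcopMs.coprime_dvd_left (Subgroup.card_dvd_of_le hCσ)).symm
  have hXsolv : Group.IsSolvable X := by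
    haveI := hXs.isNilpotent
    infer_instance
  obtain ⟨W, hWdef⟩ : ∃ W : Subgroup G, W = ⁅C, X⁆ := ⟨_, rfl⟩
  have hWW : ⁅W, X⁆ = W := by
    rw [hWdef]
    exact Cfsg.Agent.Lib.helper1.commutator_commutator_eq X C hXC hcopXC (Or.inl hXsolv)
  have hWC : W ≤ C := hWdef ▸ Cfsg.Agent.Lib.helper1.commutator_le_of_le_normalizer hXC
  have hgoal : W = ⊥ → C ≤ Subgroup.centralizer (X : Set G) :=
    fun h => Subgroup.commutator_eq_bot_iff_le_centralizer.mp (hWdef ▸ h)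
  have hcopW : ∀ q : ℕ, (Nat.card (sigmaCore M)).Coprime q → (Nat.card W).Coprime q :=
    fun q hq => hq.coprime_dvd_left (Subgroup.card_dvd_of_le (hWC.trans hCσ))
  by_cases hsσ : s ∈ sigma H
  · exact Cfsg.Agent.Lib.helper3.bg_cross_centralize hG M H hM hHc s hsM hsσ X hXs hXH C hCσ
      hCH hXC
  have hsH : s ∣ Nat.card H := hsdef ▸ Subgroup.card_dvd_of_le hXH
  by_cases hrk1 : PRankLE s 1 H
  · by_cases hsd : s ∣ Nat.card ↥(⁅H, H⁆ : Subgroup G)
    · -- `s ∈ τ₃(H)`: `X ≤ H'`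
      apply hgoal
      have hXH' : X ≤ ⁅H, H⁆ :=
        Cfsg.Agent.Lib.helper54.Good.le_commutator_of_rank_one hodd H hsd hrk1 X hXH hsdef.symm
      have hWH' : W ≤ ⁅H, H⁆ := by rw [hWdef]; exact Subgroup.commutator_mono hCH hXH
      have hnil := (Cfsg.Agent.S1405.result hG H hHc).2.2.2.2
      have hWX : ⁅W, X⁆ ≤ alphaCore H ⊓ sigmaCore M := by
        rw [Subgroup.commutator_le]
        intro w hw x hx
        refine ⟨?_, ?_⟩
        · rw [commutatorElement_def]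
          apply Cfsg.Agent.Lib.helper54.Good.comm_mem_alphaCore H hnil (hWH' hw) (hXH' hx)
          have h1 : orderOf w ∣ Nat.card (sigmaCore M) :=
            Subgroup.orderOf_dvd_natCard _ (hCσ (hWC hw))
          have h2 : orderOf x ∣ s := hsdef ▸ Subgroup.orderOf_dvd_natCard _ hx
          exact Nat.Coprime.coprime_dvd_left h1 (Nat.Coprime.coprime_dvd_right h2 hcopMs)
        · have h1 : ⁅w, x⁆ ∈ ⁅W, X⁆ := Subgroup.commutator_mem_commutator hw hx
          rw [hWW] at h1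
          exact hCσ (hWC h1)
      rw [Cfsg.Agent.Lib.helper54.Good.alphaCore_inf_sigmaCore hG M H hM hHc hnc] at hWX
      rw [← hWW]
      exact le_bot_iff.mp hWX
    · -- `s ∈ τ₁(H)`: then `r ∉ σ(H)`, `r ∈ τ₂(H)`: the `L`-argument
      have hτ1 : s ∈ tau1 H := ⟨hXp, hsσ, hsH, hsd, hrk1⟩
      have hrσ : r ∉ sigma H := by
        rcases hor with h | h
        · exact absurd hτ1 h
        · exact h
      obtain ⟨⟨hr2, hr1⟩, hni, A₁, hA₁, hA₁c, hRA₁⟩ :=
        Cfsg.Agent.S1409.result hG H hHc r hrσ R hR hNH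
      have hτr : r ∈ tau2 H := ⟨hr, hrσ, hr2, hr1⟩
      have hA₁H : A₁ ≤ H := by
        have hA₁comm := ((Cfsg.Agent.Lib.helper8.bg_elemAb_iff A₁).mp hA₁).1
        refine le_trans ?_ hCRH
        intro a ha
        rw [Subgroup.mem_centralizer_iff]
        intro x hx
        exact hA₁comm x (hRA₁ hx) a ha
      obtain ⟨hnilH, -⟩ :=
        Cfsg.Agent.S1417.result hG H hHc r hτr A₁ ⟨hA₁H, hA₁, hA₁c⟩
      have hdisj : ∀ q : ℕ, q ∈ sigma M → q ∉ sigma H := fun q hqM hqH =>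
        Cfsg.Agent.Lib.helper55.BGJ.not_mem_sigma_of_nilpotent hG hU hF hM hHc hnilH hnc hqM hqH
      obtain ⟨T0, hT0def⟩ : ∃ T0 : Subgroup G, T0 = X ⊔ C := ⟨_, rfl⟩
      obtain ⟨T, hTdef⟩ : ∃ T : Subgroup G, T = T0 ⊔ R := ⟨_, rfl⟩
      have hT0card : Nat.card T0 ∣ Nat.card X * Nat.card C :=
        hT0def ▸ Cfsg.Agent.Lib.helper65.card_sup_dvd_mul hXC
      have hT0N : T0 ≤ Subgroup.normalizer (R : Set G) :=
        hT0def ▸ sup_le hXN (hCC.trans (Subgroup.centralizer_le_normalizer _))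
      have hTcard : Nat.card T ∣ Nat.card T0 * Nat.card R :=
        hTdef ▸ Cfsg.Agent.Lib.helper65.card_sup_dvd_mul hT0N
      have hT0H : T0 ≤ H := hT0def ▸ sup_le hXH hCH
      have hTH : T ≤ H := hTdef ▸ sup_le hT0H hRH
      obtain ⟨E1, hE1, hTE1⟩ :=
        Cfsg.Agent.Lib.helper60.BGCentU.exists_compl_ge hG H hHc T hTH (by
          intro q hq hqT hqH
          rcases (Nat.Prime.dvd_mul hq).mp (hqT.trans hTcard) with h | h
          · rcases (Nat.Prime.dvd_mul hq).mp (h.trans hT0card) with h | h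
            · rw [← hsdef] at h
              exact hsσ ((Nat.prime_dvd_prime_iff_eq hq hXp).mp h ▸ hqH)
            · exact hdisj q
                (Cfsg.Agent.Lib.helper54.PrimeAct.mem_sigma_of_dvd hG M hM hCσ hq h) hqH
          · rw [hR] at h
            exact hrσ ((Nat.prime_dvd_prime_iff_eq hq hr).mp h ▸ hqH))
      obtain ⟨A, hAE, hA, hAc⟩ :=
        Cfsg.Agent.Lib.helper97.bg7_exists_elemAb_compl H E1 hE1 r hτr
      obtain ⟨⟨hE1N, hsub⟩, -, -⟩ := h18 H hHc E1 hE1 r hτr A ⟨hAE, hA, hAc⟩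
      have hT0T : T0 ≤ T := hTdef ▸ le_sup_left
      have hRT : R ≤ T := hTdef ▸ le_sup_right
      have hXT : X ≤ T := (hT0def ▸ le_sup_left : X ≤ T0).trans hT0T
      have hCT : C ≤ T := (hT0def ▸ le_sup_right : C ≤ T0).trans hT0T
      have hRA : R ≤ A := hsub R (hRT.trans hTE1) hR
      have hWA : W ≤ Subgroup.centralizer (A : Set G) := by
        rw [hWdef, Subgroup.commutator_le]
        intro y hy x hx
        rw [commutatorElement_def]
        apply comm_centralizes_norm A R hA hAc hRA hR (hE1N (hTE1 (hCT hy)))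
          (Subgroup.centralizer_le_normalizer _ (hCC hy)) (hE1N (hTE1 (hXT hx))) (hXN hx)
        have h1 : y * x * y⁻¹ * x⁻¹ ∈ W := by
          rw [hWdef, ← commutatorElement_def]
          exact Subgroup.commutator_mem_commutator hy hx
        exact Nat.Coprime.coprime_dvd_left (Subgroup.orderOf_dvd_natCard _ h1)
          (hcopW r hcopMr)
      apply hgoal
      by_contra hW1
      have hcardW : Nat.card W ≠ 1 := fun h => hW1 (Subgroup.card_eq_one.mp h)
      obtain ⟨q, hq, hqW⟩ := Nat.exists_prime_and_dvd hcardW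
      haveI : Fact q.Prime := ⟨hq⟩
      obtain ⟨x, hx⟩ := exists_prime_orderOf_dvd_card' q hqW
      refine Cfsg.Agent.Lib.helper54.Good.l_argument hG M hM hrk hni A hA hAc R hRA hRM hR1
        (x : G) (hCσ (hWC x.2)) hq (by rw [Subgroup.orderOf_coe, hx]) ?_
      intro a ha
      rw [Subgroup.mem_centralizer_iff]
      rintro _ rfl
      exact ((Subgroup.mem_centralizer_iff.mp (hWA x.2)) a ha).symm
  · -- `s ∈ τ₂(H)`
    have hτ2 : s ∈ tau2 H := by
      refine ⟨hXp, hsσ, ?_, hrk1⟩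
      by_contra hr2
      exact hsσ (Cfsg.Agent.Lib.helper8.bg_alpha_sub_sigma hG hU H hHc ⟨hXp, hr2⟩)
    exact cross_tau2 hG M H hM hHc hnc s hsM hτ2 X hXH hsdef.symm C hCσ hCH hXC

end Cfsg.Agent.Lib.helper56.BGT3
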