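import Mathlib
import Cfsg.Agent.S4145

set_option autoImplicit false
open Cfsg

universe u

namespace Cfsg.Agent.Lib.helper56

/-- In a cyclic subgroup, the solutions of `y ^ p = 1` are the powers of an element of order `p`. -/
theorem flA_mem_powers {G : Type u} [Group G] [Finite G] {p : ℕ} [Fact p.Prime]
    (P : Subgroup G) (hP : IsCyclic ↥P) (x : G) (hxP : x ∈ P) (hx : orderOf x = p)
    (y : G) (hyP : y ∈ P) (hy : y ^ p = 1) : ∃ k : ℕ, k < p ∧ y = x ^ k := by
  classical
  have hp : p.Prime := Fact.out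
  haveI : Fintype ↥P := Fintype.ofFinite _
  have hle := IsCyclic.card_pow_eq_one_le (α := ↥P) hp.pos
  set S : Finset ↥P := Finset.univ.filter (fun a : ↥P => a ^ p = 1) with hS
  set T : Finset ↥P := (Finset.range p).image (fun k : ℕ => (⟨x, hxP⟩ : ↥P) ^ k) with hT
  have hox : orderOf (⟨x, hxP⟩ : ↥P) = p := by rw [Subgroup.orderOf_mk, hx]
  have hTS : T ⊆ S := by
    intro a ha
    rw [hT, Finset.mem_image] at ha
    obtain ⟨k, -, rfl⟩ := ha
    rw [hS, Finset.mem_filter]
    refine ⟨Finset.mem_univ _, ?_⟩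
    rw [← pow_mul, mul_comm, pow_mul, ← hox, pow_orderOf_eq_one, one_pow]
  have hTc : T.card = p := by
    rw [hT, Finset.card_image_of_injOn, Finset.card_range]
    intro a ha b hb hab
    have ha' : a < orderOf (⟨x, hxP⟩ : ↥P) := by rw [hox]; exact Finset.mem_range.mp ha
    have hb' : b < orderOf (⟨x, hxP⟩ : ↥P) := by rw [hox]; exact Finset.mem_range.mp hb
    exact pow_injOn_Iio_orderOf ha' hb' hab
  have hST : T = S := Finset.eq_of_subset_of_card_le hTS (by rw [hTc]; exact hle)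
  have hyS : (⟨y, hyP⟩ : ↥P) ∈ S := by
    rw [hS, Finset.mem_filter]
    exact ⟨Finset.mem_univ _, Subtype.ext (by simpa using hy)⟩
  rw [← hST, hT, Finset.mem_image] at hyS
  obtain ⟨k, hk, hk2⟩ := hyS
  refine ⟨k, Finset.mem_range.mp hk, ?_⟩
  have := congrArg Subtype.val hk2
  simpa using this.symm

/-- an element of order `p` of a cyclic subgroup containing `x` of order `p` is `x ^ t` for a unit
`t` of `ZMod p`. -/
theorem flA_mem_unit_powers {G : Type u} [Group G] [Finite G] {p : ℕ} [Fact p.Prime]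
    (P : Subgroup G) (hP : IsCyclic ↥P) (x : G) (hxP : x ∈ P) (hx : orderOf x = p)
    (y : G) (hyP : y ∈ P) (hy : orderOf y = p) :
    ∃ t : (ZMod p)ˣ, y = x ^ (t : ZMod p).val := by
  have hp : p.Prime := Fact.out
  have hyp : y ^ p = 1 := by rw [← hy, pow_orderOf_eq_one]
  obtain ⟨k, hk, rfl⟩ := flA_mem_powers P hP x hxP hx y hyP hyp
  have hk0 : (k : ZMod p) ≠ 0 := by
    intro h0
    rw [ZMod.natCast_eq_zero_iff] at h0
    have hk00 : k = 0 := Nat.eq_zero_of_dvd_of_lt h0 hk
    rw [hk00, pow_zero, orderOf_one] at hy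
    exact hp.one_lt.ne' hy.symm
  refine ⟨Units.mk0 (k : ZMod p) hk0, ?_⟩
  rw [Units.val_mk0, ZMod.val_natCast, Nat.mod_eq_of_lt hk]

/-- (G1) the centralizer of a nontrivial element of a cyclic Sylow `p`-subgroup has a normal
`p`-complement. -/
theorem flA_centralizer_npc {G : Type u} [Group G] [Finite G] {p : ℕ} [Fact p.Prime]
    (P : Sylow p G) (hP : IsCyclic ↥(P : Subgroup G)) (w : G) (hw : w ∈ (P : Subgroup G))
    (hw1 : w ≠ 1) : HasNormalPComplement p ↥(Subgroup.centralizer ({w} : Set G)) := by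
  have hp : p.Prime := Fact.out
  set X : Subgroup G := Subgroup.centralizer ({w} : Set G) with hX
  have hcommP : ∀ a ∈ (P : Subgroup G), ∀ b ∈ (P : Subgroup G), a * b = b * a := by
    intro a ha b hb
    obtain ⟨g, hg⟩ := hP.exists_generator
    obtain ⟨i, hi⟩ := Subgroup.mem_zpowers_iff.mp (hg ⟨a, ha⟩)
    obtain ⟨j, hj⟩ := Subgroup.mem_zpowers_iff.mp (hg ⟨b, hb⟩)
    have hi' : (g : G) ^ i = a := by simpa using congrArg Subtype.val hi
    have hj' : (g : G) ^ j = b := by simpa using congrArg Subtype.val hj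
    rw [← hi', ← hj', ← zpow_add, ← zpow_add, add_comm]
  have hPX : (P : Subgroup G) ≤ X := by
    intro a ha
    rw [hX, Subgroup.mem_centralizer_iff]
    intro b hb
    rw [Set.mem_singleton_iff] at hb
    subst hb
    exact hcommP b hw a ha
  set PX : Sylow p X := P.subtype hPX with hPXdef
  have hPXmem : ∀ x : X, x ∈ (PX : Subgroup X) ↔ (x : G) ∈ (P : Subgroup G) := by
    intro x
    rw [hPXdef, Sylow.coe_subtype, Subgroup.mem_subgroupOf]
  have hyp : Subgroup.normalizer ((PX : Subgroup X) : Set X) ≤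
      Subgroup.centralizer ((PX : Subgroup X) : Set X) := by
    intro n hn
    have hn' : (n : G) ∈ Subgroup.normalizer ((P : Subgroup G) : Set G) := by
      rw [Subgroup.mem_normalizer_iff]
      intro h
      constructor
      · intro hh
        have h1 := (Subgroup.mem_normalizer_iff.mp hn ⟨h, hPX hh⟩).mp ((hPXmem _).mpr hh)
        exact (hPXmem _).mp h1
      · intro hh
        have hhX : h ∈ X := by
          have : h = (n : G)⁻¹ * ((n : G) * h * (n : G)⁻¹) * (n : G) := by group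
          rw [this]
          exact X.mul_mem (X.mul_mem (X.inv_mem n.2) (hPX hh)) n.2
        have h1 := (Subgroup.mem_normalizer_iff.mp hn ⟨h, hhX⟩).mpr ((hPXmem _).mpr hh)
        exact (hPXmem _).mp h1
    have hnw : (n : G) * w * (n : G)⁻¹ = w := by
      have h1 : (n : G) ∈ Subgroup.centralizer ({w} : Set G) := n.2
      rw [Subgroup.mem_centralizer_iff] at h1
      have h2 := h1 w (Set.mem_singleton w)
      rw [← h2, mul_inv_cancel_right]
    have hc := Cfsg.Agent.S4145.key_aut P hP (n : G) hn' (Or.inr ⟨w, hw, hw1, hnw⟩)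
    rw [Subgroup.mem_centralizer_iff] at hc ⊢
    intro h hh
    apply Subtype.ext
    exact hc h ((hPXmem h).mp hh)
  exact ⟨PX, (MonoidHom.transferSylow PX hyp).ker, MonoidHom.normal_ker _,
    MonoidHom.ker_transferSylow_isComplement' PX hyp⟩

/-- (G2) every element of order `p` is conjugate to a unit power of a given element of order `p` of
the cyclic Sylow `p`-subgroup. -/
theorem flA_conj_pow {G : Type u} [Group G] [Finite G] {p : ℕ} [Fact p.Prime] (P : Sylow p G)
    (hP : IsCyclic ↥(P : Subgroup G)) (x : G) (hxP : x ∈ (P : Subgroup G)) (hx : orderOf x = p)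
    (y : G) (hy : orderOf y = p) :
    ∃ (g : G) (t : (ZMod p)ˣ), g * y * g⁻¹ = x ^ (t : ZMod p).val := by
  obtain ⟨g, y', hy'P, hgy⟩ := Cfsg.Agent.S4145.exists_conj_mem_sylow P y ⟨1, by rw [hy, pow_one]⟩
  have hoy' : orderOf y' = p := by
    rw [← hy, ← hgy, Cfsg.Agent.S4145.orderOf_conj']
  obtain ⟨t, ht⟩ := flA_mem_unit_powers (P : Subgroup G) hP x hxP hx y' hy'P hoy'
  refine ⟨g⁻¹, t, ?_⟩
  rw [← ht, ← hgy]
  group

/-- (G3) fusion in a cyclic Sylow `p`-subgroup is controlled by its normalizer. -/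
theorem flA_fusion {G : Type u} [Group G] [Finite G] {p : ℕ} [Fact p.Prime] (P : Sylow p G)
    (hP : IsCyclic ↥(P : Subgroup G)) (w : G) (hw : w ∈ (P : Subgroup G)) (w' : G)
    (hw' : w' ∈ (P : Subgroup G)) (h : IsConj w w') :
    ∃ n ∈ Subgroup.normalizer ((P : Subgroup G) : Set G), n * w * n⁻¹ = w' := by
  obtain ⟨c, hc⟩ := isConj_iff.mp h
  haveI : IsMulCommutative ↥(P : Subgroup G) := by
    constructor
    constructor
    intro a b
    obtain ⟨g, hg⟩ := hP.exists_generator
    obtain ⟨i, hi⟩ := Subgroup.mem_zpowers_iff.mp (hg a)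
    obtain ⟨j, hj⟩ := Subgroup.mem_zpowers_iff.mp (hg b)
    rw [← hi, ← hj, ← zpow_add, ← zpow_add, add_comm]
  have hy : (c⁻¹)⁻¹ * w * c⁻¹ ∈ (P : Subgroup G) := by
    rw [inv_inv, hc]; exact hw'
  obtain ⟨n, hn, hn2⟩ := Sylow.conj_eq_normalizer_conj_of_mem P w c⁻¹ hw hy
  refine ⟨n⁻¹, Subgroup.inv_mem _ hn, ?_⟩
  rw [inv_inv, ← hn2, inv_inv, hc]

end Cfsg.Agent.Lib.helper56
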