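import Mathlib
import Cfsg.Prelude.Def_Characters
import Cfsg.Prelude.Def_Blocks
import Cfsg.Agent.Lib.helper84.BrDefs
import Cfsg.Agent.Lib.helper84.Frobenius
import Cfsg.Agent.Lib.helper4.Induction
import Cfsg.Agent.Lib.helper19.LinChar

/-!
# S0996 piece C4b `tau_basic` (helper56) — exact statement of tools/S0996_Skel.lean.txt
-/

set_option autoImplicit false

namespace Cfsg.Agent.Lib.helper56.Br

open Cfsg Cfsg.Agent.Lib.helper81 Cfsg.Agent.Lib.helper84.Br
open scoped ComplexConjugate

universe u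

section pieces

variable {G : Type u} [Group G] [Fintype G] {p : ℕ} [Fact p.Prime] {P : Sylow p G} {e n : ℕ}

/-- G1d-type lemma (own copy): a non-identity element of `P` (of order `p`) lies in no other
conjugate of `N_G(P)`. -/
theorem c4b_fix_P (hP : Nat.card P = p) (x : G) (hx : x ∈ (P : Subgroup G)) (hx1 : x ≠ 1) (g : G)
    (hg : g⁻¹ * x * g ∈ Subgroup.normalizer ((P : Subgroup G) : Set G)) :
    g ∈ Subgroup.normalizer ((P : Subgroup G) : Set G) := by
  classical
  have hp : p.Prime := Fact.out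
  -- `y := g⁻¹ x g` is a `p`-element of the normalizer, so lies in `P`
  have hyP : g⁻¹ * x * g ∈ (P : Subgroup G) := by
    have hpg : IsPGroup p (Subgroup.zpowers (g⁻¹ * x * g)) := by
      have hxp : x ^ p = 1 := by
        have := pow_card_eq_one' (G := (P : Subgroup G)) (x := ⟨x, hx⟩)
        rw [hP] at this
        exact congrArg Subtype.val this
      have hyp : (g⁻¹ * x * g) ^ p = 1 := by
        have : (g⁻¹ * x * g) ^ p = g⁻¹ * x ^ p * g := by
          have h := conj_pow (a := g⁻¹) (b := x) (i := p)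
          simpa using h
        rw [this, hxp]; simp
      apply IsPGroup.of_card (n := if g⁻¹ * x * g = 1 then 0 else 1)
      rw [Nat.card_zpowers]
      split_ifs with h1
      · rw [h1, orderOf_one, pow_zero]
      · rw [pow_one]
        exact orderOf_eq_prime hyp h1
    have h1 := hpg.inf_normalizer_sylow P
    have h2 : g⁻¹ * x * g ∈ Subgroup.zpowers (g⁻¹ * x * g) ⊓
        Subgroup.normalizer ((P : Subgroup G) : Set G) :=
      ⟨Subgroup.mem_zpowers _, hg⟩
    have h3 : g⁻¹ * x * g ∈ Subgroup.zpowers (g⁻¹ * x * g) ⊓ (P : Subgroup G) := by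
      rw [← h1]; exact h2
    exact h3.2
  have hy1 : g⁻¹ * x * g ≠ 1 := by
    intro h
    apply hx1
    have : x = g * (g⁻¹ * x * g) * g⁻¹ := by group
    rw [this, h]; simp
  -- both generate `P`
  have hgenx : ∀ z ∈ (P : Subgroup G), ∃ k : ℤ, x ^ k = z := by
    intro z hz
    have hx' : (⟨x, hx⟩ : (P : Subgroup G)) ≠ 1 := by
      intro h; exact hx1 (congrArg Subtype.val h)
    have := mem_zpowers_of_prime_card (G := (P : Subgroup G)) hP hx' (g' := ⟨z, hz⟩)
    obtain ⟨k, hk⟩ := Subgroup.mem_zpowers_iff.mp this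
    exact ⟨k, by simpa using congrArg Subtype.val hk⟩
  have hgeny : ∀ z ∈ (P : Subgroup G), ∃ k : ℤ, (g⁻¹ * x * g) ^ k = z := by
    intro z hz
    have hy' : (⟨g⁻¹ * x * g, hyP⟩ : (P : Subgroup G)) ≠ 1 := by
      intro h; exact hy1 (congrArg Subtype.val h)
    have := mem_zpowers_of_prime_card (G := (P : Subgroup G)) hP hy' (g' := ⟨z, hz⟩)
    obtain ⟨k, hk⟩ := Subgroup.mem_zpowers_iff.mp this
    exact ⟨k, by simpa using congrArg Subtype.val hk⟩
  have hconj : ∀ k : ℤ, (g⁻¹ * x * g) ^ k = g⁻¹ * x ^ k * g := by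
    intro k
    have h := conj_zpow (a := g⁻¹) (b := x) (i := k)
    simpa using h
  rw [Subgroup.mem_normalizer_iff]
  intro z
  constructor
  · intro hz
    obtain ⟨k, hk⟩ := hgeny z hz
    rw [hconj k] at hk
    have : g * z * g⁻¹ = x ^ k := by rw [← hk]; group
    rw [this]
    exact Subgroup.zpow_mem _ hx k
  · intro hz
    obtain ⟨k, hk⟩ := hgenx _ hz
    have : z = (g⁻¹ * x * g) ^ k := by
      rw [hconj k, hk]; group
    rw [this]
    exact Subgroup.zpow_mem _ hyP k

/-- C4b (TAU-BASIC). -/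
theorem tau_basic (hctx : Ctx G p P e n)
    (μ : ↥(Subgroup.normalizer ((P : Subgroup G) : Set G)) →* ℂˣ)
    (hμP : ∀ h : ↥(Subgroup.normalizer ((P : Subgroup G) : Set G)),
      (h : G) ∈ (P : Subgroup G) → μ h = 1)
    (hμ1 : ∃ h : ↥(Subgroup.normalizer ((P : Subgroup G) : Set G)), μ h ≠ 1) :
    IsCharacter G (indFun (Subgroup.normalizer ((P : Subgroup G) : Set G))
        (fun h => ((μ h : ℂˣ) : ℂ))) ∧
      indFun (Subgroup.normalizer ((P : Subgroup G) : Set G)) (fun h => ((μ h : ℂˣ) : ℂ)) 1 =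
        ((1 + n * p : ℕ) : ℂ) ∧
      (∀ x : G, x ∈ (P : Subgroup G) → x ≠ 1 →
        indFun (Subgroup.normalizer ((P : Subgroup G) : Set G))
          (fun h => ((μ h : ℂˣ) : ℂ)) x = 1) ∧
      classInner (indFun (Subgroup.normalizer ((P : Subgroup G) : Set G))
        (fun h => ((μ h : ℂˣ) : ℂ))) (trivChar G : G → ℂ) = 0 := by
  classical
  have hNcard : (Nat.card ↥(Subgroup.normalizer ((P : Subgroup G) : Set G)) : ℂ) ≠ 0 :=
    Nat.cast_ne_zero.mpr Nat.card_pos.ne'
  refine ⟨?_, ?_, ?_, ?_⟩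
  · exact Cfsg.Agent.Lib.helper4.isCharacter_indFun _ (Cfsg.Agent.Lib.helper19.isCharacter_of_hom μ)
  · unfold indFun
    have h1 : ∀ x : G, extendByZero (Subgroup.normalizer ((P : Subgroup G) : Set G))
        (fun h => ((μ h : ℂˣ) : ℂ)) (x⁻¹ * 1 * x) = 1 := by
      intro x
      have h2 : x⁻¹ * 1 * x =
          ((1 : ↥(Subgroup.normalizer ((P : Subgroup G) : Set G))) : G) := by simp
      rw [h2, Cfsg.Agent.Lib.helper19.extendByZero_coe]
      simp
    rw [Finset.sum_congr rfl (fun x _ => h1 x), Finset.sum_const, Finset.card_univ,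
      nsmul_eq_mul, mul_one]
    have hidx : Nat.card (Sylow p G) =
        (Subgroup.normalizer ((P : Subgroup G) : Set G)).index :=
      Sylow.card_eq_index_normalizer P
    have hmul : Nat.card ↥(Subgroup.normalizer ((P : Subgroup G) : Set G)) *
        (Subgroup.normalizer ((P : Subgroup G) : Set G)).index = Nat.card G :=
      Subgroup.card_mul_index _
    rw [← Nat.card_eq_fintype_card, ← hmul, ← hctx.hn, hidx]
    push_cast
    field_simp
  · intro x hx hx1
    unfold indFun
    have h1 : ∀ g : G, extendByZero (Subgroup.normalizer ((P : Subgroup G) : Set G))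
        (fun h => ((μ h : ℂˣ) : ℂ)) (g⁻¹ * x * g) =
        if g ∈ Subgroup.normalizer ((P : Subgroup G) : Set G) then 1 else 0 := by
      intro g
      by_cases hg : g ∈ Subgroup.normalizer ((P : Subgroup G) : Set G)
      · rw [if_pos hg]
        have hxN : g⁻¹ * x * g ∈ Subgroup.normalizer ((P : Subgroup G) : Set G) :=
          Subgroup.mul_mem _ (Subgroup.mul_mem _ (Subgroup.inv_mem _ hg)
            (Subgroup.le_normalizer hx)) hg
        rw [Cfsg.Agent.Lib.helper19.extendByZero_of_mem _ _ _ hxN]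
        have hxP : g⁻¹ * x * g ∈ (P : Subgroup G) := by
          have := (Subgroup.mem_normalizer_iff.mp (Subgroup.inv_mem _ hg) x).mp hx
          simpa using this
        rw [hμP ⟨_, hxN⟩ hxP]
        simp
      · rw [if_neg hg]
        apply Cfsg.Agent.Lib.helper19.extendByZero_of_not_mem
        intro hxN
        exact hg (c4b_fix_P hctx.hP x hx hx1 g hxN)
    rw [Finset.sum_congr rfl (fun g _ => h1 g), Finset.sum_ite, Finset.sum_const_zero, add_zero,
      Finset.sum_const, nsmul_eq_mul, mul_one]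
    have hc : ((Finset.univ.filter
        (fun g : G => g ∈ Subgroup.normalizer ((P : Subgroup G) : Set G))).card : ℂ) =
        (Nat.card ↥(Subgroup.normalizer ((P : Subgroup G) : Set G)) : ℂ) := by
      congr 1
      rw [Nat.card_eq_fintype_card, Fintype.card_subtype]
    rw [hc]
    field_simp
  · letI : Fintype ↥(Subgroup.normalizer ((P : Subgroup G) : Set G)) := Fintype.ofFinite _
    rw [Cfsg.Agent.Lib.helper84.frobenius_reciprocity _ _ _ (by intro g h; rfl)]
    unfold classInner
    obtain ⟨h0, hh0⟩ := hμ1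
    have hS : ∑ h : ↥(Subgroup.normalizer ((P : Subgroup G) : Set G)),
        ((μ h : ℂˣ) : ℂ) * conj ((trivChar G : G → ℂ) (h : G)) = 0 := by
      have h2 : ∀ h : ↥(Subgroup.normalizer ((P : Subgroup G) : Set G)),
          ((μ h : ℂˣ) : ℂ) * conj ((trivChar G : G → ℂ) (h : G)) = ((μ h : ℂˣ) : ℂ) := by
        intro h
        simp
      rw [Finset.sum_congr rfl (fun h _ => h2 h)]
      have h3 : ∑ h : ↥(Subgroup.normalizer ((P : Subgroup G) : Set G)), ((μ h : ℂˣ) : ℂ) =
          ((μ h0 : ℂˣ) : ℂ) *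
            ∑ h : ↥(Subgroup.normalizer ((P : Subgroup G) : Set G)), ((μ h : ℂˣ) : ℂ) := by
        rw [Finset.mul_sum]
        rw [← Fintype.sum_equiv (Equiv.mulLeft h0) (fun h => ((μ (h0 * h) : ℂˣ) : ℂ))
          (fun h => ((μ h : ℂˣ) : ℂ)) (fun h => rfl)]
        apply Finset.sum_congr rfl
        intro h _
        rw [map_mul, Units.val_mul]
      have h4 : (((μ h0 : ℂˣ) : ℂ) - 1) *
          ∑ h : ↥(Subgroup.normalizer ((P : Subgroup G) : Set G)), ((μ h : ℂˣ) : ℂ) = 0 := by
        rw [sub_mul, one_mul, ← h3, sub_self]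
      rcases mul_eq_zero.mp h4 with h5 | h5
      · exfalso
        apply hh0
        have : ((μ h0 : ℂˣ) : ℂ) = 1 := sub_eq_zero.mp h5
        exact Units.ext this
      · exact h5
    rw [hS, mul_zero]

end pieces

end Cfsg.Agent.Lib.helper56.Br
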