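import Mathlib
import Cfsg.Prelude.Def_Characters
import Cfsg.Prelude.Def_Blocks
import Cfsg.Agent.Lib.helper84.BrDefs
import Cfsg.Agent.Lib.helper81.CharOrtho

/-!
# S0998 piece DEGEQ `deg_eq` (helper56) — exact statement of tools/S0998_Skel.lean.txt
-/

set_option autoImplicit false

namespace Cfsg.Agent.Lib.helper56.BT

open Cfsg Cfsg.Agent.Lib.helper81 Cfsg.Agent.Lib.helper84.Br
open scoped ComplexConjugate

universe u

section pieces

variable {G : Type u} [Group G] [Fintype G]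

variable {p : ℕ} [Fact p.Prime] {P : Sylow p G} {e : ℕ}

/-- A non-identity element of a Sylow subgroup of prime order. -/
theorem h56_exists_ne_one (hP : Nat.card P = p) : ∃ x : G, x ∈ (P : Subgroup G) ∧ x ≠ 1 := by
  have hp : p.Prime := Fact.out
  by_contra hcon
  push_neg at hcon
  have hbot : (P : Subgroup G) = ⊥ := (Subgroup.eq_bot_iff_forall _).mpr hcon
  have h1 : Nat.card (P : Subgroup G) = 1 := Subgroup.card_eq_one.mpr hbot
  have h2 : Nat.card (P : Subgroup G) = p := hP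
  rw [h1] at h2
  exact hp.one_lt.ne h2

/-- DEGEQ : the degree equation `ε f₀ = 1 + Σ_{χ ∈ X ∖ 1} δ_χ χ(1)`. -/
theorem deg_eq (hP : Nat.card P = p) (D : Data G p P e) (θ : IrrCharacter G) (hθ : θ ∈ D.Y) :
    D.ε * (charDegree (θ : G → ℂ) : ℤ) =
      1 + ∑ χ ∈ D.X.erase (trivChar G), D.δ χ * (charDegree (χ : G → ℂ) : ℤ) := by
  classical
  have hp : p.Prime := Fact.out
  obtain ⟨x, hx, hx1⟩ := h56_exists_ne_one (P := P) hP
  have hδ1 := D.δ_triv x hx hx1
  have h1 : ¬ p ∣ orderOf (1 : G) := by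
    rw [orderOf_one]
    intro h
    exact hp.one_lt.ne' (Nat.dvd_one.mp h)
  have hrel := D.rel θ hθ 1 h1
  rw [← Finset.add_sum_erase D.X _ D.one_mem, trivChar_apply, hδ1] at hrel
  simp only [Cfsg.Agent.Lib.helper81.irr_one_eq_charDegree] at hrel
  exact_mod_cast hrel

end pieces

end Cfsg.Agent.Lib.helper56.BT
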