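import Mathlib
import Cfsg.Prelude.Def_Characters
import Cfsg.Prelude.Def_Blocks
import Cfsg.Agent.Lib.helper84.BrDefs
import Cfsg.Agent.Lib.helper81.CharOrtho
import Cfsg.Agent.Lib.helper20.BrC1
import Cfsg.Agent.Lib.helper20.BR_CH1
import Cfsg.Agent.Lib.helper56.BT_DEGEQ

/-!
# S0998 piece STEPAB `step_ab` (helper56) — exact statement of tools/S0998_Skel.lean.txt
-/

set_option autoImplicit false

namespace Cfsg.Agent.Lib.helper56.BT

open Cfsg Cfsg.Agent.Lib.helper81 Cfsg.Agent.Lib.helper84.Br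
open scoped ComplexConjugate

universe u

theorem h56_not_dvd_of_modEq_unit (p d : ℕ) (hp : p.Prime) (s : ℤ) (hs : s = 1 ∨ s = -1)
    (h : (d : ℤ) ≡ s [ZMOD p]) : ¬ p ∣ d := by
  intro hpd
  have h1 : (p : ℤ) ∣ s - d := h.dvd
  have h2 : (p : ℤ) ∣ (d : ℤ) := Int.natCast_dvd_natCast.mpr hpd
  have h3 : (p : ℤ) ∣ s := by
    have := dvd_add h1 h2
    simpa using this
  have h4 : (p : ℤ) ∣ 1 := by
    rcases hs with rfl | rfl
    · exact h3
    · exact (dvd_neg.mp h3)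
  have h5 : p ∣ 1 := by exact_mod_cast h4
  exact hp.one_lt.ne' (Nat.dvd_one.mp h5)

theorem h56_modEq_small (p : ℕ) (x y : ℤ) (h : x ≡ y [ZMOD p]) (hlt : |y - x| < p) : x = y := by
  have h1 : y - x = 0 := Int.eq_zero_of_abs_lt_dvd h.dvd hlt
  omega

theorem h56_dvd_r (p q r b d : ℕ) (hp : p.Prime) (hq : q.Prime)
    (hd : d ∣ p * r * q ^ b) (hpd : ¬ p ∣ d) (hqd : ¬ q ∣ d) : d ∣ r := by
  have c1 : Nat.Coprime d p := ((Nat.Prime.coprime_iff_not_dvd hp).mpr hpd).symm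
  have c2 : Nat.Coprime d (q ^ b) :=
    Nat.Coprime.pow_right b ((Nat.Prime.coprime_iff_not_dvd hq).mpr hqd).symm
  have h1 : d ∣ p * r := Nat.Coprime.dvd_of_dvd_mul_right c2 hd
  exact Nat.Coprime.dvd_of_dvd_mul_left c1 h1

section pieces

variable {G : Type u} [Group G] [Fintype G]

variable {p : ℕ} [Fact p.Prime] {P : Sylow p G} {e : ℕ}

/-- STEPAB : the degrees in the principal `p`-block of a simple group of order `p r q^b`,
`r ≤ p - 2`. -/
theorem step_ab [IsSimpleGroup G] (hG : ¬ IsCyclic G) (hP : Nat.card P = p) (D : Data G p P e)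
    (q r b : ℕ) (hq : q.Prime) (hr : r.Prime) (hpq : p ≠ q) (hpr : p ≠ r) (hqr : q ≠ r)
    (hcard : Nat.card G = p * r * q ^ b) (hrp : r + 2 ≤ p) :
    (∀ χ ∈ D.X, χ ≠ trivChar G → q ∣ charDegree (χ : G → ℂ)) ∧
    (∀ θ ∈ D.Y, charDegree (θ : G → ℂ) = r) ∧
    ((D.ε = 1 ∧ r = e ∧ q ∣ r - 1) ∨ (D.ε = -1 ∧ r + e = p ∧ q ∣ r + 1)) := by
  classical
  have hp : p.Prime := Fact.out
  have hperf : commutator G = ⊤ := Cfsg.Agent.Lib.helper21.BR.helper20_commutator_eq_top hG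
  have hr2 : 2 ≤ r := hr.two_le
  have hdvd : ∀ χ : IrrCharacter G, charDegree (χ : G → ℂ) ∣ p * r * q ^ b := by
    intro χ
    rw [← hcard]
    exact irr_degree_dvd_card χ
  -- (1)
  have hX : ∀ χ ∈ D.X, χ ≠ trivChar G → q ∣ charDegree (χ : G → ℂ) := by
    intro χ hχ hne
    by_contra hqd
    have hmod := D.deg_X χ hχ
    have hpd : ¬ p ∣ charDegree (χ : G → ℂ) :=
      h56_not_dvd_of_modEq_unit p _ hp _ (D.δ_sq χ hχ) hmod
    have hdr := h56_dvd_r p q r b _ hp hq (hdvd χ) hpd hqd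
    rcases (Nat.dvd_prime hr).mp hdr with h1 | h1
    · exact hne (Cfsg.Agent.Lib.helper20.Br.lin_perfect hperf χ h1)
    · rw [h1] at hmod
      rcases D.δ_sq χ hχ with hδ | hδ
      · rw [hδ] at hmod
        have := h56_modEq_small p _ _ hmod (by rw [abs_lt]; constructor <;> omega)
        omega
      · rw [hδ] at hmod
        have := h56_modEq_small p _ _ hmod (by rw [abs_lt]; constructor <;> omega)
        omega
  -- facts on `e`
  obtain ⟨cY, hcYdef⟩ : ∃ c : ℕ, c = D.Y.card := ⟨_, rfl⟩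
  have hcY : cY * e = p - 1 := by rw [hcYdef]; exact D.cardY
  have hp1 : 1 ≤ p - 1 := by have := hp.two_le; omega
  have he1 : 1 ≤ e := by
    rcases Nat.eq_zero_or_pos e with h0 | h0
    · rw [h0, mul_zero] at hcY
      omega
    · exact h0
  have hep : e ≤ p - 1 := Nat.le_of_dvd (by omega) (Dvd.intro_left _ hcY)
  -- the degree equation mod q
  have hq_dvd : ∀ θ ∈ D.Y, (q : ℤ) ∣ D.ε * (charDegree (θ : G → ℂ) : ℤ) - 1 := by
    intro θ hθ
    have h1 := deg_eq hP D θ hθ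
    have h2 : (q : ℤ) ∣ ∑ χ ∈ D.X.erase (trivChar G), D.δ χ * (charDegree (χ : G → ℂ) : ℤ) := by
      apply Finset.dvd_sum
      intro χ hχ
      obtain ⟨hne, hχX⟩ := Finset.mem_erase.mp hχ
      exact Dvd.dvd.mul_left (Int.natCast_dvd_natCast.mpr (hX χ hχX hne)) _
    rw [h1]
    simpa using h2
  -- (2)
  have hY : ∀ θ ∈ D.Y, charDegree (θ : G → ℂ) = r := by
    intro θ hθ
    have hqf : ¬ q ∣ charDegree (θ : G → ℂ) := by
      intro hqf
      have h1 := hq_dvd θ hθ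
      have h2 : (q : ℤ) ∣ D.ε * (charDegree (θ : G → ℂ) : ℤ) :=
        Dvd.dvd.mul_left (Int.natCast_dvd_natCast.mpr hqf) _
      have h3 : (q : ℤ) ∣ 1 := by
        have := dvd_sub h2 h1
        simpa using this
      have h4 : q ∣ 1 := by exact_mod_cast h3
      exact hq.one_lt.ne' (Nat.dvd_one.mp h4)
    have hpf : ¬ p ∣ charDegree (θ : G → ℂ) := by
      intro hpf
      have hmod := D.deg_Y θ hθ
      have h1 : (p : ℤ) ∣ D.ε * (e : ℤ) - (charDegree (θ : G → ℂ) : ℤ) := hmod.dvd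
      have h2 : (p : ℤ) ∣ (charDegree (θ : G → ℂ) : ℤ) := Int.natCast_dvd_natCast.mpr hpf
      have h3 : (p : ℤ) ∣ D.ε * (e : ℤ) := by
        have := dvd_add h1 h2
        simpa using this
      have h4 : (p : ℤ) ∣ (e : ℤ) := by
        rcases D.ε_sq with hε | hε
        · rw [hε, one_mul] at h3
          exact h3
        · rw [hε, neg_one_mul] at h3
          exact dvd_neg.mp h3
      have h5 : p ∣ e := by exact_mod_cast h4
      have := Nat.le_of_dvd (by omega) h5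
      omega
    have hdr := h56_dvd_r p q r b _ hp hq (hdvd θ) hpf hqf
    rcases (Nat.dvd_prime hr).mp hdr with h1 | h1
    · exfalso
      have h2 := Cfsg.Agent.Lib.helper20.Br.lin_perfect hperf θ h1
      rw [h2] at hθ
      exact Finset.disjoint_left.mp D.disj D.one_mem hθ
    · exact h1
  refine ⟨hX, hY, ?_⟩
  -- (3)
  have hYne : D.Y.Nonempty := by
    rw [Finset.nonempty_iff_ne_empty]
    intro h0
    rw [h0, Finset.card_empty] at hcYdef
    rw [hcYdef, zero_mul] at hcY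
    omega
  obtain ⟨θ, hθ⟩ := hYne
  have hf := hY θ hθ
  have hmod := D.deg_Y θ hθ
  have hqd := hq_dvd θ hθ
  rw [hf] at hmod hqd
  rcases D.ε_sq with hε | hε
  · left
    rw [hε, one_mul] at hmod hqd
    have h1 := h56_modEq_small p _ _ hmod (by rw [abs_lt]; constructor <;> omega)
    have h2 : r = e := by exact_mod_cast h1
    refine ⟨hε, h2, ?_⟩
    have h3 : ((r - 1 : ℕ) : ℤ) = (r : ℤ) - 1 := by
      rw [Nat.cast_sub (by omega)]
      simp
    rw [← h3] at hqd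
    exact_mod_cast hqd
  · right
    rw [hε, neg_one_mul] at hmod hqd
    have h1 : (p : ℤ) ∣ -(e : ℤ) - (r : ℤ) := hmod.dvd
    have h2 : (p : ℤ) ∣ ((r + e : ℕ) : ℤ) := by
      have : ((r + e : ℕ) : ℤ) = -(-(e : ℤ) - (r : ℤ)) := by push_cast; ring
      rw [this]
      exact (dvd_neg.mpr h1)
    have h3 : p ∣ r + e := by exact_mod_cast h2
    have h4 : r + e = p := Nat.eq_of_dvd_of_lt_two_mul (by omega) h3 (by omega)
    refine ⟨hε, h4, ?_⟩
    have h5 : (q : ℤ) ∣ ((r + 1 : ℕ) : ℤ) := by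
      have : ((r + 1 : ℕ) : ℤ) = -(-(r : ℤ) - 1) := by push_cast; ring
      rw [this]
      exact (dvd_neg.mpr hqd)
    exact_mod_cast h5

end pieces

end Cfsg.Agent.Lib.helper56.BT
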