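import Mathlib

/-!
# S0997 piece AR3 `ar_fin_minus` (helper56) — exact statement of tools/S0997_Skel.lean.txt
-/

set_option autoImplicit false

namespace Cfsg.Agent.Lib.helper56.BU

/-- AR3 : the final bound in the case `ε = -1`, `p = 2 e + 1`, `e = 2^a ≥ 4`
(`d` = a degree with `d ≥ 2^b`, `d² < |G| = e p N`). -/
theorem ar_fin_minus (p e a b N d : ℕ) (hpe : p - 1 = 2 * e) (hea : e = 2 ^ a) (he4 : 4 ≤ e)
    (hN : e * N = 2 ^ b * (e + 1)) (h1 : e * N ≤ d * (e + 1)) (h2 : d * d < e * p * N) :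
    2 * N < (p + 1) * (p + 2) := by
  have hp : p = 2 * e + 1 := by omega
  subst hp
  have he0 : 0 < e := by omega
  -- e ∣ 2 ^ b
  have hcop : Nat.Coprime e (e + 1) := by simp
  have hdvd : e ∣ 2 ^ b := by
    have h : e ∣ 2 ^ b * (e + 1) := ⟨N, hN.symm⟩
    exact hcop.dvd_of_dvd_mul_right h
  obtain ⟨m, hm⟩ := hdvd
  have hNm : N = m * (e + 1) := by
    have : e * N = e * (m * (e + 1)) := by rw [hN, hm]; ring
    exact Nat.eq_of_mul_eq_mul_left he0 this
  -- m is a power of 2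
  have hm2 : m ∣ 2 ^ b := ⟨e, by rw [hm]; ring⟩
  obtain ⟨c, -, hc⟩ := (Nat.dvd_prime_pow Nat.prime_two).1 hm2
  have hm0 : 0 < m := by rw [hc]; positivity
  subst hNm
  -- e * m ≤ d
  have h3 : e * m ≤ d := by
    have : (e * m) * (e + 1) ≤ d * (e + 1) := by
      calc (e * m) * (e + 1) = e * (m * (e + 1)) := by ring
        _ ≤ d * (e + 1) := h1
    exact Nat.le_of_mul_le_mul_right this (by omega)
  -- e * m < (2 e + 1) (e + 1)
  have h4 : e * m < (2 * e + 1) * (e + 1) := by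
    have h5 : (e * m) * (e * m) ≤ d * d := Nat.mul_le_mul h3 h3
    have h6 : (e * m) * (e * m) < (e * m) * ((2 * e + 1) * (e + 1)) := by
      calc (e * m) * (e * m) ≤ d * d := h5
        _ < e * (2 * e + 1) * (m * (e + 1)) := h2
        _ = (e * m) * ((2 * e + 1) * (e + 1)) := by ring
    exact lt_of_mul_lt_mul_left h6 (Nat.zero_le _)
  -- m ≤ 2 e + 3
  have h7 : m ≤ 2 * e + 3 := by
    by_contra hcon
    have hcon := not_le.1 hcon
    have : e * (2 * e + 4) ≤ e * m := Nat.mul_le_mul_left e hcon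
    nlinarith
  -- m ≠ 2 e + 3
  have h8 : m ≠ 2 * e + 3 := by
    intro h
    rcases Nat.eq_zero_or_pos c with hc0 | hc0
    · subst hc0
      simp at hc
      omega
    · have : 2 ∣ m := by rw [hc]; exact dvd_pow_self 2 (by omega)
      omega
  have h9 : m ≤ 2 * e + 2 := by omega
  have : m * (e + 1) ≤ (2 * e + 2) * (e + 1) := Nat.mul_le_mul_right _ h9
  nlinarith

end Cfsg.Agent.Lib.helper56.BU
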