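import Mathlib
import Cfsg.Prelude.Def_LocalStructure
import Cfsg.Agent.Lib.helper21.BRLDefs

set_option autoImplicit false

/-!
# S3875 piece B2 `exists_min_normal` (helper56) — exact statement of tools/S3875_Skel.lean.txt
-/

namespace Cfsg.Agent.Lib.helper21.BRL

open Cfsg

/-- B2 -/
theorem exists_min_normal {H : Type*} [Group H] [Finite H] [Nontrivial H] :
    ∃ N : Subgroup H, N.Normal ∧ N ≠ ⊥ ∧ ∀ B : Subgroup H, B.Normal → B ≤ N → B = ⊥ ∨ B = N := by
  have hfin : {N : Subgroup H | N.Normal ∧ N ≠ ⊥}.Finite := Set.toFinite _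
  have hne : {N : Subgroup H | N.Normal ∧ N ≠ ⊥}.Nonempty :=
    ⟨⊤, inferInstance, top_ne_bot⟩
  obtain ⟨N, hN⟩ := hfin.exists_minimal hne
  refine ⟨N, hN.prop.1, hN.prop.2, ?_⟩
  intro B hB hBN
  by_cases hB1 : B = ⊥
  · exact Or.inl hB1
  · right
    exact le_antisymm hBN (hN.le_of_le ⟨hB, hB1⟩ hBN)

end Cfsg.Agent.Lib.helper21.BRL
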