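import Mathlib
import Cfsg.Agent.Lib.helper24.StsDefs

/-!
# S5972 piece INVA `sts_inv_lt` (helper56) — exact statement of tools/S5972_Skel.lean.txt
-/

set_option autoImplicit false
set_option linter.unusedSectionVars false
set_option linter.unusedVariables false

namespace Cfsg.Agent.Lib.helper24

open Module Cfsg.Agent.Lib.helper45 Cfsg.Agent.Lib.helper49

universe u

section stsinva

variable {F : Type u} [Field F] [Fintype F]

/-- `sts_witt` with the trivial case `a = 0` included. -/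
theorem h56_witt0 {V : Type u} [AddCommGroup V] [Module F V] [FiniteDimensional F V]
    (Q : QuadraticForm F V) (h2 : (2 : F) ≠ 0) (K : Submodule F V)
    (hK : SpNd (QuadraticMap.polarBilin Q) K) (a : ℕ) (ha : 2 * a ≤ finrank F K - 1) :
    ∃ W : Submodule F V, W ≤ K ∧ finrank F W = a ∧ ∀ w ∈ W, Q w = 0 := by
  rcases Nat.eq_zero_or_pos a with rfl | hpos
  · refine ⟨⊥, bot_le, finrank_bot F V, ?_⟩
    intro w hw
    rw [(Submodule.mem_bot F).mp hw, map_zero]
  · exact sts_witt Q h2 K hK a (by omega)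

/-- An involutory isometry of a nondegenerate `(2d+1)`-dimensional quadratic space (`q` odd)
fixes a totally singular `m`-space for every `m < d`. -/
theorem h56_inv_ts {V : Type u} [AddCommGroup V] [Module F V] [FiniteDimensional F V]
    (Q : QuadraticForm F V) (hnd : ∀ v, (∀ w, QuadraticMap.polar Q v w = 0) → v = 0)
    (h2 : (2 : F) ≠ 0) (T : Module.End F V) (hT : ∀ v, Q (T v) = Q v) (hT2 : T * T = 1)
    (d m : ℕ) (hdim : finrank F V = 2 * d + 1) (hmd : m < d) :
    ∃ W : Submodule F V, finrank F W = m ∧ (∀ w ∈ W, Q w = 0) ∧ ∀ w ∈ W, T w ∈ W := by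
  have hndω : ∀ v, (∀ w, QuadraticMap.polarBilin Q v w = 0) → v = 0 := by
    intro v hv
    apply hnd v
    intro w
    have := hv w
    rwa [QuadraticMap.polarBilin_apply_apply] at this
  have hTsq : T ^ 2 = 1 := by rw [pow_two, hT2]
  have h2' : ((2 : ℕ) : F) ≠ 0 := by exact_mod_cast h2
  have hE1 : SpNd (QuadraticMap.polarBilin Q) (LinearMap.ker (T - 1)) :=
    sp_fix_nd (QuadraticMap.polarBilin Q) hndω T (sr_iso_bilin Q T hT) 2 hTsq h2'
  have hTneg : ∀ v, Q ((-T) v) = Q v := by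
    intro v
    rw [LinearMap.neg_apply, QuadraticMap.map_neg, hT]
  have hE2 : SpNd (QuadraticMap.polarBilin Q) (LinearMap.ker (-T - 1)) :=
    sp_fix_nd (QuadraticMap.polarBilin Q) hndω (-T) (sr_iso_bilin Q (-T) hTneg) 2
      (by rw [pow_two, neg_mul_neg, hT2]) h2'
  have hTT : ∀ v, T (T v) = v := by
    intro v
    have h6 := congrArg (fun f : Module.End F V => f v) hT2
    exact h6
  have hdimE : finrank F V ≤ finrank F (LinearMap.ker (T - 1)) +
      finrank F (LinearMap.ker (-T - 1)) := by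
    have h1 := LinearMap.finrank_range_add_finrank_ker (T - 1)
    have h3 : LinearMap.range (T - 1) ≤ LinearMap.ker (-T - 1) := by
      rintro _ ⟨v, rfl⟩
      have h6 : (-T - 1) ((T - 1) v) = 0 := by
        simp only [LinearMap.sub_apply, LinearMap.neg_apply, Module.End.one_apply, map_sub, hTT]
        abel
      exact LinearMap.mem_ker.mpr h6
    have h4 := Submodule.finrank_mono h3
    omega
  have hmem1 : ∀ v, v ∈ LinearMap.ker (T - 1) → T v = v := by
    intro v hv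
    rw [LinearMap.mem_ker, LinearMap.sub_apply, Module.End.one_apply, sub_eq_zero] at hv
    exact hv
  have hmem2 : ∀ v, v ∈ LinearMap.ker (-T - 1) → T v = -v := by
    intro v hv
    rw [LinearMap.mem_ker, LinearMap.sub_apply, LinearMap.neg_apply, Module.End.one_apply,
      sub_eq_zero] at hv
    exact neg_eq_iff_eq_neg.mp hv
  obtain ⟨a1, ha1⟩ : ∃ a1 : ℕ, a1 = min m ((finrank F (LinearMap.ker (T - 1)) - 1) / 2) :=
    ⟨_, rfl⟩
  have ha1m : a1 ≤ m := by rw [ha1]; exact min_le_left _ _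
  have ha1e : 2 * a1 ≤ finrank F (LinearMap.ker (T - 1)) - 1 := by
    have : a1 ≤ (finrank F (LinearMap.ker (T - 1)) - 1) / 2 := by rw [ha1]; exact min_le_right _ _
    omega
  have ha2e : 2 * (m - a1) ≤ finrank F (LinearMap.ker (-T - 1)) - 1 := by
    rcases le_total m ((finrank F (LinearMap.ker (T - 1)) - 1) / 2) with h | h
    · rw [min_eq_left h] at ha1
      rw [ha1]; simp
    · rw [min_eq_right h] at ha1
      omega
  obtain ⟨W1, hW1K, hW1dim, hW1⟩ := h56_witt0 Q h2 _ hE1 a1 ha1e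
  obtain ⟨W2, hW2K, hW2dim, hW2⟩ := h56_witt0 Q h2 _ hE2 (m - a1) ha2e
  have hdis : W1 ⊓ W2 = ⊥ := by
    rw [eq_bot_iff]
    intro v hv
    obtain ⟨hv1, hv2⟩ := Submodule.mem_inf.mp hv
    have e1 := hmem1 v (hW1K hv1)
    have e2 := hmem2 v (hW2K hv2)
    have h3 : (2 : F) • v = 0 := by
      rw [two_smul]
      have : v = -v := e1.symm.trans e2
      nth_rewrite 1 [this]
      exact neg_add_cancel v
    rcases smul_eq_zero.mp h3 with h | h
    · exact absurd h h2
    · exact (Submodule.mem_bot F).mpr h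
  have horth : ∀ u ∈ W1, ∀ v ∈ W2, QuadraticMap.polar Q u v = 0 := by
    intro u hu v hv
    have e1 := hmem1 u (hW1K hu)
    have e2 := hmem2 v (hW2K hv)
    have h3 := sr_iso_polar Q T hT u v
    rw [e1, e2, QuadraticMap.polar_neg_right] at h3
    have h4 : (2 : F) * QuadraticMap.polar Q u v = 0 := by linear_combination -h3
    exact (mul_eq_zero.mp h4).resolve_left h2
  refine ⟨W1 ⊔ W2, ?_, ?_, ?_⟩
  · have h1 := Submodule.finrank_sup_add_finrank_inf_eq W1 W2
    rw [hdis, finrank_bot, add_zero, hW1dim, hW2dim] at h1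
    omega
  · intro w hw
    obtain ⟨u, hu, v, hv, rfl⟩ := Submodule.mem_sup.mp hw
    have h1 : Q (u + v) = Q u + Q v + QuadraticMap.polar Q u v := by
      unfold QuadraticMap.polar
      ring
    rw [h1, hW1 u hu, hW2 v hv, horth u hu v hv]
    ring
  · intro w hw
    obtain ⟨u, hu, v, hv, rfl⟩ := Submodule.mem_sup.mp hw
    rw [map_add, hmem1 u (hW1K hu), hmem2 v (hW2K hv)]
    exact Submodule.add_mem _ (Submodule.mem_sup_left hu)
      (Submodule.mem_sup_right (W2.neg_mem hv))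

end stsinva

section stsodd

variable {F : Type u} [Field F] [Fintype F]

/-! ### PIECE INVA -/

/-- Every involutory isometry of `x₀² + Σ xᵢyᵢ` (`q` odd) fixes a totally singular `m`-space for
every `m < d`. -/
theorem sts_inv_lt (h2 : (2 : F) ≠ 0) (d m : ℕ) (hmd : m < d)
    (x : GL (Unit ⊕ (Fin d ⊕ Fin d)) F)
    (hiso : ∀ u : (Unit ⊕ (Fin d ⊕ Fin d)) → F, Cfsg.quadFormOdd d F ((x : Matrix (Unit ⊕ (Fin d ⊕ Fin d)) (Unit ⊕ (Fin d ⊕ Fin d)) F).mulVec u) = Cfsg.quadFormOdd d F u)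
    (hx2 : x * x = 1) :
    ∃ W : Submodule F ((Unit ⊕ (Fin d ⊕ Fin d)) → F), finrank F W = m ∧ (∀ w ∈ W, Cfsg.quadFormOdd d F w = 0) ∧
      W.map (Matrix.toLin' (x : Matrix (Unit ⊕ (Fin d ⊕ Fin d)) (Unit ⊕ (Fin d ⊕ Fin d)) F)) ≤ W := by
  have hT : ∀ v : (Unit ⊕ (Fin d ⊕ Fin d)) → F, oddForm d F (Matrix.toLin'
      (x : Matrix (Unit ⊕ (Fin d ⊕ Fin d)) (Unit ⊕ (Fin d ⊕ Fin d)) F) v) = oddForm d F v := by
    intro v
    rw [Matrix.toLin'_apply]
    exact hiso v
  have hT2 : Matrix.toLin' (x : Matrix (Unit ⊕ (Fin d ⊕ Fin d)) (Unit ⊕ (Fin d ⊕ Fin d)) F) *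
      Matrix.toLin' (x : Matrix (Unit ⊕ (Fin d ⊕ Fin d)) (Unit ⊕ (Fin d ⊕ Fin d)) F) = 1 := by
    have h := srf_pow d x 2 (by rw [pow_two, hx2])
    rw [pow_two] at h
    exact h
  obtain ⟨W, hWdim, hW, hWinv⟩ := h56_inv_ts (oddForm d F) (srf_nd h2 d) h2 _ hT hT2 d m
    (srf_dim d) hmd
  refine ⟨W, hWdim, hW, ?_⟩
  rintro _ ⟨w, hw, rfl⟩
  exact hWinv w hw

end stsodd

end Cfsg.Agent.Lib.helper24
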