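import Mathlib
import Cfsg.Agent.S4145
import Cfsg.Agent.Lib.helper56.FlavLocA

set_option autoImplicit false
open Cfsg

universe u

namespace Cfsg.Agent.Lib.helper56

theorem flA_pow_inj {G : Type u} [Group G] {p : ℕ} [Fact p.Prime] (x : G) (hx : orderOf x = p)
    (t t' : (ZMod p)ˣ) (h : x ^ (t : ZMod p).val = x ^ (t' : ZMod p).val) : t = t' := by
  have h1 : (t : ZMod p).val < orderOf x := by rw [hx]; exact ZMod.val_lt _
  have h2 : (t' : ZMod p).val < orderOf x := by rw [hx]; exact ZMod.val_lt _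
  have h3 := pow_injOn_Iio_orderOf h1 h2 h
  exact Units.ext (ZMod.val_injective p h3)

theorem flA_pow_mul {G : Type u} [Group G] {p : ℕ} [Fact p.Prime] (x : G) (hx : orderOf x = p)
    (t t' : (ZMod p)ˣ) :
    x ^ ((t * t' : (ZMod p)ˣ) : ZMod p).val = (x ^ (t : ZMod p).val) ^ (t' : ZMod p).val := by
  rw [Units.val_mul, ZMod.val_mul, ← pow_mul]
  have h := pow_mod_orderOf x ((t : ZMod p).val * (t' : ZMod p).val)
  rw [hx] at h
  exact h

theorem flA_pow_one {G : Type u} [Group G] {p : ℕ} [Fact p.Prime] (x : G) :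
    x ^ ((1 : (ZMod p)ˣ) : ZMod p).val = x := by
  have hp : p.Prime := Fact.out
  haveI : Fact (1 < p) := ⟨hp.one_lt⟩
  rw [Units.val_one, ZMod.val_one, pow_one]

/-- the set of units `t` with `x ^ t` conjugate to `x`, as a subgroup of `(ZMod p)ˣ`. -/
def flAE {G : Type u} [Group G] {p : ℕ} [Fact p.Prime] (x : G) (hx : orderOf x = p) :
    Subgroup (ZMod p)ˣ where
  carrier := {t | IsConj (x ^ (t : ZMod p).val) x}
  mul_mem' := by
    intro a b ha hb
    rw [Set.mem_setOf_eq] at ha hb ⊢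
    rw [flA_pow_mul x hx]
    obtain ⟨c, hc⟩ := isConj_iff.mp ha
    have h1 : IsConj ((x ^ (a : ZMod p).val) ^ (b : ZMod p).val) (x ^ (b : ZMod p).val) := by
      rw [isConj_iff]
      exact ⟨c, by rw [← conj_pow, hc]⟩
    exact h1.trans hb
  one_mem' := by
    rw [Set.mem_setOf_eq, flA_pow_one]
  inv_mem' := by
    intro a ha
    rw [Set.mem_setOf_eq] at ha ⊢
    obtain ⟨c, hc⟩ := isConj_iff.mp ha
    have h0 : (x ^ (a : ZMod p).val) ^ ((a⁻¹ : (ZMod p)ˣ) : ZMod p).val = x := by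
      rw [← flA_pow_mul x hx, mul_inv_cancel, flA_pow_one]
    have h1 : IsConj x (x ^ ((a⁻¹ : (ZMod p)ˣ) : ZMod p).val) := by
      rw [isConj_iff]
      refine ⟨c, ?_⟩
      conv_lhs => rw [← h0]
      rw [← conj_pow, hc]
    exact h1.symm

theorem flA_mem_flAE {G : Type u} [Group G] {p : ℕ} [Fact p.Prime] (x : G) (hx : orderOf x = p)
    (t : (ZMod p)ˣ) : t ∈ flAE x hx ↔ IsConj (x ^ (t : ZMod p).val) x := Iff.rfl

theorem flA_card_flAE {G : Type u} [Group G] {p : ℕ} [Fact p.Prime] (x : G) (hx : orderOf x = p) :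
    Nat.card {t : (ZMod p)ˣ // IsConj (x ^ (t : ZMod p).val) x} = Nat.card ↥(flAE x hx) :=
  Nat.card_congr (Equiv.subtypeEquivRight (fun _ => Iff.rfl))

/-- (G6) -/
theorem flA_dvd {G : Type u} [Group G] [Finite G] {p : ℕ} [Fact p.Prime] (x : G)
    (hx : orderOf x = p) :
    Nat.card {t : (ZMod p)ˣ // IsConj (x ^ (t : ZMod p).val) x} ∣ p - 1 := by
  rw [flA_card_flAE x hx]
  have h1 := Subgroup.card_subgroup_dvd_card (flAE x hx)
  have h2 : Nat.card (ZMod p)ˣ = p - 1 := by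
    rw [Nat.card_eq_fintype_card, ZMod.card_units]
  rwa [h2] at h1

/-- conjugation of `x` by a normalizing element is a unit power of `x`. -/
theorem flA_normalizer_conj {G : Type u} [Group G] [Finite G] {p : ℕ} [Fact p.Prime]
    (P : Sylow p G) (hP : IsCyclic ↥(P : Subgroup G)) (x : G) (hxP : x ∈ (P : Subgroup G))
    (hx : orderOf x = p) (n : G) (hn : n ∈ Subgroup.normalizer ((P : Subgroup G) : Set G)) :
    ∃ t : (ZMod p)ˣ, n * x * n⁻¹ = x ^ (t : ZMod p).val ∧ IsConj (x ^ (t : ZMod p).val) x := by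
  have h1 : n * x * n⁻¹ ∈ (P : Subgroup G) := (Subgroup.mem_normalizer_iff.mp hn x).mp hxP
  have h2 : orderOf (n * x * n⁻¹) = p := by rw [Cfsg.Agent.S4145.orderOf_conj', hx]
  obtain ⟨t, ht⟩ := flA_mem_unit_powers (P : Subgroup G) hP x hxP hx _ h1 h2
  refine ⟨t, ht, ?_⟩
  rw [← ht]
  exact (isConj_iff.mpr ⟨n, rfl⟩).symm

/-- (G4) -/
theorem flA_card_normalizer {G : Type u} [Group G] [Finite G] {p : ℕ} [Fact p.Prime]
    (P : Sylow p G) (hP : IsCyclic ↥(P : Subgroup G)) (x : G) (hxP : x ∈ (P : Subgroup G))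
    (hx : orderOf x = p) :
    Nat.card ↥(Subgroup.normalizer ((P : Subgroup G) : Set G)) =
      Nat.card {t : (ZMod p)ˣ // IsConj (x ^ (t : ZMod p).val) x} *
        Nat.card ↥(Subgroup.centralizer ((P : Subgroup G) : Set G)) := by
  have hp : p.Prime := Fact.out
  have hx1 : x ≠ 1 := by
    rintro rfl
    rw [orderOf_one] at hx
    exact hp.one_lt.ne' hx.symm
  have hxtP : ∀ t : (ZMod p)ˣ, x ^ (t : ZMod p).val ∈ (P : Subgroup G) := fun t =>
    Subgroup.pow_mem _ hxP _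
  have hex : ∀ t : {t : (ZMod p)ˣ // IsConj (x ^ (t : ZMod p).val) x},
      ∃ n ∈ Subgroup.normalizer ((P : Subgroup G) : Set G),
        n * x * n⁻¹ = x ^ ((t : (ZMod p)ˣ) : ZMod p).val := fun t =>
    flA_fusion P hP x hxP _ (hxtP t) t.2.symm
  choose f hfN hf using hex
  have hCN : Subgroup.centralizer ((P : Subgroup G) : Set G) ≤
      Subgroup.normalizer ((P : Subgroup G) : Set G) := Subgroup.centralizer_le_normalizer _
  have hcx : ∀ c ∈ Subgroup.centralizer ((P : Subgroup G) : Set G), c * x * c⁻¹ = x := by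
    intro c hc
    rw [Subgroup.mem_centralizer_iff] at hc
    rw [← hc x hxP, mul_inv_cancel_right]
  let F : {t : (ZMod p)ˣ // IsConj (x ^ (t : ZMod p).val) x} ×
      ↥(Subgroup.centralizer ((P : Subgroup G) : Set G)) →
      ↥(Subgroup.normalizer ((P : Subgroup G) : Set G)) := fun tc =>
    ⟨f tc.1 * (tc.2 : G), Subgroup.mul_mem _ (hfN tc.1) (hCN tc.2.2)⟩
  have hFconj : ∀ tc, ((F tc : G)) * x * ((F tc : G))⁻¹ =
      x ^ ((tc.1 : (ZMod p)ˣ) : ZMod p).val := by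
    intro tc
    have h1 : ((F tc : G)) * x * ((F tc : G))⁻¹ =
        f tc.1 * ((tc.2 : G) * x * (tc.2 : G)⁻¹) * (f tc.1)⁻¹ := by
      show f tc.1 * (tc.2 : G) * x * (f tc.1 * (tc.2 : G))⁻¹ = _
      group
    rw [h1, hcx _ tc.2.2, hf]
  have hF : Function.Bijective F := by
    constructor
    · rintro ⟨t, c⟩ ⟨t', c'⟩ h
      have h1 := hFconj (t, c)
      have h2 := hFconj (t', c')
      rw [h] at h1
      have h3 : (t : (ZMod p)ˣ) = t' := flA_pow_inj x hx _ _ (h1.symm.trans h2)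
      have h4 : t = t' := Subtype.ext h3
      subst h4
      have h5 : f t * (c : G) = f t * (c' : G) := congrArg Subtype.val h
      have h6 : (c : G) = c' := mul_left_cancel h5
      rw [Subtype.ext h6]
    · rintro ⟨n, hn⟩
      obtain ⟨t, ht, htc⟩ := flA_normalizer_conj P hP x hxP hx n hn
      have hcN : (f ⟨t, htc⟩)⁻¹ * n ∈ Subgroup.normalizer ((P : Subgroup G) : Set G) :=
        Subgroup.mul_mem _ (Subgroup.inv_mem _ (hfN _)) hn
      have hcx' : ((f ⟨t, htc⟩)⁻¹ * n) * x * ((f ⟨t, htc⟩)⁻¹ * n)⁻¹ = x := by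
        have e : ((f ⟨t, htc⟩)⁻¹ * n) * x * ((f ⟨t, htc⟩)⁻¹ * n)⁻¹ =
            (f ⟨t, htc⟩)⁻¹ * (n * x * n⁻¹) * (f ⟨t, htc⟩) := by group
        rw [e, ht, ← hf ⟨t, htc⟩]
        group
      have hcC := Cfsg.Agent.S4145.key_aut P hP _ hcN (Or.inr ⟨x, hxP, hx1, hcx'⟩)
      refine ⟨(⟨t, htc⟩, ⟨_, hcC⟩), ?_⟩
      apply Subtype.ext
      show f ⟨t, htc⟩ * ((f ⟨t, htc⟩)⁻¹ * n) = n
      group
  rw [← Nat.card_eq_of_bijective F hF, Nat.card_prod]

/-- (G5) -/
theorem flA_two_le {G : Type u} [Group G] [Finite G] [IsSimpleGroup G]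
    (hG : ¬ IsMulCommutative G) {p : ℕ} [Fact p.Prime] (P : Sylow p G)
    (hP : IsCyclic ↥(P : Subgroup G)) (x : G) (hxP : x ∈ (P : Subgroup G))
    (hx : orderOf x = p) :
    2 ≤ Nat.card {t : (ZMod p)ˣ // IsConj (x ^ (t : ZMod p).val) x} := by
  have hp : p.Prime := Fact.out
  have hx1 : x ≠ 1 := by
    rintro rfl
    rw [orderOf_one] at hx
    exact hp.one_lt.ne' hx.symm
  by_contra hlt
  have hle : Nat.card {t : (ZMod p)ˣ // IsConj (x ^ (t : ZMod p).val) x} ≤ 1 := by omega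
  have hsub : Subsingleton {t : (ZMod p)ˣ // IsConj (x ^ (t : ZMod p).val) x} :=
    Finite.card_le_one_iff_subsingleton.mp hle
  have hone : IsConj (x ^ ((1 : (ZMod p)ˣ) : ZMod p).val) x := by rw [flA_pow_one]
  have hyp : Subgroup.normalizer ((P : Subgroup G) : Set G) ≤
      Subgroup.centralizer ((P : Subgroup G) : Set G) := by
    intro n hn
    obtain ⟨t, ht, htc⟩ := flA_normalizer_conj P hP x hxP hx n hn
    have h1 : (⟨t, htc⟩ : {t : (ZMod p)ˣ // IsConj (x ^ (t : ZMod p).val) x}) = ⟨1, hone⟩ :=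
      Subsingleton.elim _ _
    have h2 : t = 1 := congrArg Subtype.val h1
    rw [h2, flA_pow_one] at ht
    exact Cfsg.Agent.S4145.key_aut P hP n hn (Or.inr ⟨x, hxP, hx1, ht⟩)
  have hcompl := MonoidHom.ker_transferSylow_isComplement' P hyp
  have hnorm : (MonoidHom.transferSylow P hyp).ker.Normal := MonoidHom.normal_ker _
  rcases hnorm.eq_bot_or_eq_top with hbot | htop
  · rw [hbot, Subgroup.isComplement'_bot_left] at hcompl
    apply hG
    obtain ⟨g, hg⟩ := hP.exists_generator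
    refine ⟨⟨fun a b => ?_⟩⟩
    have ha : a ∈ (P : Subgroup G) := by rw [hcompl]; exact Subgroup.mem_top a
    have hb : b ∈ (P : Subgroup G) := by rw [hcompl]; exact Subgroup.mem_top b
    obtain ⟨i, hi⟩ := Subgroup.mem_zpowers_iff.mp (hg ⟨a, ha⟩)
    obtain ⟨j, hj⟩ := Subgroup.mem_zpowers_iff.mp (hg ⟨b, hb⟩)
    have hi' : (g : G) ^ i = a := by simpa using congrArg Subtype.val hi
    have hj' : (g : G) ^ j = b := by simpa using congrArg Subtype.val hj
    rw [← hi', ← hj', ← zpow_add, ← zpow_add, add_comm]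
  · rw [htop, Subgroup.isComplement'_top_left] at hcompl
    rw [hcompl, Subgroup.mem_bot] at hxP
    exact hx1 hxP

end Cfsg.Agent.Lib.helper56
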