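import Mathlib
import Cfsg.Agent.S4145
import Cfsg.Agent.S1951
import Cfsg.Agent.Lib.helper56.FlavLocA
import Cfsg.Agent.Lib.helper56.FlavLocB

set_option autoImplicit false
open Cfsg

universe u

namespace Cfsg.Agent.Lib.helper56

/-- (G7) -/
theorem flA_all_conj {G : Type u} [Group G] [Finite G] [IsSimpleGroup G]
    (hG : ¬ IsMulCommutative G) {p : ℕ} [Fact p.Prime] (P : Sylow p G)
    (hcard : Nat.card ↥(P : Subgroup G) = p) (x : G) (hxP : x ∈ (P : Subgroup G))
    (hx : orderOf x = p) (hall : ∀ t : (ZMod p)ˣ, IsConj (x ^ (t : ZMod p).val) x)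
    (hc : ∀ x y : G, orderOf x = p → orderOf y = p →
      Cfsg.IsPSolvable p ↥(Subgroup.closure ({x, y} : Set G))) : False := by
  have hp : p.Prime := Fact.out
  have hx1 : x ≠ 1 := by
    rintro rfl
    rw [orderOf_one] at hx
    exact hp.one_lt.ne' hx.symm
  have hP : IsCyclic ↥(P : Subgroup G) := isCyclic_of_prime_card hcard
  have hP1 : (P : Subgroup G) ≠ ⊥ := by
    intro h
    rw [h, Subgroup.mem_bot] at hxP
    exact hx1 hxP
  have hpow : ∀ a ∈ (P : Subgroup G), a ^ p = 1 := by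
    intro a ha
    have h1 : (⟨a, ha⟩ : ↥(P : Subgroup G)) ^ Nat.card ↥(P : Subgroup G) = 1 :=
      pow_card_eq_one'
    rw [hcard] at h1
    simpa using congrArg Subtype.val h1
  have hPe : Cfsg.IsElementaryAbelian p (P : Subgroup G) := by
    refine ⟨⟨⟨fun a b => ?_⟩⟩, hpow⟩
    obtain ⟨g, hg⟩ := hP.exists_generator
    obtain ⟨i, hi⟩ := Subgroup.mem_zpowers_iff.mp (hg a)
    obtain ⟨j, hj⟩ := Subgroup.mem_zpowers_iff.mp (hg b)
    rw [← hi, ← hj, ← zpow_add, ← zpow_add, add_comm]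
  have hconj : ∀ a ∈ (P : Subgroup G), ∀ b ∈ (P : Subgroup G), a ≠ 1 → b ≠ 1 →
      ∃ g : G, g * a * g⁻¹ = b := by
    intro a ha b hb ha1 hb1
    have hoa : orderOf a = p := orderOf_eq_prime (hpow a ha) ha1
    have hob : orderOf b = p := orderOf_eq_prime (hpow b hb) hb1
    obtain ⟨t, ht⟩ := flA_mem_unit_powers (P : Subgroup G) hP x hxP hx a ha hoa
    obtain ⟨s, hs⟩ := flA_mem_unit_powers (P : Subgroup G) hP x hxP hx b hb hob
    have h1 : IsConj a b := by
      rw [ht, hs]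
      exact (hall t).trans (hall s).symm
    exact isConj_iff.mp h1
  have ha : ∀ a ∈ (P : Subgroup G), ∀ b ∈ (P : Subgroup G), (∃ g : G, g * a * g⁻¹ = b) →
      ∃ n ∈ Subgroup.normalizer ((P : Subgroup G) : Set G), n * a * n⁻¹ = b := by
    intro a ha b hb h
    exact flA_fusion P hP a ha b hb (isConj_iff.mpr h)
  have hb : ∀ a ∈ (P : Subgroup G), orderOf a = p →
      Cfsg.HasNormalPComplement p ↥(Subgroup.centralizer ({a} : Set G)) := by
    intro a ha hoa
    refine flA_centralizer_npc P hP a ha ?_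
    rintro rfl
    rw [orderOf_one] at hoa
    exact hp.one_lt.ne' hoa.symm
  have hp2 : p = 2 := Cfsg.Agent.S1951.result hG P hP1 hPe hconj ha hb hc
  have h2 := flA_two_le hG P hP x hxP hx
  have h3 := flA_dvd x hx
  have h5 : p - 1 = 1 := by omega
  have h4 := Nat.le_of_dvd (by omega) h3
  omega

end Cfsg.Agent.Lib.helper56
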