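import Mathlib
import Cfsg.Agent.Lib.helper44.PresDefs
import Cfsg.Agent.Lib.helper92.PresBR

/-!
# S2286 piece ASE, core version (helper56): `conf_even` with the parametrisation `x` of piece X1
as a hypothesis; also an own copy of the torus/Weyl relations in characteristic 2.
-/

set_option autoImplicit false

namespace Cfsg.Agent.Lib.helper44.Pres

open Polynomial

/-- Own copy of piece C2T (same statement as `char_two_torus`). -/
theorem h56_char_two_torus {G : Type*} [Group G] (u t h : G) (a : ℕ) (ha : 0 < a) (hu : u ^ 2 = 1)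
    (h2 : u * t * u = t * u * t) (h3 : t * h ^ a * t⁻¹ = h ^ (a - 1)) :
    t * t = 1 ∧ h ^ (2 * a - 1) = 1 ∧ t * h * t⁻¹ = h⁻¹ := by
  obtain ⟨b, rfl⟩ : ∃ b, a = b + 1 := ⟨a - 1, by omega⟩
  rw [Nat.add_sub_cancel] at h3
  have e21 : 2 * (b + 1) - 1 = 2 * b + 1 := by omega
  rw [e21]
  have ht : t = (u * t) * u * (u * t)⁻¹ := by
    have e : (u * t) * u * (u * t)⁻¹ = (u * t * u) * t⁻¹ * u⁻¹ := by group
    rw [e, h2]
    group
  have htt : t * t = 1 := by
    have e : ((u * t) * u * (u * t)⁻¹) * ((u * t) * u * (u * t)⁻¹) =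
        (u * t) * (u * u) * (u * t)⁻¹ := by group
    rw [← ht] at e
    rw [e, ← pow_two, hu]
    group
  have htinv : t⁻¹ = t := by
    rw [inv_eq_iff_mul_eq_one]
    exact htt
  rw [htinv] at h3 ⊢
  have h4 : t * h ^ b * t = h ^ (b + 1) := by
    rw [← h3]
    have e : t * (t * h ^ (b + 1) * t) * t = (t * t) * h ^ (b + 1) * (t * t) := by group
    rw [e, htt, one_mul, mul_one]
  have hconj : ∀ (y : G) (n : ℕ), (t * y * t) ^ n = t * y ^ n * t := by
    intro y n
    induction n with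
    | zero => rw [pow_zero, pow_zero, mul_one, htt]
    | succ n ih =>
      rw [pow_succ, ih, pow_succ]
      have e : t * y ^ n * t * (t * y * t) = t * y ^ n * (t * t) * y * t := by group
      rw [e, htt, mul_one]
      group
  have h5 : h ^ (b * b) = h ^ ((b + 1) * (b + 1)) := by
    have e1 : (t * h ^ (b + 1) * t) ^ b = t * h ^ ((b + 1) * b) * t := by
      rw [hconj, ← pow_mul]
    have e2 : (t * h ^ b * t) ^ (b + 1) = t * h ^ (b * (b + 1)) * t := by
      rw [hconj, ← pow_mul]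
    rw [h3, ← pow_mul] at e1
    rw [h4, ← pow_mul] at e2
    rw [e1, e2, mul_comm b (b + 1)]
  have h6 : h ^ (2 * b + 1) = 1 := by
    have e : (b + 1) * (b + 1) = b * b + (2 * b + 1) := by ring
    rw [e, pow_add] at h5
    exact (mul_eq_left (a := h ^ (b * b))).mp h5.symm
  refine ⟨htt, h6, ?_⟩
  have e2 : t * h * t = (t * h ^ (b + 1) * t) * (t * h ^ b * t)⁻¹ := by
    have e3 : (t * h ^ b * t)⁻¹ = t⁻¹ * (h ^ b)⁻¹ * t⁻¹ := by group
    rw [e3, htinv]
    have e4 : t * h ^ (b + 1) * t * (t * (h ^ b)⁻¹ * t) =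
        t * h ^ (b + 1) * (t * t) * (h ^ b)⁻¹ * t := by group
    rw [e4, htt, mul_one, pow_succ]
    group
  rw [e2, h3, h4, pow_succ]
  group

/-- Core of piece ASE: `conf_even` with the parametrisation of piece X1 as a hypothesis. -/
theorem h56_conf_even_core {G : Type*} [Group G] {F : Type*} [Field F] [Fintype F]
    [Algebra (ZMod 2) F] (u t h : G) (lam : F)
    (hlam : ∀ a : F, a ≠ 0 → ∃ k : ℕ, a = lam ^ k)
    (hu : u ^ 2 = 1) (h2 : u * t * u = t * u * t)
    (h3 : t * h ^ (Fintype.card F / 2) * t⁻¹ = h ^ (Fintype.card F / 2 - 1))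
    (x : F → G) (hx1 : x 1 = u) (hxa : ∀ a b, x (a + b) = x a * x b)
    (hxh : ∀ a, h * x a * h⁻¹ = x (lam * a)) :
    IsBConf x u t h lam (Fintype.card F - 1) 0 := by
  have hq : Fintype.card F = 2 ^ Module.finrank (ZMod 2) F := by
    rw [Module.card_eq_pow_finrank (K := ZMod 2) (V := F), ZMod.card]
  have hd0 : 0 < Module.finrank (ZMod 2) F := Module.finrank_pos
  have hq2 : 2 * (Fintype.card F / 2) = Fintype.card F := by
    obtain ⟨d, hd⟩ := Nat.exists_eq_succ_of_ne_zero hd0.ne'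
    rw [hq, hd, pow_succ]
    omega
  have hqpos : 0 < Fintype.card F / 2 := by
    have : 1 < Fintype.card F := Fintype.one_lt_card
    omega
  obtain ⟨ht2, hhn, hth⟩ := h56_char_two_torus u t h (Fintype.card F / 2) hqpos hu h2 h3
  rw [hq2] at hhn
  have hn0 : 0 < Fintype.card F - 1 := by
    have : 1 < Fintype.card F := Fintype.one_lt_card
    omega
  have hbp1 : BP x t h 1 := by
    refine ⟨1, 1, 0, ?_⟩
    rw [hx1, pow_zero, mul_one, h2]
  refine ⟨hx1, hxa, hxh, hth, ?_, hhn, hn0, ?_⟩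
  · rw [pow_zero]
    exact ht2
  · intro a ha
    obtain ⟨k, rfl⟩ := hlam a ha
    have := bp_scale x t h lam (Fintype.card F - 1) hxa hxh hth hhn hn0 1 k hbp1
    rwa [mul_one] at this

end Cfsg.Agent.Lib.helper44.Pres
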