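import Mathlib
import Cfsg.Agent.Lib.helper44.PresDefs

/-!
# S2286 piece ADJ `adjoin_eq_top_of_frob` (helper56) — exact statement of tools/S2286_Skel.lean.txt
-/

set_option autoImplicit false

namespace Cfsg.Agent.Lib.helper44.Pres

open Polynomial

-- ADJ
theorem adjoin_eq_top_of_frob {F : Type*} [Field F] [Fintype F] {p : ℕ} [Fact p.Prime]
    [Algebra (ZMod p) F] (μ : F) (e : ℕ) (he : Fintype.card F = p ^ e)
    (h : ∀ d : ℕ, 0 < d → d < e → μ ^ (p ^ d) ≠ μ) : Algebra.adjoin (ZMod p) {μ} = ⊤ := by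
  classical
  have hp : p.Prime := Fact.out
  have hint : IsAlgebraic (ZMod p) μ := IsAlgebraic.of_finite (ZMod p) μ
  rw [← IntermediateField.adjoin_simple_toSubalgebra_of_isAlgebraic hint]
  suffices hL : IntermediateField.adjoin (ZMod p) {μ} = ⊤ by
    rw [hL, IntermediateField.top_toSubalgebra]
  by_contra hne
  obtain ⟨L, hLdef⟩ : ∃ L : IntermediateField (ZMod p) F,
      L = IntermediateField.adjoin (ZMod p) {μ} := ⟨_, rfl⟩
  rw [← hLdef] at hne
  have hμL : μ ∈ L := by
    rw [hLdef]
    exact IntermediateField.mem_adjoin_simple_self (ZMod p) μ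
  letI : Fintype L := Fintype.ofFinite L
  have hcardL : Fintype.card L = p ^ Module.finrank (ZMod p) L := by
    rw [Module.card_eq_pow_finrank (K := ZMod p) (V := L), ZMod.card]
  have hd0 : 0 < Module.finrank (ZMod p) L := Module.finrank_pos
  have hlt : Fintype.card L < Fintype.card F := by
    obtain ⟨x, hx⟩ : ∃ x : F, x ∉ L := by
      by_contra hall
      push_neg at hall
      exact hne (eq_top_iff.mpr (fun x _ => hall x))
    exact Fintype.card_subtype_lt hx
  have hde : Module.finrank (ZMod p) L < e := by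
    rw [hcardL, he] at hlt
    exact (Nat.pow_lt_pow_iff_right hp.one_lt).mp hlt
  have hpow : (⟨μ, hμL⟩ : L) ^ Fintype.card L = ⟨μ, hμL⟩ := FiniteField.pow_card _
  have hpow' : μ ^ Fintype.card L = μ := by
    have := congrArg (fun z : L => (z : F)) hpow
    simpa using this
  rw [hcardL] at hpow'
  exact h _ hd0 hde hpow'

end Cfsg.Agent.Lib.helper44.Pres
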