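import Mathlib
import Cfsg.Agent.Lib.helper74.QODefs

/-!
# S1935 piece L5a `lim_inf_card` (helper56) — exact statement of tools/S1935_Skel.lean.txt
-/

set_option autoImplicit false

namespace Cfsg.Agent.Lib.helper56.QO

open Cfsg.Agent.Lib.helper74.QO

variable {R : Type*} [Ring R]

/-- PIECE L5a -/
theorem lim_inf_card [Finite R] (W : AddSubgroup R) (ξ : R) (E : AddSubgroup R)
    (hE : ∀ e ∈ E, ξ * e ∈ E ∧ e * ξ ∈ E)
    (hc : Nat.card ↥(lim (W ⊓ E) ξ) = Nat.card ↥(W ⊓ E)) :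
    Nat.card ↥(W ⊓ E) ≤ Nat.card ↥(lim W ξ ⊓ E) := by
  have hle : lim (W ⊓ E) ξ ≤ lim W ξ ⊓ E := by
    rintro l ⟨a, ha, b, hb, c, hc', h1, h2, rfl⟩
    refine ⟨⟨a, ha.1, b, hb.1, c, hc'.1, h1.1, h2.1, rfl⟩, ?_⟩
    have h3 : b * ξ ∈ E := (hE b hb.2).2
    have h4 : ξ * b ∈ E := (hE b hb.2).1
    have h5 : ξ * c * ξ ∈ E := (hE _ (hE c hc'.2).1).2
    exact E.sub_mem (E.sub_mem (E.add_mem ha.2 h3) h4) h5
  rw [← hc]
  exact AddSubgroup.card_le_of_le hle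

end Cfsg.Agent.Lib.helper56.QO
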