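import Cfsg.Agent.Lib.helper42.FGDefs

/-!
Piece C2A (`exists_inv_sylow`) of the S1915 split: a four-group normalizing `A` normalizes a
Sylow 2-subgroup of `A`.
-/

set_option autoImplicit false

namespace Cfsg.Agent.Lib.helper42.FG

variable {G : Type*} [Group G] [Finite G]

theorem helper56_fg_relIndex_dvd_index (S N : Subgroup G) [N.Normal] : S.relIndex N ∣ S.index := by
  have h1 := Subgroup.relIndex_mul_relIndex (S ⊓ N) S (S ⊔ N) inf_le_left le_sup_left
  have h2 := Subgroup.relIndex_mul_relIndex (S ⊓ N) N (S ⊔ N) inf_le_right le_sup_right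
  rw [Subgroup.inf_relIndex_left] at h1
  rw [Subgroup.inf_relIndex_right, Subgroup.relIndex_sup_right] at h2
  have h3 : S.relIndex (S ⊔ N) = S.relIndex N := by
    have h4 : N.relIndex S * S.relIndex (S ⊔ N) = N.relIndex S * S.relIndex N := by
      rw [h1, ← h2, mul_comm]
    have h5 : N.relIndex S ≠ 0 := Subgroup.index_ne_zero_of_finite
    exact Nat.eq_of_mul_eq_mul_left (Nat.pos_of_ne_zero h5) h4
  rw [← h3]
  exact Subgroup.relIndex_dvd_index_of_le le_sup_left

/-- For a Sylow `p`-subgroup `S` and a normal subgroup `N`, `S ∩ N` is a Sylow `p`-subgroup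
of `N`. -/
theorem helper56_fg_sylow_normal {p : ℕ} [Fact p.Prime] (S : Sylow p G)
    (N : Subgroup G) [N.Normal] :
    ∃ X' : Sylow p ↥N, (X' : Subgroup ↥N).map N.subtype = (S : Subgroup G) ⊓ N := by
  have hXp' : IsPGroup p ((S : Subgroup G).subgroupOf N) := S.2.comap_subtype
  have hXidx : ¬ p ∣ ((S : Subgroup G).subgroupOf N).index := by
    intro h
    exact S.not_dvd_index (h.trans (helper56_fg_relIndex_dvd_index (S : Subgroup G) N))
  refine ⟨hXp'.toSylow hXidx, ?_⟩
  rw [IsPGroup.toSylow_coe, Subgroup.subgroupOf_map_subtype]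

/-- C2A -/
theorem exists_inv_sylow (A U : Subgroup G) (hU : IsKleinFour U)
    (hUA : U ≤ Subgroup.normalizer (A : Set G)) :
    ∃ S : Subgroup G, S ≤ A ∧ Nat.card S = 2 ^ (Nat.card A).factorization 2 ∧
      U ≤ Subgroup.normalizer (S : Set G) := by
  have : Fact (Nat.Prime 2) := ⟨Nat.prime_two⟩
  have hU2 : IsPGroup 2 ↥U := IsPGroup.of_card (n := 2) (by rw [hU.card_four]; norm_num)
  have hU'2 : IsPGroup 2 ↥(U.subgroupOf (Subgroup.normalizer (A : Set G))) := hU2.comap_subtype
  obtain ⟨T, hT⟩ := hU'2.exists_le_sylow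
  have hA'n : (A.subgroupOf (Subgroup.normalizer (A : Set G))).Normal :=
    Subgroup.normal_in_normalizer
  obtain ⟨X', hX'⟩ := helper56_fg_sylow_normal T (A.subgroupOf (Subgroup.normalizer (A : Set G)))
  have hconj : ∀ u ∈ U, ∀ x ∈ ((T : Subgroup ↥(Subgroup.normalizer (A : Set G))) ⊓
      A.subgroupOf (Subgroup.normalizer (A : Set G))).map (Subgroup.normalizer (A : Set G)).subtype,
      u * x * u⁻¹ ∈ ((T : Subgroup ↥(Subgroup.normalizer (A : Set G))) ⊓
      A.subgroupOf (Subgroup.normalizer (A : Set G))).map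
        (Subgroup.normalizer (A : Set G)).subtype := by
    rintro u hu x ⟨y, hy, rfl⟩
    have huT : (⟨u, hUA hu⟩ : ↥(Subgroup.normalizer (A : Set G))) ∈
        (T : Subgroup ↥(Subgroup.normalizer (A : Set G))) := hT (Subgroup.mem_subgroupOf.2 hu)
    refine ⟨⟨u, hUA hu⟩ * y * (⟨u, hUA hu⟩ : ↥(Subgroup.normalizer (A : Set G)))⁻¹, ⟨?_, ?_⟩, rfl⟩
    · exact Subgroup.mul_mem _ (Subgroup.mul_mem _ huT hy.1) (Subgroup.inv_mem _ huT)
    · exact hA'n.conj_mem y hy.2 _
  refine ⟨((T : Subgroup ↥(Subgroup.normalizer (A : Set G))) ⊓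
      A.subgroupOf (Subgroup.normalizer (A : Set G))).map
        (Subgroup.normalizer (A : Set G)).subtype, ?_, ?_, ?_⟩
  · rintro x ⟨y, hy, rfl⟩
    exact Subgroup.mem_subgroupOf.1 hy.2
  · rw [Subgroup.card_subtype, ← hX', Subgroup.card_subtype, Sylow.card_eq_multiplicity,
      Nat.card_congr (Subgroup.subgroupOfEquivOfLe (Subgroup.le_normalizer (H := A))).toEquiv]
  · intro u hu
    rw [Subgroup.mem_normalizer_iff]
    intro x
    constructor
    · exact hconj u hu x
    · intro hx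
      have := hconj u⁻¹ (U.inv_mem hu) _ hx
      simpa [mul_assoc] using this

end Cfsg.Agent.Lib.helper42.FG
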