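import Mathlib

/-!
Piece CHAR2 (`two_eq_zero`) of the S2333 split.
-/

set_option autoImplicit false

namespace Cfsg.Agent.Lib.helper49.SPE


/-- CHAR2 (S) -/
theorem two_eq_zero {F : Type*} [Field F] [Fintype F] (heven : Even (Fintype.card F)) :
    (2 : F) = 0 := by
  have h := (FiniteField.even_card_iff_char_two (F := F)).2 (Nat.even_iff.1 heven)
  have h2 : ((ringChar F : ℕ) : F) = 0 := ringChar.Nat.cast_ringChar
  rw [h] at h2
  exact_mod_cast h2

end Cfsg.Agent.Lib.helper49.SPE
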