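import Mathlib

/-!
# S4118 piece F3 `cyclic_comm` (helper56) — exact statement of tools/S4118_Skel.lean.txt
-/

set_option autoImplicit false

namespace Cfsg.Agent.Lib.helper56.TIH

/-- **F3** (pure).  Two elements normalizing a cyclic subgroup induce commuting automorphisms of it. -/
theorem cyclic_comm {G : Type*} [Group G] (P : Subgroup G) (hc : IsCyclic P) (b₁ b₂ : G)
    (h₁ : b₁ ∈ Subgroup.normalizer (P : Set G)) (h₂ : b₂ ∈ Subgroup.normalizer (P : Set G)) :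
    ∀ x ∈ P, (b₁ * b₂ * b₁⁻¹ * b₂⁻¹) * x = x * (b₁ * b₂ * b₁⁻¹ * b₂⁻¹) := by
  obtain ⟨g, hg⟩ := hc.exists_generator
  -- conjugation by a normalizing element is a power map on `P`
  have key : ∀ b : G, b ∈ Subgroup.normalizer (P : Set G) →
      ∃ m : ℤ, ∀ x ∈ P, b * x * b⁻¹ = x ^ m := by
    intro b hb
    have hmem : b * (g : G) * b⁻¹ ∈ P := (Subgroup.mem_normalizer_iff.1 hb _).1 g.2
    obtain ⟨m, hm⟩ := Subgroup.mem_zpowers_iff.1 (hg ⟨_, hmem⟩)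
    have hm' : (g : G) ^ m = b * (g : G) * b⁻¹ := by
      have := congrArg Subtype.val hm
      simpa using this
    refine ⟨m, fun x hx => ?_⟩
    obtain ⟨k, hk⟩ := Subgroup.mem_zpowers_iff.1 (hg ⟨x, hx⟩)
    have hk' : (g : G) ^ k = x := by
      have := congrArg Subtype.val hk
      simpa using this
    rw [← hk', ← conj_zpow, ← hm', ← zpow_mul, ← zpow_mul, mul_comm]
  obtain ⟨m₁, hm₁⟩ := key b₁ h₁
  obtain ⟨m₂, hm₂⟩ := key b₂ h₂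
  have hcomm : ∀ x ∈ P, b₁ * (b₂ * x * b₂⁻¹) * b₁⁻¹ = b₂ * (b₁ * x * b₁⁻¹) * b₂⁻¹ := by
    intro x hx
    have hx2 : b₂ * x * b₂⁻¹ ∈ P := (Subgroup.mem_normalizer_iff.1 h₂ _).1 hx
    have hx1 : b₁ * x * b₁⁻¹ ∈ P := (Subgroup.mem_normalizer_iff.1 h₁ _).1 hx
    rw [hm₁ _ hx2, hm₂ _ hx1, hm₂ x hx, hm₁ x hx, ← zpow_mul, ← zpow_mul, mul_comm]
  intro x hx
  have h₁' : b₁⁻¹ ∈ Subgroup.normalizer (P : Set G) := inv_mem h₁
  have h₂' : b₂⁻¹ ∈ Subgroup.normalizer (P : Set G) := inv_mem h₂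
  have hy2 : b₂⁻¹ * x * b₂ ∈ P := by
    have := (Subgroup.mem_normalizer_iff.1 h₂' x).1 hx
    simpa using this
  have hy : b₁⁻¹ * (b₂⁻¹ * x * b₂) * b₁ ∈ P := by
    have := (Subgroup.mem_normalizer_iff.1 h₁' _).1 hy2
    simpa using this
  have h := hcomm _ hy
  have hR : b₂ * (b₁ * (b₁⁻¹ * (b₂⁻¹ * x * b₂) * b₁) * b₁⁻¹) * b₂⁻¹ = x := by group
  rw [hR] at h
  calc (b₁ * b₂ * b₁⁻¹ * b₂⁻¹) * x
      = (b₁ * (b₂ * (b₁⁻¹ * (b₂⁻¹ * x * b₂) * b₁) * b₂⁻¹) * b₁⁻¹) * (b₁ * b₂ * b₁⁻¹ * b₂⁻¹) := by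
        group
    _ = x * (b₁ * b₂ * b₁⁻¹ * b₂⁻¹) := by rw [h]

end Cfsg.Agent.Lib.helper56.TIH
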