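import Mathlib

/-!
# S4118 piece S1 `solvable_sup` (helper56) — exact statement of tools/S4118_Skel.lean.txt
-/

set_option autoImplicit false

namespace Cfsg.Agent.Lib.helper56.TIH

/-- auxiliary: inside a group with a normal solvable subgroup `K` and a solvable subgroup `A`,
the join `K ⊔ A` is solvable. -/
theorem solvable_sup_normal {N : Type*} [Group N] (K A : Subgroup N) [K.Normal]
    (hK : Group.IsSolvable K) (hAs : Group.IsSolvable A) : Group.IsSolvable ↥(K ⊔ A) := by
  let q : N →* N ⧸ K := QuotientGroup.mk' K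
  have hmap : (K ⊔ A).map q = A.map q := by
    rw [Subgroup.map_sup, QuotientGroup.map_mk'_self, bot_sup_eq]
  -- the image of `A` is solvable
  haveI : Group.IsSolvable ↥(A.map q) :=
    solvable_of_surjective (q.subgroupMap_surjective A)
  let g : ↥(K ⊔ A) →* ↥(A.map q) :=
    (q.comp (K ⊔ A).subtype).codRestrict (A.map q) (fun x => by
      rw [← hmap]
      exact Subgroup.mem_map_of_mem q x.2)
  let f : ↥K →* ↥(K ⊔ A) := Subgroup.inclusion le_sup_left
  refine solvable_of_ker_le_range f g ?_
  intro x hx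
  have hx' : q (x : N) = 1 := by
    have := congrArg Subtype.val (MonoidHom.mem_ker.1 hx)
    simpa [g] using this
  have hxK : (x : N) ∈ K := by
    have := (QuotientGroup.eq_one_iff (N := K) (x : N)).1 hx'
    exact this
  exact ⟨⟨x, hxK⟩, Subtype.ext rfl⟩

/-- **S1** (pure).  `K ⊔ A` is solvable when `K`, `A` are solvable and `A` normalizes `K`. -/
theorem solvable_sup {G : Type*} [Group G] (K A : Subgroup G)
    (hA : A ≤ Subgroup.normalizer (K : Set G))
    (hK : Group.IsSolvable K) (hAs : Group.IsSolvable A) : Group.IsSolvable ↥(K ⊔ A) := by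
  set N : Subgroup G := Subgroup.normalizer (K : Set G) with hN
  have hKN : K ≤ N := Subgroup.le_normalizer
  let K₀ : Subgroup N := K.subgroupOf N
  let A₀ : Subgroup N := A.subgroupOf N
  haveI : K₀.Normal := Subgroup.normal_in_normalizer
  haveI hK₀ : Group.IsSolvable K₀ :=
    solvable_of_solvable_injective (f := (Subgroup.subgroupOfEquivOfLe hKN).toMonoidHom)
      (Subgroup.subgroupOfEquivOfLe hKN).injective
  haveI hA₀ : Group.IsSolvable A₀ :=
    solvable_of_solvable_injective (f := (Subgroup.subgroupOfEquivOfLe hA).toMonoidHom)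
      (Subgroup.subgroupOfEquivOfLe hA).injective
  haveI hsol : Group.IsSolvable ↥(K₀ ⊔ A₀) := solvable_sup_normal K₀ A₀ hK₀ hA₀
  have hmap : (K₀ ⊔ A₀).map N.subtype = K ⊔ A := by
    rw [Subgroup.map_sup, Subgroup.subgroupOf_map_subtype, Subgroup.subgroupOf_map_subtype,
      inf_eq_left.2 hKN, inf_eq_left.2 hA]
  haveI : Group.IsSolvable ↥((K₀ ⊔ A₀).map N.subtype) :=
    solvable_of_surjective (N.subtype.subgroupMap_surjective (K₀ ⊔ A₀))
  exact solvable_of_solvable_injective (f := (MulEquiv.subgroupCongr hmap.symm).toMonoidHom)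
    (MulEquiv.subgroupCongr hmap.symm).injective

end Cfsg.Agent.Lib.helper56.TIH
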