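import Mathlib

/-!
# S3571 piece AIDX (helper56) — exact statement of tools/S3571_Skel.lean.txt
-/

set_option autoImplicit false

namespace Cfsg.Agent.Lib.helper56.AD

open scoped Pointwise
open Equiv MulAction

/-- AIDX -/
theorem relIndex_stabilizer_alt (m : ℕ) (hm : 3 ≤ m) (s : Set (Fin m)) :
    (stabilizer (Perm (Fin m)) s).relIndex (alternatingGroup (Fin m)) = m.choose s.ncard := by
  classical
  have hcard : s.toFinset.card = s.ncard := (Set.ncard_eq_toFinset_card' s).symm
  let t : Set.powersetCard (Fin m) s.ncard := ⟨s.toFinset, hcard⟩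
  haveI : IsPretransitive (alternatingGroup (Fin m)) (Set.powersetCard (Fin m) s.ncard) :=
    Set.powersetCard.isPretransitive_alternatingGroup (by simpa using hm)
  have h1 : (stabilizer (alternatingGroup (Fin m)) t).index =
      Nat.card (Set.powersetCard (Fin m) s.ncard) :=
    MulAction.index_stabilizer_of_transitive (alternatingGroup (Fin m)) t
  have h2 : stabilizer (alternatingGroup (Fin m)) t =
      (stabilizer (Perm (Fin m)) s).subgroupOf (alternatingGroup (Fin m)) := by
    have h2a : stabilizer (alternatingGroup (Fin m)) t =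
        stabilizer (alternatingGroup (Fin m)) ((t : Finset (Fin m)) : Set (Fin m)) :=
      Set.powersetCard.stabilizer_coe t
    rw [h2a]
    ext g
    rw [Subgroup.mem_subgroupOf, mem_stabilizer_iff, mem_stabilizer_iff]
    have h3 : ((t : Finset (Fin m)) : Set (Fin m)) = s := by
      simp [t]
    rw [h3]
    rfl
  unfold Subgroup.relIndex
  rw [← h2, h1, Set.powersetCard.card]
  simp

end Cfsg.Agent.Lib.helper56.AD
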