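import Mathlib

/-!
# S3571 pieces C1, C2, M6a, M6c (helper56) — exact statements of tools/S3571_Skel.lean.txt
-/

set_option autoImplicit false

namespace Cfsg.Agent.Lib.helper56.AD

open scoped Pointwise
open Equiv MulAction

/-- C1 -/
theorem exists_cycle (m r : ℕ) (hr2 : 2 ≤ r) (hrm : r ≤ m) :
    ∃ x : Perm (Fin m), x.IsCycle ∧ x.support.card = r := by
  have hnd : ((List.finRange m).take r).Nodup :=
    List.Nodup.sublist (List.take_sublist r _) (List.nodup_finRange m)
  have hlen : ((List.finRange m).take r).length = r := by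
    rw [List.length_take, List.length_finRange]
    exact Nat.min_eq_left hrm
  refine ⟨((List.finRange m).take r).formPerm, ?_, ?_⟩
  · exact List.isCycle_formPerm hnd (by rw [hlen]; exact hr2)
  · rw [List.support_formPerm_of_nodup _ hnd, List.toFinset_card_of_nodup hnd, hlen]
    intro x hx
    have := congrArg List.length hx
    rw [hlen, List.length_singleton] at this
    omega

/-- C2 -/
theorem exists_three_cycle_of_relIndex (m : ℕ) (hm : 3 ≤ m) (K : Subgroup (Perm (Fin m)))
    (h3 : ¬ 3 ∣ K.relIndex (alternatingGroup (Fin m))) : ∃ g ∈ K, g.IsThreeCycle := by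
  obtain ⟨c, hc, hcs⟩ := exists_cycle m 3 (by norm_num) hm
  have hc3 : c.IsThreeCycle := card_support_eq_three_iff.mp hcs
  have hcA : c ∈ alternatingGroup (Fin m) := hc3.mem_alternatingGroup
  have hP : IsPGroup 3 (Subgroup.zpowers (⟨c, hcA⟩ : alternatingGroup (Fin m))) := by
    apply IsPGroup.of_card (n := 1)
    rw [Nat.card_zpowers, pow_one, ← Subgroup.orderOf_coe]
    exact hc3.orderOf
  haveI : Fact (Nat.Prime 3) := ⟨Nat.prime_three⟩
  have hfix := hP.nonempty_fixed_point_of_prime_not_dvd_card
    (α := alternatingGroup (Fin m) ⧸ K.subgroupOf (alternatingGroup (Fin m)))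
    (by rw [← Subgroup.index_eq_card]; exact h3)
  obtain ⟨q, hq⟩ := hfix
  induction q using QuotientGroup.induction_on with
  | H g =>
    have h1 := hq ⟨⟨c, hcA⟩, Subgroup.mem_zpowers _⟩
    have h2 : ((⟨c, hcA⟩ * g : alternatingGroup (Fin m)) :
        alternatingGroup (Fin m) ⧸ K.subgroupOf (alternatingGroup (Fin m))) = (g : _ ⧸ _) := h1
    rw [QuotientGroup.eq] at h2
    have h4 := Subgroup.inv_mem _ h2
    rw [Subgroup.mem_subgroupOf] at h4
    refine ⟨_, h4, ?_⟩
    have h5 : (((⟨c, hcA⟩ * g : alternatingGroup (Fin m))⁻¹ * g)⁻¹ : alternatingGroup (Fin m)).1 =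
        (g : Perm (Fin m))⁻¹ * c * ((g : Perm (Fin m))⁻¹)⁻¹ := by
      simp [mul_assoc]
    rw [h5]
    unfold Equiv.Perm.IsThreeCycle
    rw [Equiv.Perm.cycleType_conj]
    exact hc3

/-- M6a -/
theorem orderOf_ne_fifteen (x : Perm (Fin 6)) : orderOf x ≠ 15 := by
  intro h
  have hl : x.cycleType.lcm = 15 := by rw [Equiv.Perm.lcm_cycleType, h]
  have hsum : x.cycleType.sum ≤ 6 := by
    rw [Equiv.Perm.sum_cycleType]
    have := Finset.card_le_univ x.support
    simpa using this
  have hmem : ∀ a ∈ x.cycleType, a = 3 ∨ a = 5 := by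
    intro a ha
    have h1 : a ∣ 15 := by rw [← h]; exact Equiv.Perm.dvd_of_mem_cycleType ha
    have h2 : 2 ≤ a := Equiv.Perm.two_le_of_mem_cycleType ha
    have h3 : a ≤ 6 := le_trans (Multiset.le_sum_of_mem ha) hsum
    interval_cases a <;> simp_all
  by_cases h3 : 3 ∈ x.cycleType
  · by_cases h5 : 5 ∈ x.cycleType
    · obtain ⟨s', hs'⟩ := Multiset.exists_cons_of_mem h3
      have h5' : 5 ∈ s' := by
        rw [hs', Multiset.mem_cons] at h5
        rcases h5 with h5 | h5
        · omega
        · exact h5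
      obtain ⟨s'', hs''⟩ := Multiset.exists_cons_of_mem h5'
      rw [hs', hs'', Multiset.sum_cons, Multiset.sum_cons] at hsum
      omega
    · have hd : x.cycleType.lcm ∣ 3 := by
        apply Multiset.lcm_dvd.mpr
        intro a ha
        rcases hmem a ha with rfl | rfl
        · exact dvd_rfl
        · exact absurd ha h5
      rw [hl] at hd
      omega
  · have hd : x.cycleType.lcm ∣ 5 := by
      apply Multiset.lcm_dvd.mpr
      intro a ha
      rcases hmem a ha with rfl | rfl
      · exact absurd ha h3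
      · exact dvd_rfl
    rw [hl] at hd
    omega

/-- M6c -/
theorem alt6_relIndex_ge (K : Subgroup (Perm (Fin 6))) (hK : ¬ alternatingGroup (Fin 6) ≤ K) :
    6 ≤ K.relIndex (alternatingGroup (Fin 6)) := by
  haveI : IsSimpleGroup (alternatingGroup (Fin 6)) := alternatingGroup.isSimpleGroup (by simp)
  have hL : K.subgroupOf (alternatingGroup (Fin 6)) ≠ ⊤ := by
    intro h
    exact hK (Subgroup.subgroupOf_eq_top.mp h)
  have hcore : (K.subgroupOf (alternatingGroup (Fin 6))).normalCore = ⊥ := by
    rcases (Subgroup.normalCore_normal (K.subgroupOf (alternatingGroup (Fin 6)))).eq_bot_or_eq_top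
      with h | h
    · exact h
    · exfalso
      apply hL
      have := Subgroup.normalCore_le (K.subgroupOf (alternatingGroup (Fin 6)))
      rw [h] at this
      exact top_le_iff.mp this
  have hinj : Function.Injective (MulAction.toPermHom (alternatingGroup (Fin 6))
      (alternatingGroup (Fin 6) ⧸ K.subgroupOf (alternatingGroup (Fin 6)))) := by
    rw [← MonoidHom.ker_eq_bot_iff, ← Subgroup.normalCore_eq_ker]
    exact hcore
  have hdvd := Subgroup.card_dvd_of_injective _ hinj
  rw [Nat.card_perm] at hdvd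
  have hA : Nat.card (alternatingGroup (Fin 6)) = 360 := by
    rw [nat_card_alternatingGroup]
    simp [Nat.factorial]
  have hidx : Nat.card (alternatingGroup (Fin 6) ⧸ K.subgroupOf (alternatingGroup (Fin 6))) =
      K.relIndex (alternatingGroup (Fin 6)) := rfl
  rw [hidx, hA] at hdvd
  by_contra hlt
  push_neg at hlt
  obtain ⟨n, hn⟩ : ∃ n, n = K.relIndex (alternatingGroup (Fin 6)) := ⟨_, rfl⟩
  rw [← hn] at hdvd hlt
  interval_cases n <;> simp [Nat.factorial] at hdvd <;> omega

end Cfsg.Agent.Lib.helper56.AD
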