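import Mathlib

/-!
# S3571 pieces NT1c, NT1d, NT2, NT3 (helper56) — exact statements of tools/S3571_Skel.lean.txt
-/

set_option autoImplicit false

namespace Cfsg.Agent.Lib.helper56.AD

open scoped Pointwise
open Equiv MulAction

/-- NT1c -/
theorem choose_le_pow_primeCounting (m k B : ℕ) (hm : 0 < m) (hkm : k ≤ m)
    (h : ∀ p : ℕ, p.Prime → p ∣ m.choose k → p ≤ B) :
    m.choose k ≤ m ^ (Nat.primeCounting B) := by
  have hne : m.choose k ≠ 0 := (Nat.choose_pos hkm).ne'
  have h1 : (m.choose k).factorization.prod (fun p e => p ^ e) = m.choose k :=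
    Nat.prod_factorization_pow_eq_self hne
  have h2 : (m.choose k).factorization.prod (fun p e => p ^ e) ≤
      ∏ _p ∈ (m.choose k).factorization.support, m := by
    unfold Finsupp.prod
    apply Finset.prod_le_prod'
    intro p _
    exact Nat.pow_factorization_choose_le hm
  have h3 : (m.choose k).factorization.support ⊆ (Finset.range (B + 1)).filter Nat.Prime := by
    intro p hp
    rw [Nat.support_factorization] at hp
    have hpp := Nat.prime_of_mem_primeFactors hp
    have hpd := Nat.dvd_of_mem_primeFactors hp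
    rw [Finset.mem_filter, Finset.mem_range]
    exact ⟨Nat.lt_succ_of_le (h p hpp hpd), hpp⟩
  have h4 : (m.choose k).factorization.support.card ≤ Nat.primeCounting B := by
    have := Finset.card_le_card h3
    rw [Nat.primeCounting, Nat.primeCounting', Nat.count_eq_card_filter_range]
    exact this
  calc m.choose k = (m.choose k).factorization.prod (fun p e => p ^ e) := h1.symm
    _ ≤ ∏ _p ∈ (m.choose k).factorization.support, m := h2
    _ = m ^ (m.choose k).factorization.support.card := by rw [Finset.prod_const]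
    _ ≤ m ^ (Nat.primeCounting B) := Nat.pow_le_pow_right hm h4

/-- NT1d -/
theorem pow_le_pow_mul_choose (m k : ℕ) (hkm : k ≤ m) : m ^ k ≤ k ^ k * m.choose k := by
  induction k generalizing m with
  | zero => simp
  | succ k ih =>
    obtain ⟨n, rfl⟩ : ∃ n, m = n + 1 := ⟨m - 1, by omega⟩
    have hkn : k ≤ n := by omega
    have IH := ih n hkn
    have hkey : (n + 1).choose (k + 1) * (k + 1) = (n + 1) * n.choose k :=
      (Nat.add_one_mul_choose_eq n k).symm
    have hsuff : (n + 1) ^ k ≤ (k + 1) ^ k * n.choose k := by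
      rcases Nat.eq_zero_or_pos k with hk0 | hk0
      · subst hk0; simp
      · have hkk : 0 < k ^ k := pow_pos hk0 k
        have h1 : k ^ k * (n + 1) ^ k ≤ k ^ k * ((k + 1) ^ k * n.choose k) := by
          calc k ^ k * (n + 1) ^ k = (k * (n + 1)) ^ k := by rw [mul_pow]
            _ ≤ ((k + 1) * n) ^ k := by
                apply Nat.pow_le_pow_left
                nlinarith
            _ = (k + 1) ^ k * n ^ k := by rw [mul_pow]
            _ ≤ (k + 1) ^ k * (k ^ k * n.choose k) := Nat.mul_le_mul_left _ IH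
            _ = k ^ k * ((k + 1) ^ k * n.choose k) := by ring
        exact Nat.le_of_mul_le_mul_left h1 hkk
    calc (n + 1) ^ (k + 1) = (n + 1) ^ k * (n + 1) := by rw [pow_succ]
      _ ≤ (k + 1) ^ k * n.choose k * (n + 1) := Nat.mul_le_mul_right _ hsuff
      _ = (k + 1) ^ k * ((n + 1) * n.choose k) := by ring
      _ = (k + 1) ^ k * ((n + 1).choose (k + 1) * (k + 1)) := by rw [hkey]
      _ = (k + 1) ^ (k + 1) * (n + 1).choose (k + 1) := by ring

/-- `r ∤ C(a, b)` for a prime `r > a` and `b ≤ a`. -/
theorem nt_not_dvd_choose (r a b : ℕ) (hr : r.Prime) (har : a < r) (hba : b ≤ a) :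
    ¬ r ∣ a.choose b := by
  intro hd
  have h1 : a.choose b * b.factorial * (a - b).factorial = a.factorial :=
    Nat.choose_mul_factorial_mul_factorial hba
  have h2 : r ∣ a.factorial := by
    rw [← h1]
    exact Dvd.dvd.mul_right (Dvd.dvd.mul_right hd _) _
  have h3 := (Nat.Prime.dvd_factorial hr).mp h2
  omega

/-- NT2 (Lucas) -/
theorem mod_lt_mod_of_dvd_choose (m k r : ℕ) (hr : r.Prime) (hkm : k ≤ m)
    (hd : r ∣ m.choose k) (h : k < r ∨ m < r ^ 2) : m % r < k % r := by
  haveI : Fact r.Prime := ⟨hr⟩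
  have hluc : m.choose k ≡ (m % r).choose (k % r) * (m / r).choose (k / r) [MOD r] :=
    Choose.choose_modEq_choose_mod_mul_choose_div_nat
  have hd2 : r ∣ (m % r).choose (k % r) * (m / r).choose (k / r) :=
    (Nat.modEq_zero_iff_dvd.mp (hluc.symm.trans (Nat.modEq_zero_iff_dvd.mpr hd)))
  have hnd : ¬ r ∣ (m / r).choose (k / r) := by
    rcases h with h | h
    · rw [Nat.div_eq_of_lt h, Nat.choose_zero_right]
      intro h1
      exact hr.one_lt.ne' (Nat.dvd_one.mp h1)
    · apply nt_not_dvd_choose r (m / r) (k / r) hr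
      · rw [Nat.div_lt_iff_lt_mul hr.pos]
        calc m < r ^ 2 := h
          _ = r * r := by ring
      · exact Nat.div_le_div_right hkm
  have hd3 : r ∣ (m % r).choose (k % r) := by
    rcases (Nat.Prime.dvd_mul hr).mp hd2 with h1 | h1
    · exact h1
    · exact absurd h1 hnd
  by_contra hcon
  push_neg at hcon
  exact nt_not_dvd_choose r (m % r) (k % r) hr (Nat.mod_lt _ hr.pos) hcon hd3

/-- NT3 -/
theorem two_mul_le_of_sq_dvd_factorial (r m : ℕ) (hr : r.Prime) (h : r ^ 2 ∣ m.factorial) :
    2 * r ≤ m := by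
  by_contra hcon
  push_neg at hcon
  have hr2 : 2 ≤ r := hr.two_le
  have hlt : m < r ^ 2 := by nlinarith
  have hlog : Nat.log r m < 2 := by
    rcases Nat.eq_zero_or_pos m with h0 | h0
    · subst h0; simp
    · exact (Nat.log_lt_iff_lt_pow hr.one_lt h0.ne').mpr hlt
  have h1 := (Nat.Prime.pow_dvd_factorial_iff hr hlog).mp h
  have h2 : ∑ i ∈ Finset.Ico 1 2, m / r ^ i = m / r := by
    simp
  rw [h2] at h1
  have h3 : 2 * r ≤ m := by
    have := Nat.div_mul_le_self m r
    nlinarith
  omega

end Cfsg.Agent.Lib.helper56.AD
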