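import Mathlib

set_option autoImplicit false

namespace Cfsg.Agent.Lib.helper2.BG

universe u

/-- R11: if `N` is perfect and `G = N Z(G)` then `G / Z(G)` is perfect. -/
theorem R_quot_perfect {G : Type u} [Group G] (N : Subgroup G) (hN : commutator ↥N = ⊤)
    (hsup : N ⊔ Subgroup.center G = ⊤) : commutator (G ⧸ Subgroup.center G) = ⊤ := by
  set φ : ↥N →* G ⧸ Subgroup.center G :=
    (QuotientGroup.mk' (Subgroup.center G)).comp N.subtype with hφ
  have hsurj : Function.Surjective φ := by
    intro q
    obtain ⟨g, rfl⟩ := QuotientGroup.mk_surjective q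
    have hg : g ∈ ((N ⊔ Subgroup.center G : Subgroup G) : Set G) := by
      rw [hsup]; exact Set.mem_univ g
    rw [Subgroup.mul_normal] at hg
    obtain ⟨n, hn, z, hz, rfl⟩ := Set.mem_mul.1 hg
    refine ⟨⟨n, hn⟩, ?_⟩
    rw [hφ]
    simp only [MonoidHom.coe_comp, Function.comp_apply, Subgroup.coe_subtype,
      QuotientGroup.mk'_apply]
    rw [QuotientGroup.eq]
    simpa using hz
  have hmap : Subgroup.map φ (⊤ : Subgroup ↥N) = ⊤ := Subgroup.map_top_of_surjective φ hsurj
  have h1 : Subgroup.map φ (commutator ↥N) = commutator (G ⧸ Subgroup.center G) := by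
    rw [commutator_def, Subgroup.map_commutator, hmap, commutator_def]
  rw [← h1, hN, hmap]

end Cfsg.Agent.Lib.helper2.BG
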