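import Mathlib

set_option autoImplicit false

namespace Cfsg.Agent.Lib.helper2.BG

universe u

open scoped commutatorElement

/-- R9: a group normally generated by an element `x` of prime order which is conjugate to a
different power of itself is perfect. -/
theorem R_perfect_of_gen {K : Type u} [Group K] (p : ℕ) [Fact p.Prime] (x : K)
    (hx : orderOf x = p) (hgen : Subgroup.normalClosure ({x} : Set K) = ⊤)
    (hnc : ∃ n : K, n * x * n⁻¹ ≠ x ∧ n * x * n⁻¹ ∈ Subgroup.zpowers x) :
    commutator K = ⊤ := by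
  obtain ⟨n, hne, hmem⟩ := hnc
  obtain ⟨k, hk⟩ := Subgroup.mem_zpowers_iff.1 hmem
  have hp : p.Prime := Fact.out
  have hxp : x ^ (p : ℤ) = 1 := by
    rw [zpow_natCast, ← hx, pow_orderOf_eq_one]
  have h1 : x ^ (k - 1) ∈ commutator K := by
    have : x ^ (k - 1) = ⁅n, x⁆ := by
      rw [commutatorElement_def, ← hk, zpow_sub_one]
    rw [this]
    exact Subgroup.commutator_mem_commutator (Subgroup.mem_top n) (Subgroup.mem_top x)
  have h2 : ¬ (p : ℤ) ∣ (k - 1) := by
    intro hdvd
    obtain ⟨c, hc⟩ := hdvd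
    apply hne
    rw [← hk]
    have hk' : k = 1 + p * c := by linarith
    rw [hk', zpow_add, zpow_one, zpow_mul, hxp, one_zpow, mul_one]
  have hcop : IsCoprime (p : ℤ) (k - 1) :=
    (Prime.coprime_iff_not_dvd (Nat.prime_iff_prime_int.1 hp)).2 h2
  obtain ⟨a, b, hab⟩ := hcop
  have hxmem : x ∈ commutator K := by
    have hx1 : x = (x ^ (k - 1)) ^ b := by
      have : x = x ^ (a * (p : ℤ) + b * (k - 1)) := by rw [hab, zpow_one]
      rw [zpow_add, zpow_mul', hxp, one_zpow, one_mul, zpow_mul'] at this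
      exact this
    rw [hx1]
    exact Subgroup.zpow_mem _ h1 b
  have hle : Subgroup.normalClosure ({x} : Set K) ≤ commutator K :=
    Subgroup.normalClosure_le_normal (by simpa using hxmem)
  rw [hgen] at hle
  exact top_le_iff.1 hle

end Cfsg.Agent.Lib.helper2.BG
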