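import Mathlib

/-!
# S0997 piece AR2 `ar_minus` (helper56) — exact statement of tools/S0997_Skel.lean.txt
-/

set_option autoImplicit false

namespace Cfsg.Agent.Lib.helper56.BU

/-- AR2 : the case `ε = -1` (`S = X ∖ 1`, `d` = degrees, `δ` = signs, `N = |Syl_p|`). -/
theorem ar_minus (p q e b N : ℕ) (hp : p.Prime) (hq : q.Prime) (hpq : p ≠ q)
    (he2 : 2 ≤ e) (hep : e ∣ p - 1) (hef : e + 2 ≤ p) (hN : e * N = q ^ b * (p - e))
    {ι : Type*} (S : Finset ι) (d : ι → ℕ) (δ : ι → ℤ) (hS : S.card + 1 = e)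
    (hδ : ∀ i ∈ S, δ i = 1 ∨ δ i = -1)
    (hq' : ∀ i ∈ S, q ∣ d i) (hd : ∀ i ∈ S, d i ∣ q ^ b * (p - e))
    (hmod : ∀ i ∈ S, (d i : ℤ) ≡ δ i [ZMOD p])
    (hsum : ∑ i ∈ S, δ i * (d i : ℤ) = -((p : ℤ) - (e : ℤ)) - 1) :
    q = 2 ∧ ((e = 2 ∧ ∃ i ∈ S, δ i = -1 ∧ d i = p - 1 ∧ ∃ k : ℕ, p - 1 = 2 ^ k) ∨
      (4 ≤ e ∧ p - 1 = 2 * e ∧ ∃ a : ℕ, e = 2 ^ a)) := by
  have hp2 : 2 ≤ p := hp.two_le
  have hep' : e ≤ p := by omega
  -- e is prime to p
  have hcop_ep : Nat.Coprime e p := by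
    refine Nat.Coprime.symm ((Nat.Prime.coprime_iff_not_dvd hp).2 ?_)
    intro h
    have := Nat.le_of_dvd (by omega) h
    omega
  -- e is prime to p - e
  have hcop : Nat.Coprime e (p - e) := by
    refine Nat.Coprime.symm (Nat.Coprime.coprime_dvd_left (k := p - e) (m := p - e) dvd_rfl ?_)
    rw [Nat.coprime_comm]
    have h := hcop_ep
    rw [show p = e + (p - e) by omega] at h
    simpa using h
  -- e is a power of q
  have hdvd : e ∣ q ^ b := by
    have h : e ∣ q ^ b * (p - e) := ⟨N, hN.symm⟩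
    exact hcop.dvd_of_dvd_mul_right h
  obtain ⟨a, -, ha⟩ := (Nat.dvd_prime_pow hq).1 hdvd
  have ha1 : 1 ≤ a := by
    rcases Nat.eq_zero_or_pos a with h0 | h0
    · subst h0; simp at ha; omega
    · exact h0
  have hqe : q ∣ e := by rw [ha]; exact dvd_pow_self q (by omega)
  -- q = 2
  have hq2 : q = 2 := by
    have h1 : (q : ℤ) ∣ ∑ i ∈ S, δ i * (d i : ℤ) :=
      Finset.dvd_sum fun i hi => dvd_mul_of_dvd_right (Int.natCast_dvd_natCast.2 (hq' i hi)) _
    rw [hsum] at h1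
    have h2 : (q : ℤ) ∣ (e : ℤ) := Int.natCast_dvd_natCast.2 hqe
    have h3 : (q : ℤ) ∣ (p : ℤ) - 1 := by
      have : q ∣ p - 1 := hqe.trans hep
      have h := Int.natCast_dvd_natCast.2 this
      rwa [Nat.cast_sub (by omega), Nat.cast_one] at h
    have h4 : (q : ℤ) ∣ 2 := by
      have h := (h2.sub h3).sub h1
      have e2 : ((e : ℤ) - ((p : ℤ) - 1)) - (-((p : ℤ) - (e : ℤ)) - 1) = 2 := by ring
      rwa [e2] at h
    have h5 : q ∣ 2 := by exact_mod_cast h4
    exact (Nat.prime_dvd_prime_iff_eq hq Nat.prime_two).1 h5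
  subst hq2
  refine ⟨rfl, ?_⟩
  -- 2 e ≤ p - 1
  have h2e : 2 * e ≤ p - 1 := by
    obtain ⟨k, hk⟩ := hep
    rcases Nat.lt_or_ge k 2 with hk2 | hk2
    · interval_cases k
      · omega
      · omega
    · calc 2 * e = e * 2 := by ring
        _ ≤ e * k := Nat.mul_le_mul_left e hk2
        _ = p - 1 := hk.symm
  rcases Nat.lt_or_ge a 2 with ha2 | ha2
  · -- a = 1 : e = 2
    have ha' : a = 1 := by omega
    subst ha'
    have he : e = 2 := by simpa using ha
    subst he
    left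
    refine ⟨rfl, ?_⟩
    have hS1 : S.card = 1 := by omega
    obtain ⟨i, hi⟩ := Finset.card_eq_one.1 hS1
    subst hi
    have hi : i ∈ ({i} : Finset ι) := Finset.mem_singleton_self i
    rw [Finset.sum_singleton] at hsum
    have hdi : δ i = -1 ∧ d i = p - 1 := by
      rcases hδ i hi with h | h
      · rw [h] at hsum
        have : (0 : ℤ) ≤ (d i : ℤ) := Int.natCast_nonneg _
        have hp' : (4 : ℤ) ≤ (p : ℤ) := by exact_mod_cast (by omega : 4 ≤ p)
        push_cast at hsum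
        omega
      · refine ⟨h, ?_⟩
        rw [h] at hsum
        push_cast at hsum
        omega
    refine ⟨i, hi, hdi.1, hdi.2, ?_⟩
    have h1 := hd i hi
    rw [hdi.2] at h1
    have hc : Nat.Coprime (p - 1) (p - 2) := by
      rw [show p - 1 = (p - 2) + 1 by omega]
      simp
    have h2 : p - 1 ∣ 2 ^ b := hc.dvd_of_dvd_mul_right h1
    obtain ⟨k, -, hk⟩ := (Nat.dvd_prime_pow Nat.prime_two).1 h2
    exact ⟨k, hk⟩
  · -- a ≥ 2 : 4 ∣ e
    right
    have h4e : 4 ∣ e := by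
      rw [ha]
      exact (show (4 : ℕ) = 2 ^ 2 by norm_num) ▸ pow_dvd_pow 2 ha2
    have he4 : 4 ≤ e := Nat.le_of_dvd (by omega) h4e
    refine ⟨he4, ?_, a, ha⟩
    have h4p : 4 ∣ p - 1 := h4e.trans hep
    -- some degree is ≡ 2 mod 4
    have hex : ∃ i ∈ S, d i % 4 = 2 := by
      by_contra hcon
      have hall : ∀ i ∈ S, (4 : ℤ) ∣ δ i * (d i : ℤ) := by
        intro i hi
        have h1 : 2 ∣ d i := hq' i hi
        have h2 : d i % 4 ≠ 2 := fun h => hcon ⟨i, hi, h⟩
        have h3 : 4 ∣ d i := by omega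
        exact dvd_mul_of_dvd_right (by exact_mod_cast h3) _
      have h1 : (4 : ℤ) ∣ ∑ i ∈ S, δ i * (d i : ℤ) := Finset.dvd_sum hall
      rw [hsum] at h1
      have h2 : (4 : ℤ) ∣ (e : ℤ) := by exact_mod_cast h4e
      have h3 : (4 : ℤ) ∣ (p : ℤ) - 1 := by
        have h := Int.natCast_dvd_natCast.2 h4p
        rw [Nat.cast_sub (by omega), Nat.cast_one] at h
        exact_mod_cast h
      have h4 : (4 : ℤ) ∣ 2 := by
        have h := (h2.sub h3).sub h1
        have e2 : ((e : ℤ) - ((p : ℤ) - 1)) - (-((p : ℤ) - (e : ℤ)) - 1) = 2 := by ring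
        rwa [e2] at h
      omega
    obtain ⟨i, hi, hi4⟩ := hex
    obtain ⟨d', hd'⟩ : ∃ d', d i = 2 * d' := ⟨d i / 2, by omega⟩
    have hd'odd : d' % 2 = 1 := by omega
    -- d' ∣ p - e
    have hd'dvd : d' ∣ p - e := by
      have h1 : d' ∣ 2 ^ b * (p - e) := (Dvd.intro_left 2 hd'.symm).trans (hd i hi)
      have hc : Nat.Coprime d' (2 ^ b) := by
        apply Nat.Coprime.pow_right
        rw [Nat.coprime_comm, Nat.Prime.coprime_iff_not_dvd Nat.prime_two]
        omega
      exact hc.dvd_of_dvd_mul_left h1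
    obtain ⟨c, hc⟩ := hd'dvd
    -- d i ≥ p - 1 and the congruence
    have hmodi := (hmod i hi).dvd
    have hpodd : p % 4 = 1 := by omega
    have he0 : e % 4 = 0 := by omega
    -- c is odd
    have hcodd : c % 2 = 1 := by
      by_contra h
      have : c % 2 = 0 := by omega
      obtain ⟨c', hc'⟩ : ∃ c', c = 2 * c' := ⟨c / 2, by omega⟩
      rw [hc'] at hc
      have : p - e = 2 * (d' * c') := by rw [hc]; ring
      omega
    have hge : p ≤ 2 * d' + 1 := by
      rcases hδ i hi with h | h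
      · rw [h, hd'] at hmodi
        have h1 : (p : ℤ) ∣ ((2 * d' - 1 : ℕ) : ℤ) := by
          rw [Nat.cast_sub (by omega)]
          have := (dvd_neg (α := ℤ)).2 hmodi
          push_cast
          have e2 : -(1 - ((2 : ℤ) * (d' : ℤ))) = 2 * (d' : ℤ) - 1 := by ring
          rw [Nat.cast_mul, Nat.cast_ofNat, e2] at this
          exact this
        have h2 : p ∣ 2 * d' - 1 := Int.natCast_dvd_natCast.1 h1
        have := Nat.le_of_dvd (by omega) h2
        omega
      · rw [h, hd'] at hmodi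
        have h1 : (p : ℤ) ∣ ((2 * d' + 1 : ℕ) : ℤ) := by
          have := (dvd_neg (α := ℤ)).2 hmodi
          push_cast
          have e2 : -(-1 - ((2 : ℤ) * (d' : ℤ))) = 2 * (d' : ℤ) + 1 := by ring
          rw [Nat.cast_mul, Nat.cast_ofNat, e2] at this
          exact this
        have h2 : p ∣ 2 * d' + 1 := Int.natCast_dvd_natCast.1 h1
        have := Nat.le_of_dvd (by omega) h2
        omega
    -- c = 1
    have hc1 : c = 1 := by
      by_contra h
      have hc3 : 3 ≤ c := by omega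
      have : d' * 3 ≤ d' * c := Nat.mul_le_mul_left d' hc3
      omega
    subst hc1
    rw [mul_one] at hc
    -- p ∣ 2 e ± 1
    rcases hδ i hi with h | h
    · rw [h, hd'] at hmodi
      have h1 : (p : ℤ) ∣ ((2 * e + 1 : ℕ) : ℤ) := by
        have hd'z : (d' : ℤ) = (p : ℤ) - (e : ℤ) := by
          rw [← hc]; push_cast [Nat.cast_sub hep']; ring
        have h3 : (p : ℤ) ∣ 2 * (p : ℤ) := Dvd.intro_left 2 rfl
        have := hmodi.add h3
        push_cast
        have e2 : 1 - ((2 : ℕ) * d' : ℕ) + 2 * (p : ℤ) = 2 * (e : ℤ) + 1 := by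
          push_cast; rw [hd'z]; ring
        rw [e2] at this
        exact this
      have h2 : p ∣ 2 * e + 1 := Int.natCast_dvd_natCast.1 h1
      have := Nat.le_of_dvd (by omega) h2
      omega
    · rw [h, hd'] at hmodi
      have h1 : (p : ℤ) ∣ ((2 * e - 1 : ℕ) : ℤ) := by
        have hd'z : (d' : ℤ) = (p : ℤ) - (e : ℤ) := by
          rw [← hc]; push_cast [Nat.cast_sub hep']; ring
        have h3 : (p : ℤ) ∣ 2 * (p : ℤ) := Dvd.intro_left 2 rfl
        have := hmodi.add h3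
        rw [Nat.cast_sub (by omega)]
        push_cast
        have e2 : -1 - ((2 : ℕ) * d' : ℕ) + 2 * (p : ℤ) = 2 * (e : ℤ) - 1 := by
          push_cast; rw [hd'z]; ring
        rw [e2] at this
        exact this
      have h2 : p ∣ 2 * e - 1 := Int.natCast_dvd_natCast.1 h1
      have := Nat.le_of_dvd (by omega) h2
      omega

end Cfsg.Agent.Lib.helper56.BU
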