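import Mathlib
import Cfsg.Prelude.Def_BaumannBlocks
import Cfsg.Agent.Lib.helper56.CD

set_option autoImplicit false

namespace Cfsg.Agent.Lib.helper56

open scoped Pointwise

variable {S : Type*} [Group S]

theorem maxCentralizerProduct_spec [Finite S] :
    (∃ R : Subgroup S, cdm R = Cfsg.maxCentralizerProduct S) ∧
      ∀ L : Subgroup S, cdm L ≤ Cfsg.maxCentralizerProduct S := by
  have hfin : Set.Finite {k : ℕ | ∃ R : Subgroup S,
      Nat.card ↥R * Nat.card ↥(Subgroup.centralizer (R : Set S)) = k} := by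
    have : {k : ℕ | ∃ R : Subgroup S,
        Nat.card ↥R * Nat.card ↥(Subgroup.centralizer (R : Set S)) = k} =
        Set.range (fun R : Subgroup S =>
          Nat.card ↥R * Nat.card ↥(Subgroup.centralizer (R : Set S))) := by
      ext k; simp [Set.mem_range]
    rw [this]; exact Set.finite_range _
  have hne : ({k : ℕ | ∃ R : Subgroup S,
      Nat.card ↥R * Nat.card ↥(Subgroup.centralizer (R : Set S)) = k}).Nonempty := ⟨_, ⊥, rfl⟩
  constructor
  · exact Nat.sSup_mem hne hfin.bddAbove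
  · intro L
    exact le_csSup hfin.bddAbove ⟨L, rfl⟩

/-- Bridge: `Cfsg.IsCentralizerLarge` is "largest Chermak–Delgado measure". -/
theorem isCentralizerLarge_iff [Finite S] (R : Subgroup S) :
    Cfsg.IsCentralizerLarge R ↔ IsCDMax R := by
  obtain ⟨⟨R₀, hR₀⟩, hle⟩ := maxCentralizerProduct_spec (S := S)
  constructor
  · intro h L
    have h' : cdm R = Cfsg.maxCentralizerProduct S := h
    rw [h']; exact hle L
  · intro h
    show cdm R = _
    exact le_antisymm (hle R) (hR₀ ▸ h R₀)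

theorem exists_isCDMax [Finite S] : ∃ R : Subgroup S, IsCDMax R := by
  obtain ⟨⟨R₀, hR₀⟩, hle⟩ := maxCentralizerProduct_spec (S := S)
  exact ⟨R₀, fun L => hR₀ ▸ hle L⟩

/-- The centre of `R`, as a subgroup of the ambient group, is `R ⊓ C(R)`. -/
theorem center_map_subtype (R : Subgroup S) :
    (Subgroup.center ↥R).map R.subtype = R ⊓ Subgroup.centralizer (R : Set S) := by
  ext x
  simp only [Subgroup.mem_map, Subgroup.mem_inf, Subgroup.mem_centralizer_iff,
    Subgroup.mem_center_iff, Subgroup.coe_subtype]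
  constructor
  · rintro ⟨⟨y, hy⟩, hyc, rfl⟩
    refine ⟨hy, fun g hg => ?_⟩
    exact congrArg Subtype.val (hyc ⟨g, hg⟩)
  · rintro ⟨hx, hxc⟩
    exact ⟨⟨x, hx⟩, fun g => Subtype.ext (hxc g g.2), rfl⟩

theorem card_center_eq (R : Subgroup S) :
    Nat.card (Subgroup.center ↥R) = Nat.card ↥(R ⊓ Subgroup.centralizer (R : Set S)) := by
  rw [← center_map_subtype]
  exact (Subgroup.card_map_of_injective R.subtype_injective).symm

/-- The measure `|R| * |Z(R)|`. -/
noncomputable def clm (R : Subgroup S) : ℕ :=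
  Nat.card R * Nat.card ↥(R ⊓ Subgroup.centralizer (R : Set S))

/-- `R` has the largest value of `|R| * |Z(R)|`. -/
def IsCLMax (R : Subgroup S) : Prop := ∀ L : Subgroup S, clm L ≤ clm R

theorem maxCentralProduct_spec [Finite S] :
    (∃ R : Subgroup S, clm R = Cfsg.maxCentralProduct S) ∧
      ∀ L : Subgroup S, clm L ≤ Cfsg.maxCentralProduct S := by
  have hfin : Set.Finite {k : ℕ | ∃ R : Subgroup S,
      Nat.card ↥R * Nat.card ↥(Subgroup.center ↥R) = k} := by
    have : {k : ℕ | ∃ R : Subgroup S,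
        Nat.card ↥R * Nat.card ↥(Subgroup.center ↥R) = k} =
        Set.range (fun R : Subgroup S =>
          Nat.card ↥R * Nat.card ↥(Subgroup.center ↥R)) := by
      ext k; simp [Set.mem_range]
    rw [this]; exact Set.finite_range _
  have hne : ({k : ℕ | ∃ R : Subgroup S,
      Nat.card ↥R * Nat.card ↥(Subgroup.center ↥R) = k}).Nonempty := ⟨_, ⊥, rfl⟩
  constructor
  · obtain ⟨R, hR⟩ := Nat.sSup_mem hne hfin.bddAbove
    exact ⟨R, by unfold clm; rw [← card_center_eq]; exact hR⟩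
  · intro L
    unfold clm; rw [← card_center_eq]
    exact le_csSup hfin.bddAbove ⟨L, rfl⟩

/-- Bridge: `Cfsg.IsCentrallyLarge` is "largest `|R| * |Z(R)|`". -/
theorem isCentrallyLarge_iff [Finite S] (R : Subgroup S) :
    Cfsg.IsCentrallyLarge R ↔ IsCLMax R := by
  obtain ⟨⟨R₀, hR₀⟩, hle⟩ := maxCentralProduct_spec (S := S)
  have hcl : Cfsg.IsCentrallyLarge R ↔ clm R = Cfsg.maxCentralProduct S := by
    unfold Cfsg.IsCentrallyLarge clm
    rw [card_center_eq]
  rw [hcl]
  constructor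
  · intro h L
    rw [h]; exact hle L
  · intro h
    exact le_antisymm (hle R) (hR₀ ▸ h R₀)

theorem exists_isCLMax [Finite S] : ∃ R : Subgroup S, IsCLMax R := by
  obtain ⟨⟨R₀, hR₀⟩, hle⟩ := maxCentralProduct_spec (S := S)
  exact ⟨R₀, fun L => hR₀ ▸ hle L⟩

theorem clm_le_cdm [Finite S] (R : Subgroup S) : clm R ≤ cdm R := by
  unfold clm cdm
  exact Nat.mul_le_mul_left _ (Subgroup.card_le_of_le inf_le_right)

theorem clm_eq_cdm_of_le {R : Subgroup S} (h : Subgroup.centralizer (R : Set S) ≤ R) :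
    clm R = cdm R := by
  unfold clm cdm
  rw [inf_eq_right.mpr h]

/-- For `Q` of largest Chermak–Delgado measure, `Q C(Q)` has largest measure and contains its
centralizer. -/
theorem isCDMax_sup_centralizer [Finite S] {Q : Subgroup S} (hQ : IsCDMax Q) :
    IsCDMax (Q ⊔ Subgroup.centralizer (Q : Set S)) ∧
      Subgroup.centralizer ((Q ⊔ Subgroup.centralizer (Q : Set S) : Subgroup S) : Set S) ≤
        Q ⊔ Subgroup.centralizer (Q : Set S) := by
  obtain ⟨-, -, -, hC, hQC, -, -⟩ := cd_main hQ hQ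
  obtain ⟨-, hsup, -, -, -, -, -⟩ := cd_main hQ hC
  refine ⟨hsup, ?_⟩
  rw [centralizer_sup, ← hQC]
  exact inf_le_right.trans le_sup_left

/-- A subgroup with largest `|R| * |Z(R)|` has largest Chermak–Delgado measure and contains its
centralizer. -/
theorem IsCLMax.isCDMax_and_le [Finite S] {Q : Subgroup S} (hQ : IsCLMax Q) :
    IsCDMax Q ∧ Subgroup.centralizer (Q : Set S) ≤ Q := by
  obtain ⟨Q₀, hQ₀⟩ := exists_isCDMax (S := S)
  obtain ⟨hT, hTle⟩ := isCDMax_sup_centralizer hQ₀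
  have h1 : clm (Q₀ ⊔ Subgroup.centralizer (Q₀ : Set S)) = cdm (Q₀ ⊔ Subgroup.centralizer (Q₀ : Set S)) :=
    clm_eq_cdm_of_le hTle
  have h2 : cdm (Q₀ ⊔ Subgroup.centralizer (Q₀ : Set S)) ≤ clm Q := h1 ▸ hQ _
  have h3 : clm Q ≤ cdm Q := clm_le_cdm Q
  have h4 : cdm Q ≤ cdm (Q₀ ⊔ Subgroup.centralizer (Q₀ : Set S)) := hT Q
  have h5 : cdm Q = cdm (Q₀ ⊔ Subgroup.centralizer (Q₀ : Set S)) := le_antisymm h4 (h2.trans h3)
  have h6 : clm Q = cdm Q := le_antisymm h3 (h5 ▸ h2)
  refine ⟨isCDMax_of_cdm_ge hT h5.ge, ?_⟩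
  unfold clm cdm at h6
  have h7 : Nat.card ↥(Q ⊓ Subgroup.centralizer (Q : Set S)) =
      Nat.card ↥(Subgroup.centralizer (Q : Set S)) :=
    Nat.eq_of_mul_eq_mul_left Nat.card_pos h6
  have h8 : Q ⊓ Subgroup.centralizer (Q : Set S) = Subgroup.centralizer (Q : Set S) :=
    Subgroup.eq_of_le_of_card_ge inf_le_right h7.ge
  exact inf_eq_right.mp h8

/-- For `Q` of largest Chermak–Delgado measure: `Q` is centrally large iff `C(Q) ≤ Q`. -/
theorem IsCDMax.isCLMax_iff [Finite S] {Q : Subgroup S} (hQ : IsCDMax Q) :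
    IsCLMax Q ↔ Subgroup.centralizer (Q : Set S) ≤ Q := by
  constructor
  · intro h; exact h.isCDMax_and_le.2
  · intro h L
    rw [clm_eq_cdm_of_le h]
    exact (clm_le_cdm L).trans (hQ L)

/-- The join of two centrally large subgroups is their product and is centrally large. -/
theorem IsCLMax.sup [Finite S] {Q R : Subgroup S} (hQ : IsCLMax Q) (hR : IsCLMax R) :
    ((Q ⊔ R : Subgroup S) : Set S) = (Q : Set S) * (R : Set S) ∧ IsCLMax (Q ⊔ R) := by
  obtain ⟨hQ1, hQ2⟩ := hQ.isCDMax_and_le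
  obtain ⟨hR1, hR2⟩ := hR.isCDMax_and_le
  obtain ⟨h1, h2, -, -, -, -, -⟩ := cd_main hQ1 hR1
  refine ⟨h1, h2.isCLMax_iff.mpr ?_⟩
  rw [centralizer_sup]
  exact inf_le_left.trans (hQ2.trans le_sup_left)

/-- The join of a nonempty family of centrally large subgroups is centrally large. -/
theorem isCLMax_sSup [Finite S] (𝒮 : Set (Subgroup S)) (hne : 𝒮.Nonempty)
    (h : ∀ R ∈ 𝒮, IsCLMax R) : IsCLMax (sSup 𝒮) := by
  have key : ∀ (𝒯 : Set (Subgroup S)), 𝒯.Finite → (∀ R ∈ 𝒯, IsCLMax R) →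
      𝒯 = ∅ ∨ IsCLMax (sSup 𝒯) := by
    intro 𝒯 hfin
    induction 𝒯, hfin using Set.Finite.induction_on with
    | empty => intro _; exact Or.inl rfl
    | @insert a s _ _ ih =>
      intro hall
      right
      rw [sSup_insert]
      rcases ih (fun R hR => hall R (Set.mem_insert_of_mem _ hR)) with hs | hs
      · rw [hs, sSup_empty, sup_bot_eq]
        exact hall a (Set.mem_insert _ _)
      · exact ((hall a (Set.mem_insert _ _)).sup hs).2
  rcases key 𝒮 (Set.toFinite _) h with h0 | h0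
  · exact absurd h0 hne.ne_empty
  · exact h0

/-- `R` is minimal among the centrally large subgroups. -/
def IsMinCL (R : Subgroup S) : Prop :=
  IsCLMax R ∧ ∀ R' : Subgroup S, R' ≤ R → IsCLMax R' → R' = R

/-- Bridge: `Cfsg.IsMinimalCentrallyLarge`. -/
theorem isMinimalCentrallyLarge_iff [Finite S] (R : Subgroup S) :
    Cfsg.IsMinimalCentrallyLarge R ↔ IsMinCL R := by
  unfold Cfsg.IsMinimalCentrallyLarge IsMinCL
  rw [isCentrallyLarge_iff]
  constructor
  · rintro ⟨h1, h2⟩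
    exact ⟨h1, fun R' hle hR' => h2 R' hle ((isCentrallyLarge_iff R').mpr hR')⟩
  · rintro ⟨h1, h2⟩
    exact ⟨h1, fun R' hle hR' => h2 R' hle ((isCentrallyLarge_iff R').mp hR')⟩

/-- Every centrally large subgroup contains a minimal centrally large subgroup. -/
theorem IsCLMax.exists_isMinCL_le [Finite S] {Q : Subgroup S} (hQ : IsCLMax Q) :
    ∃ R : Subgroup S, R ≤ Q ∧ IsMinCL R := by
  obtain ⟨R, hR⟩ := Set.Finite.exists_minimal (Set.toFinite {R : Subgroup S | R ≤ Q ∧ IsCLMax R})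
    ⟨Q, le_rfl, hQ⟩
  refine ⟨R, hR.prop.1, hR.prop.2, fun R' hle hR' => ?_⟩
  exact le_antisymm hle (hR.le_of_le ⟨hle.trans hR.prop.1, hR'⟩ hle)

theorem exists_isMinCL [Finite S] : ∃ R : Subgroup S, IsMinCL R := by
  obtain ⟨Q, hQ⟩ := exists_isCLMax (S := S)
  obtain ⟨R, -, hR⟩ := hQ.exists_isMinCL_le
  exact ⟨R, hR⟩

/-- The join of all centrally large subgroups is centrally large. -/
theorem isCLMax_centrallyLargeJoin [Finite S] : IsCLMax (Cfsg.centrallyLargeJoin S) := by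
  unfold Cfsg.centrallyLargeJoin
  apply isCLMax_sSup
  · obtain ⟨Q, hQ⟩ := exists_isCLMax (S := S)
    exact ⟨Q, (isCentrallyLarge_iff Q).mpr hQ⟩
  · intro R hR
    exact (isCentrallyLarge_iff R).mp hR

/-- The join of all minimal centrally large subgroups is centrally large. -/
theorem isCLMax_minimalCentrallyLargeJoin [Finite S] :
    IsCLMax (Cfsg.minimalCentrallyLargeJoin S) := by
  unfold Cfsg.minimalCentrallyLargeJoin
  apply isCLMax_sSup
  · obtain ⟨Q, hQ⟩ := exists_isMinCL (S := S)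
    exact ⟨Q, (isMinimalCentrallyLarge_iff Q).mpr hQ⟩
  · intro R hR
    exact ((isMinimalCentrallyLarge_iff R).mp hR).1

end Cfsg.Agent.Lib.helper56
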