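import Mathlib
import Cfsg.Prelude.Def_BaumannBlocks
import Cfsg.Agent.Lib.helper56.CL

set_option autoImplicit false

namespace Cfsg.Agent.Lib.helper56

open scoped Pointwise commutatorElement

variable {S : Type*} [Group S]

/-- The join of two commuting abelian subgroups is abelian. -/
theorem isMulCommutative_sup {B D : Subgroup S} (hB : IsMulCommutative ↥B)
    (hD : IsMulCommutative ↥D) (h : B ≤ Subgroup.centralizer (D : Set S)) :
    IsMulCommutative ↥(B ⊔ D) := by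
  rw [← Subgroup.le_centralizer_iff_isMulCommutative] at hB hD ⊢
  rw [centralizer_sup]
  exact sup_le (le_inf hB h) (le_inf (Subgroup.le_centralizer_iff.mp h) hD)

/-- An abelian subgroup of largest order is self-centralizing. -/
theorem centralizer_eq_of_mem_maxAbelian [Finite S] {A : Subgroup S}
    (hA : A ∈ Cfsg.maxAbelianSubgroups S) : Subgroup.centralizer (A : Set S) = A := by
  obtain ⟨hc, hmax⟩ := hA
  have hle : A ≤ Subgroup.centralizer (A : Set S) :=
    Subgroup.le_centralizer_iff_isMulCommutative.mpr hc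
  apply le_antisymm _ hle
  intro x hx
  have hz : IsMulCommutative ↥(Subgroup.zpowers x) := inferInstance
  have h1 : Subgroup.zpowers x ≤ Subgroup.centralizer (A : Set S) := by
    rw [Subgroup.zpowers_le]; exact hx
  have h2 : IsMulCommutative ↥(A ⊔ Subgroup.zpowers x) :=
    isMulCommutative_sup hc hz (Subgroup.le_centralizer_iff.mp h1)
  have h3 := hmax _ h2
  have h4 : A ⊔ Subgroup.zpowers x = A := (Subgroup.eq_of_le_of_card_ge le_sup_left h3).symm
  rw [← h4]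
  exact Subgroup.mem_sup_right (Subgroup.mem_zpowers x)

theorem exists_mem_maxAbelian [Finite S] : ∃ A : Subgroup S, A ∈ Cfsg.maxAbelianSubgroups S := by
  have : Nonempty {B : Subgroup S // IsMulCommutative ↥B} :=
    ⟨⟨⊥, Subgroup.le_centralizer_iff_isMulCommutative.mp bot_le⟩⟩
  obtain ⟨A, hA⟩ := Finite.exists_max (fun B : {B : Subgroup S // IsMulCommutative ↥B} =>
    Nat.card ↥B.1)
  exact ⟨A.1, A.2, fun B hB => hA ⟨B, hB⟩⟩

theorem cla_arith {a q z t i e w : ℕ} (hq : 0 < q) (hw : 0 < w) (hi : 0 < i)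
    (h1 : i * z ≤ e * w) (he : e ≤ a) (h2 : q * a ≤ t * i) (h3 : t * w ≤ q * z) :
    t * i ≤ q * a ∧ a ≤ e ∧ q * z ≤ t * w := by
  have c1 : q * z * i ≤ q * e * w := by
    calc q * z * i = q * (i * z) := by ring
      _ ≤ q * (e * w) := Nat.mul_le_mul_left _ h1
      _ = q * e * w := by ring
  have c2 : q * e * w ≤ q * a * w :=
    Nat.mul_le_mul_right _ (Nat.mul_le_mul_left _ he)
  have c3 : q * a * w ≤ t * i * w := Nat.mul_le_mul_right _ h2
  have c4 : t * i * w ≤ q * z * i := by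
    calc t * i * w = t * w * i := by ring
      _ ≤ q * z * i := Nat.mul_le_mul_right _ h3
  refine ⟨?_, ?_, ?_⟩
  · have : t * i * w ≤ q * a * w := c4.trans (c1.trans c2)
    exact Nat.le_of_mul_le_mul_right this hw
  · have : q * a * w ≤ q * e * w := c3.trans (c4.trans c1)
    have h' : q * (a * w) ≤ q * (e * w) := by
      calc q * (a * w) = q * a * w := by ring
        _ ≤ q * e * w := this
        _ = q * (e * w) := by ring
    exact Nat.le_of_mul_le_mul_right (Nat.le_of_mul_le_mul_left h' hq) hw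
  · have : q * z * i ≤ t * w * i := by
      calc q * z * i ≤ t * i * w := c1.trans (c2.trans c3)
        _ = t * w * i := by ring
    exact Nat.le_of_mul_le_mul_right this hi

/-- For a centrally large `Q` and an abelian subgroup `A` of largest order: `QA` is a centrally
large subgroup, and `(Q ∩ A) Z(Q)` is again an abelian subgroup of largest order. -/
theorem IsCLMax.sup_maxAbelian [Finite S] {Q A : Subgroup S} (hQ : IsCLMax Q)
    (hA : A ∈ Cfsg.maxAbelianSubgroups S) :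
    ((Q ⊔ A : Subgroup S) : Set S) = (Q : Set S) * (A : Set S) ∧ IsCLMax (Q ⊔ A) ∧
    ((Q ⊓ A) ⊔ Subgroup.centralizer (Q : Set S)) ∈ Cfsg.maxAbelianSubgroups S := by
  obtain ⟨hQcd, hZQ⟩ := hQ.isCDMax_and_le
  have hCA := centralizer_eq_of_mem_maxAbelian hA
  obtain ⟨hAc, hAmax⟩ := hA
  have hAle : A ≤ Subgroup.centralizer (A : Set S) :=
    Subgroup.le_centralizer_iff_isMulCommutative.mpr hAc
  have hQAc : IsMulCommutative ↥(Q ⊓ A) := by
    rw [← Subgroup.le_centralizer_iff_isMulCommutative]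
    exact inf_le_right.trans (hAle.trans (Subgroup.centralizer_le (fun x hx => hx.2)))
  have hZc : IsMulCommutative ↥(Subgroup.centralizer (Q : Set S)) := by
    rw [← Subgroup.le_centralizer_iff_isMulCommutative]
    exact Subgroup.centralizer_le (fun x hx => hZQ hx)
  have hE : IsMulCommutative ↥((Q ⊓ A) ⊔ Subgroup.centralizer (Q : Set S)) :=
    isMulCommutative_sup hQAc hZc (inf_le_left.trans (le_centralizer_centralizer Q))
  have hEle : Nat.card ↥((Q ⊓ A) ⊔ Subgroup.centralizer (Q : Set S)) ≤ Nat.card A := hAmax _ hE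
  have h1 := card_mul_card_le (Q ⊓ A) (Subgroup.centralizer (Q : Set S))
  have hinf : (Q ⊓ A) ⊓ Subgroup.centralizer (Q : Set S) = Subgroup.centralizer (Q : Set S) ⊓ A := by
    apply le_antisymm
    · exact le_inf inf_le_right (inf_le_left.trans inf_le_right)
    · exact le_inf (le_inf (inf_le_left.trans hZQ) inf_le_right) inf_le_left
  rw [hinf] at h1
  have h2 := card_mul_card_le Q A
  have hCT : Subgroup.centralizer ((Q ⊔ A : Subgroup S) : Set S) =
      Subgroup.centralizer (Q : Set S) ⊓ A := by rw [centralizer_sup, hCA]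
  have h3 : cdm (Q ⊔ A) ≤ cdm Q := hQcd _
  unfold cdm at h3
  rw [hCT] at h3
  obtain ⟨e1, e2, e3⟩ := cla_arith (Nat.card_pos (α := Q))
    (Nat.card_pos (α := ↥(Subgroup.centralizer (Q : Set S) ⊓ A))) (Nat.card_pos (α := ↥(Q ⊓ A)))
    h1 hEle h2 h3
  refine ⟨coe_sup_eq_mul_of_card Q A e1, ?_, hE, fun B hB => (hAmax B hB).trans e2⟩
  have hcd : IsCDMax (Q ⊔ A) := isCDMax_of_cdm_ge hQcd (by unfold cdm; rw [hCT]; exact e3)
  rw [hcd.isCLMax_iff, hCT]
  exact inf_le_left.trans (hZQ.trans le_sup_left)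

/-- For minimal centrally large `Q`, `R`: `Q = (Q ∩ R) Z(Q)`. -/
theorem IsMinCL.inf_sup_centralizer [Finite S] {Q R : Subgroup S} (hQ : IsMinCL Q)
    (hR : IsMinCL R) : (Q ⊓ R) ⊔ Subgroup.centralizer (Q : Set S) = Q := by
  obtain ⟨hQcd, hZQ⟩ := hQ.1.isCDMax_and_le
  obtain ⟨hRcd, hZR⟩ := hR.1.isCDMax_and_le
  obtain ⟨-, -, hX, hC, hQC, hset, hCX⟩ := cd_main hQcd hRcd
  obtain ⟨-, hY, -, -, -, -, -⟩ := cd_main hX hC
  have hYle : (Q ⊓ R) ⊔ Subgroup.centralizer (Q : Set S) ≤ Q := sup_le inf_le_left hZQ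
  apply hQ.2 _ hYle
  rw [hY.isCLMax_iff, centralizer_sup, ← hQC, hCX]
  intro x hx
  rw [Subgroup.mem_inf] at hx
  obtain ⟨hx1, hx2⟩ := hx
  have hx1' : x ∈ (Subgroup.centralizer (Q : Set S) : Set S) *
      (Subgroup.centralizer (R : Set S) : Set S) := by rw [← hset]; exact hx1
  obtain ⟨c, hc, d, hd, rfl⟩ := hx1'
  have hdQ : d ∈ Q := by
    have := Q.mul_mem (Q.inv_mem (hZQ hc)) hx2
    simpa using this
  exact Subgroup.mul_mem _ (Subgroup.mem_sup_right hc)
    (Subgroup.mem_sup_left (Subgroup.mem_inf.mpr ⟨hdQ, hZR hd⟩))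

/-- If `Q = X Z` with `Z` central in `Q`, then `[Q, Q] = [X, X]`. -/
theorem commutator_eq_of_sup_central {Q X Z : Subgroup S} (hXQ : X ≤ Q)
    (hZ : Z ≤ Subgroup.centralizer (Q : Set S)) (hsup : X ⊔ Z = Q) : ⁅Q, Q⁆ = ⁅X, X⁆ := by
  apply le_antisymm _ (Subgroup.commutator_mono hXQ hXQ)
  have hXN : X ≤ Subgroup.normalizer (Z : Set S) := by
    refine le_trans ?_ (Subgroup.centralizer_le_normalizer _)
    exact Subgroup.le_centralizer_iff.mp (hZ.trans (Subgroup.centralizer_le (fun x hx => hXQ hx)))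
  have hset : ((X ⊔ Z : Subgroup S) : Set S) = (X : Set S) * (Z : Set S) :=
    Subgroup.coe_mul_of_left_le_normalizer_right X Z hXN
  rw [Subgroup.commutator_le]
  intro g₁ hg₁ g₂ hg₂
  have h1 : g₁ ∈ (X : Set S) * (Z : Set S) := by rw [← hset, hsup]; exact hg₁
  have h2 : g₂ ∈ (X : Set S) * (Z : Set S) := by rw [← hset, hsup]; exact hg₂
  obtain ⟨x₁, hx₁, z₁, hz₁, rfl⟩ := h1
  obtain ⟨x₂, hx₂, z₂, hz₂, rfl⟩ := h2
  have hc1 : ∀ y ∈ Q, y * z₁ = z₁ * y := Subgroup.mem_centralizer_iff.mp (hZ hz₁)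
  have hc2 : ∀ y ∈ Q, y * z₂ = z₂ * y := Subgroup.mem_centralizer_iff.mp (hZ hz₂)
  have hg₂' : x₂ * z₂ ∈ Q := hg₂
  show ⁅x₁ * z₁, x₂ * z₂⁆ ∈ ⁅X, X⁆
  have e1 : (x₂ * z₂) * z₁ = z₁ * (x₂ * z₂) := hc1 _ hg₂'
  have e2 : x₁ * z₂ = z₂ * x₁ := hc2 _ (hXQ hx₁)
  have key : ⁅x₁ * z₁, x₂ * z₂⁆ = ⁅x₁, x₂⁆ := by
    rw [commutatorElement_def, commutatorElement_def]
    calc x₁ * z₁ * (x₂ * z₂) * (x₁ * z₁)⁻¹ * (x₂ * z₂)⁻¹
        = x₁ * (z₁ * (x₂ * z₂)) * z₁⁻¹ * x₁⁻¹ * (x₂ * z₂)⁻¹ := by group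
      _ = x₁ * ((x₂ * z₂) * z₁) * z₁⁻¹ * x₁⁻¹ * (x₂ * z₂)⁻¹ := by rw [e1]
      _ = x₁ * x₂ * (z₂ * x₁⁻¹ * z₂⁻¹) * x₂⁻¹ := by group
      _ = x₁ * x₂ * (x₁⁻¹ * (x₁ * z₂) * x₁⁻¹ * z₂⁻¹) * x₂⁻¹ := by group
      _ = x₁ * x₂ * (x₁⁻¹ * (z₂ * x₁) * x₁⁻¹ * z₂⁻¹) * x₂⁻¹ := by rw [e2]
      _ = x₁ * x₂ * x₁⁻¹ * x₂⁻¹ := by group
  rw [key]
  exact Subgroup.commutator_mem_commutator hx₁ hx₂

theorem mincl_arith {q r zq zr x k : ℕ} (hq : 0 < q) (hk : 0 < k)
    (h1 : q * k = x * zq) (h2 : r * k = x * zr) (h3 : q * zq = r * zr) : q = r ∧ zq = zr := by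
  have e : q * q * k = r * r * k := by
    calc q * q * k = q * (q * k) := by ring
      _ = q * (x * zq) := by rw [h1]
      _ = x * (q * zq) := by ring
      _ = x * (r * zr) := by rw [h3]
      _ = r * (x * zr) := by ring
      _ = r * (r * k) := by rw [h2]
      _ = r * r * k := by ring
  have e2 : q * q = r * r := Nat.eq_of_mul_eq_mul_right hk e
  have e3 : q = r := Nat.mul_self_inj.mp e2
  refine ⟨e3, ?_⟩
  subst e3
  exact Nat.eq_of_mul_eq_mul_left hq h3

/-- Minimal centrally large subgroups have the same derived subgroup, the same order, and centres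
of the same order. -/
theorem IsMinCL.uniform [Finite S] {Q R : Subgroup S} (hQ : IsMinCL Q) (hR : IsMinCL R) :
    ⁅Q, Q⁆ = ⁅R, R⁆ ∧ Nat.card Q = Nat.card R ∧
    Nat.card ↥(Subgroup.centralizer (Q : Set S)) = Nat.card ↥(Subgroup.centralizer (R : Set S)) := by
  obtain ⟨hQcd, hZQ⟩ := hQ.1.isCDMax_and_le
  obtain ⟨hRcd, hZR⟩ := hR.1.isCDMax_and_le
  have hsQ := hQ.inf_sup_centralizer hR
  have hsR := hR.inf_sup_centralizer hQ
  rw [inf_comm] at hsR
  have hQC := (cd_main hQcd hQcd).2.2.2.2.1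
  have hRC := (cd_main hRcd hRcd).2.2.2.2.1
  have hcQ : ⁅Q, Q⁆ = ⁅Q ⊓ R, Q ⊓ R⁆ := commutator_eq_of_sup_central inf_le_left le_rfl hsQ
  have hcR : ⁅R, R⁆ = ⁅Q ⊓ R, Q ⊓ R⁆ := commutator_eq_of_sup_central inf_le_right le_rfl hsR
  refine ⟨hcQ.trans hcR.symm, ?_⟩
  -- X ⊓ C(Q) = X ⊓ C(X) = X ⊓ C(R)
  have hkQ : (Q ⊓ R) ⊓ Subgroup.centralizer (Q : Set S) =
      (Q ⊓ R) ⊓ Subgroup.centralizer ((Q ⊓ R : Subgroup S) : Set S) := by
    apply le_antisymm
    · exact inf_le_inf_left _ (Subgroup.centralizer_le (fun x hx => hx.1))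
    · refine le_inf inf_le_left ?_
      intro x hx
      rw [Subgroup.mem_inf] at hx
      have h1 : x ∈ Subgroup.centralizer ((Subgroup.centralizer (Q : Set S) : Subgroup S) : Set S) :=
        le_centralizer_centralizer Q (Subgroup.mem_inf.mp hx.1).1
      have h2 : x ∈ Subgroup.centralizer ((((Q ⊓ R) ⊔ Subgroup.centralizer (Q : Set S)) :
          Subgroup S) : Set S) := by
        rw [centralizer_sup]; exact ⟨hx.2, h1⟩
      rw [hsQ] at h2
      exact h2
  have hkR : (Q ⊓ R) ⊓ Subgroup.centralizer (R : Set S) =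
      (Q ⊓ R) ⊓ Subgroup.centralizer ((Q ⊓ R : Subgroup S) : Set S) := by
    apply le_antisymm
    · exact inf_le_inf_left _ (Subgroup.centralizer_le (fun x hx => hx.2))
    · refine le_inf inf_le_left ?_
      intro x hx
      rw [Subgroup.mem_inf] at hx
      have h1 : x ∈ Subgroup.centralizer ((Subgroup.centralizer (R : Set S) : Subgroup S) : Set S) :=
        le_centralizer_centralizer R (Subgroup.mem_inf.mp hx.1).2
      have h2 : x ∈ Subgroup.centralizer ((((Q ⊓ R) ⊔ Subgroup.centralizer (R : Set S)) :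
          Subgroup S) : Set S) := by
        rw [centralizer_sup]; exact ⟨hx.2, h1⟩
      rw [hsR] at h2
      exact h2
  -- product formulas
  have hprod : ∀ (T Z : Subgroup S), (Q ⊓ R) ⊔ Z = T → Z ≤ Subgroup.centralizer (T : Set S) →
      Nat.card T * Nat.card ↥((Q ⊓ R) ⊓ Z) = Nat.card ↥(Q ⊓ R) * Nat.card Z := by
    intro T Z hsup hZ
    have hXN : Q ⊓ R ≤ Subgroup.normalizer (Z : Set S) := by
      refine le_trans ?_ (Subgroup.centralizer_le_normalizer _)
      refine Subgroup.le_centralizer_iff.mp (hZ.trans (Subgroup.centralizer_le ?_))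
      intro x hx
      rw [← hsup]
      exact Subgroup.mem_sup_left hx
    have hset : ((Q ⊓ R ⊔ Z : Subgroup S) : Set S) = ((Q ⊓ R : Subgroup S) : Set S) * (Z : Set S) :=
      Subgroup.coe_mul_of_left_le_normalizer_right _ Z hXN
    rw [← card_mul_set_mul_card_inf (Q ⊓ R) Z, ← hset, hsup]
    rfl
  have p1 := hprod Q _ hsQ le_rfl
  have p2 := hprod R _ hsR le_rfl
  rw [hkQ] at p1
  rw [hkR] at p2
  have p3 : clm Q = clm R := le_antisymm (hR.1 Q) (hQ.1 R)
  rw [clm_eq_cdm_of_le hZQ, clm_eq_cdm_of_le hZR] at p3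
  unfold cdm at p3
  exact mincl_arith Nat.card_pos Nat.card_pos p1 p2 p3

end Cfsg.Agent.Lib.helper56
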