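import Mathlib
import Cfsg.Agent.Lib.helper14.DicksonCount

set_option autoImplicit false

/-!
Class counting for finite groups in which the centralizers of the elements outside a central
subgroup `Z` are abelian and have index at most two in their normalizers (the situation of
`p'`-subgroups of `GL₂(p)` modulo scalars).
-/

namespace Cfsg.Agent.Lib.helper56.KleinCount

open Subgroup Cfsg.Agent.Lib.helper14

section Abstract

variable {Γ : Type*} [Group Γ]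

/-- the centralizer of an element -/
abbrev cz (g : Γ) : Subgroup Γ := centralizer ({g} : Set Γ)

theorem mem_cz {g x : Γ} : x ∈ cz g ↔ g * x = x * g := by
  rw [cz, mem_centralizer_iff]
  simp

theorem self_mem_cz (g : Γ) : g ∈ cz g := mem_cz.mpr rfl

/-- the hypotheses -/
structure CAData (Z : Subgroup Γ) : Prop where
  cent : ∀ g : Γ, g ∉ Z → Z ≤ cz g
  trans : ∀ g x : Γ, g ∉ Z → x ∉ Z → x ∈ cz g → cz x = cz g
  norm : ∀ g : Γ, g ∉ Z →
    Nat.card (normalizer (cz g : Set Γ)) ≤ 2 * Nat.card (cz g)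

variable {Z : Subgroup Γ} [hZn : Z.Normal]

theorem conj_not_mem {x : Γ} (hx : x ∉ Z) (γ : Γ) : γ * x * γ⁻¹ ∉ Z := by
  intro h
  apply hx
  have h1 := hZn.conj_mem _ h γ⁻¹
  have e : γ⁻¹ * (γ * x * γ⁻¹) * γ⁻¹⁻¹ = x := by group
  rwa [e] at h1

theorem mem_cz_conj {g x γ : Γ} : x ∈ cz (γ * g * γ⁻¹) ↔ γ⁻¹ * x * γ ∈ cz g := by
  rw [mem_cz, mem_cz]
  constructor
  · intro h
    have e : g * (γ⁻¹ * x * γ) = γ⁻¹ * ((γ * g * γ⁻¹) * x) * γ := by group
    rw [e, h]; group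
  · intro h
    have e : γ * g * γ⁻¹ * x = γ * (g * (γ⁻¹ * x * γ)) * γ⁻¹ := by group
    rw [e, h]; group

theorem ti (h : CAData Z) {g : Γ} (hg : g ∉ Z) (γ x : Γ) (hx : x ∈ cz g) (hxZ : x ∉ Z)
    (hc : γ * x * γ⁻¹ ∈ cz g) : γ ∈ normalizer (cz g : Set Γ) := by
  have e1 : cz x = cz g := h.trans g x hg hxZ hx
  have e2 : cz (γ * x * γ⁻¹) = cz g := h.trans g _ hg (conj_not_mem hxZ γ) hc
  rw [mem_normalizer_iff]
  intro y
  constructor
  · intro hy
    rw [← e2, mem_cz_conj, e1]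
    have e : γ⁻¹ * (γ * y * γ⁻¹) * γ = y := by group
    rw [e]; exact hy
  · intro hy
    rw [← e2, mem_cz_conj, e1] at hy
    have e : γ⁻¹ * (γ * y * γ⁻¹) * γ = y := by group
    rwa [e] at hy

theorem card_class (h : CAData Z) [Finite Γ] {g : Γ} (hg : g ∉ Z) :
    (conjClass (cz g) Z).ncard
      = (normalizer (cz g : Set Γ)).index * (Nat.card (cz g) - Nat.card Z) := by
  rw [← _root_.Nat.card_coe_set_eq]
  exact card_conjClass (cz g) Z (h.cent g hg) (fun γ x hx hxZ hc => ti h hg γ x hx hxZ hc)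

theorem class_key (h : CAData Z) {g x : Γ} (hg : g ∉ Z) (hx : x ∈ conjClass (cz g) Z) :
    ∃ γ : Γ, ∀ y, y ∈ cz g ↔ γ * y * γ⁻¹ ∈ cz x := by
  obtain ⟨hxZ, γ, hγ⟩ := hx
  have hxZ' : γ⁻¹ * x * γ ∉ Z := by
    have := conj_not_mem hxZ γ⁻¹
    rwa [inv_inv] at this
  have e := h.trans g _ hg hxZ' hγ
  refine ⟨γ, fun y => ?_⟩
  rw [← e]
  have h1 := @mem_cz_conj Γ _ x y γ⁻¹
  rw [inv_inv] at h1
  exact h1

theorem class_eq (h : CAData Z) {g x : Γ} (hg : g ∉ Z) (hx : x ∈ conjClass (cz g) Z) :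
    conjClass (cz x) Z = conjClass (cz g) Z := by
  obtain ⟨γ, key⟩ := class_key h hg hx
  ext w
  constructor
  · rintro ⟨hw, δ, hδ⟩
    refine ⟨hw, δ * γ, ?_⟩
    rw [key]
    have e : γ * ((δ * γ)⁻¹ * w * (δ * γ)) * γ⁻¹ = δ⁻¹ * w * δ := by group
    rw [e]; exact hδ
  · rintro ⟨hw, δ, hδ⟩
    refine ⟨hw, δ * γ⁻¹, ?_⟩
    have h1 := (key _).mp hδ
    have e2 : γ * (δ⁻¹ * w * δ) * γ⁻¹ = (δ * γ⁻¹)⁻¹ * w * (δ * γ⁻¹) := by group
    rwa [e2] at h1

theorem card_eq_of_mem_class (h : CAData Z) {g x : Γ} (hg : g ∉ Z)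
    (hx : x ∈ conjClass (cz g) Z) : Nat.card (cz x) = Nat.card (cz g) := by
  obtain ⟨γ, key⟩ := class_key h hg hx
  symm
  exact Nat.card_congr
    { toFun := fun y => ⟨γ * y.1 * γ⁻¹, (key _).mp y.2⟩
      invFun := fun y => ⟨γ⁻¹ * y.1 * γ, (key _).mpr (by
        have e : γ * (γ⁻¹ * y.1 * γ) * γ⁻¹ = y.1 := by group
        rw [e]; exact y.2)⟩
      left_inv := fun y => Subtype.ext (by
        show γ⁻¹ * (γ * y.1 * γ⁻¹) * γ = y.1
        group)
      right_inv := fun y => Subtype.ext (by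
        show γ * (γ⁻¹ * y.1 * γ) * γ⁻¹ = y.1
        group) }

theorem self_mem_class {x : Γ} (hx : x ∉ Z) : x ∈ conjClass (cz x) Z :=
  ⟨hx, 1, by simpa using self_mem_cz x⟩

theorem class_disjoint (h : CAData Z) {g x : Γ} (hg : g ∉ Z) (hxZ : x ∉ Z)
    (hx : x ∉ conjClass (cz g) Z) :
    Disjoint (conjClass (cz x) Z) (conjClass (cz g) Z) := by
  rw [Set.disjoint_left]
  intro w hw1 hw2
  apply hx
  have e1 := class_eq h hxZ hw1
  have e2 := class_eq h hg hw2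
  rw [← e2, e1]
  exact self_mem_class hxZ

theorem class_subset (A : Subgroup Γ) : conjClass A Z ⊆ {g | g ∉ Z} := fun _ hw => hw.1

theorem class_numbers (h : CAData Z) [Finite Γ] {g : Γ} (hg : g ∉ Z) :
    ∃ r ν : ℕ, 2 ≤ r ∧ (ν = 1 ∨ ν = 2) ∧ Nat.card (cz g) = r * Nat.card Z ∧
      (normalizer (cz g : Set Γ)).index * ν * r * Nat.card Z = Nat.card Γ ∧
      (conjClass (cz g) Z).ncard = (normalizer (cz g : Set Γ)).index * (r - 1) * Nat.card Z := by
  have hzpos : 0 < Nat.card Z := Nat.card_pos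
  have hαpos : 0 < Nat.card (cz g) := Nat.card_pos
  obtain ⟨r, hr⟩ := card_dvd_of_le (h.cent g hg)
  have hr2 : 2 ≤ r := by
    by_contra hlt
    have hr1 : r = 0 ∨ r = 1 := by omega
    rcases hr1 with h0 | h1
    · rw [h0, mul_zero] at hr; omega
    · rw [h1, mul_one] at hr
      have e := eq_of_le_of_card_ge (h.cent g hg) (le_of_eq hr)
      exact hg (e ▸ self_mem_cz g)
  obtain ⟨ν, hν⟩ := card_dvd_of_le (le_normalizer (H := cz g))
  have hηpos : 0 < Nat.card (normalizer (cz g : Set Γ)) := Nat.card_pos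
  have hν12 : ν = 1 ∨ ν = 2 := by
    have h1 := h.norm g hg
    rw [hν] at h1
    have h2 : ν ≤ 2 := by
      by_contra hlt
      have h3 : 3 ≤ ν := by omega
      have h4 : Nat.card (cz g) * 3 ≤ Nat.card (cz g) * ν := Nat.mul_le_mul_left _ h3
      omega
    have h5 : ν ≠ 0 := by
      rintro rfl
      rw [mul_zero] at hν; omega
    omega
  have hidx := index_mul_card (normalizer (cz g : Set Γ))
  refine ⟨r, ν, hr2, hν12, by rw [hr, mul_comm], ?_, ?_⟩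
  · rw [← hidx, hν, hr]; ring
  · rw [card_class h hg, hr]
    have e : Nat.card Z * r - Nat.card Z = (r - 1) * Nat.card Z := by
      rw [Nat.sub_mul, one_mul, mul_comm]
    rw [e, mul_assoc]

theorem card_compl_Z [Finite Γ] : ({g : Γ | g ∉ Z} : Set Γ).ncard = Nat.card Γ - Nat.card Z := by
  have h1 : ({g : Γ | g ∉ Z} : Set Γ) = (Z : Set Γ)ᶜ := rfl
  rw [h1, Set.ncard_compl, ← _root_.Nat.card_coe_set_eq]
  rfl

/-- a class has at least a quarter of the group -/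
theorem class_large (h : CAData Z) [Finite Γ] {g : Γ} (hg : g ∉ Z) :
    Nat.card Γ ≤ 4 * (conjClass (cz g) Z).ncard := by
  obtain ⟨r, ν, hr, hν, -, hN, hK⟩ := class_numbers h hg
  rw [hK, ← hN]
  have h1 : ν * r ≤ 4 * (r - 1) := by
    rcases hν with rfl | rfl <;> omega
  calc (normalizer (cz g : Set Γ)).index * ν * r * Nat.card Z
      = (normalizer (cz g : Set Γ)).index * (ν * r) * Nat.card Z := by ring
    _ ≤ (normalizer (cz g : Set Γ)).index * (4 * (r - 1)) * Nat.card Z :=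
        Nat.mul_le_mul_right _ (Nat.mul_le_mul_left _ h1)
    _ = 4 * ((normalizer (cz g : Set Γ)).index * (r - 1) * Nat.card Z) := by ring

/-- Step 1: a big centralizer that is its own normalizer is everything -/
theorem step1 (h : CAData Z) [Finite Γ] {g₁ g₂ : Γ} (h₁ : g₁ ∉ Z) (h₂ : g₂ ∉ Z)
    (hα₁ : 4 * Nat.card Z ≤ Nat.card (cz g₁)) (hne : cz g₁ ≠ cz g₂) :
    ∃ r : ℕ, 4 ≤ r ∧ Nat.card (cz g₁) = r * Nat.card Z ∧
      (normalizer (cz g₁ : Set Γ)).index * 2 * r * Nat.card Z = Nat.card Γ ∧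
      (conjClass (cz g₁) Z).ncard = (normalizer (cz g₁ : Set Γ)).index * (r - 1) * Nat.card Z := by
  have hzpos : 0 < Nat.card Z := Nat.card_pos
  obtain ⟨r, ν, hr, hν, hα, hN, hK⟩ := class_numbers h h₁
  have hr4 : 4 ≤ r := by
    rw [hα] at hα₁
    exact Nat.le_of_mul_le_mul_right hα₁ hzpos
  rcases hν with rfl | rfl
  · exfalso
    obtain ⟨i, hi⟩ : ∃ i, i = (normalizer (cz g₁ : Set Γ)).index := ⟨_, rfl⟩
    rw [← hi] at hN hK
    have hipos : 0 < i := by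
      rw [hi]; exact Nat.pos_of_ne_zero (index_ne_zero_of_finite)
    by_cases hi1 : i = 1
    · -- the centralizer is everything
      have hc : Nat.card (cz g₁) = Nat.card Γ := by
        rw [hα, ← hN, hi1]; ring
      have htop : cz g₁ = ⊤ := (Subgroup.card_eq_iff_eq_top (cz g₁)).mp hc
      apply hne
      have h3 : g₂ ∈ cz g₁ := htop ▸ mem_top g₂
      exact (h.trans g₁ g₂ h₁ h₂ h3).symm
    · have hi2 : 2 ≤ i := by omega
      have hU := card_compl_Z (Γ := Γ) (Z := Z)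
      have hlt : (conjClass (cz g₁) Z).ncard < ({g : Γ | g ∉ Z} : Set Γ).ncard := by
        rw [hK, hU, ← hN]
        have e1 : i * 1 * r * Nat.card Z = i * (r - 1) * Nat.card Z + i * Nat.card Z := by
          have : r = (r - 1) + 1 := by omega
          conv_lhs => rw [this]
          ring
        have e2 : Nat.card Z < i * Nat.card Z := by nlinarith
        omega
      obtain ⟨x, hxU, hxK⟩ := Set.exists_mem_notMem_of_ncard_lt_ncard hlt
      have hdis := class_disjoint h h₁ hxU hxK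
      have hsub : conjClass (cz x) Z ∪ conjClass (cz g₁) Z ⊆ {g : Γ | g ∉ Z} :=
        Set.union_subset (class_subset _) (class_subset _)
      have hle := Set.ncard_le_ncard hsub
      rw [Set.ncard_union_eq hdis, hK, hU, ← hN] at hle
      have hbig := class_large h hxU
      rw [← hN] at hbig
      have e1 : i * 1 * r * Nat.card Z = i * (r - 1) * Nat.card Z + i * Nat.card Z := by
        have : r = (r - 1) + 1 := by omega
        conv_lhs => rw [this]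
        ring
      have e3 : 4 * (i * Nat.card Z) ≤ i * 1 * r * Nat.card Z := by
        have : i * 1 * r * Nat.card Z = r * (i * Nat.card Z) := by ring
        rw [this]
        exact Nat.mul_le_mul_right _ hr4
      have e4 : 0 < i * Nat.card Z := Nat.mul_pos hipos hzpos
      have e5 : Nat.card Z ≤ i * Nat.card Z := Nat.le_mul_of_pos_left _ hipos
      omega
  · exact ⟨r, hr4, hα, hN, hK⟩

/-- Step 2: two different big centralizers are conjugate -/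
theorem step2 (h : CAData Z) [Finite Γ] {g₁ g₂ : Γ} (h₁ : g₁ ∉ Z) (h₂ : g₂ ∉ Z)
    (hα₁ : 4 * Nat.card Z ≤ Nat.card (cz g₁)) (hα₂ : 4 * Nat.card Z ≤ Nat.card (cz g₂))
    (hne : cz g₁ ≠ cz g₂) : g₂ ∈ conjClass (cz g₁) Z := by
  by_contra hcon
  have hzpos : 0 < Nat.card Z := Nat.card_pos
  obtain ⟨r₁, hr₁, -, hN₁, hK₁⟩ := step1 h h₁ h₂ hα₁ hne
  obtain ⟨r₂, hr₂, -, hN₂, hK₂⟩ := step1 h h₂ h₁ hα₂ hne.symm
  obtain ⟨i₁, hi₁⟩ : ∃ i, i = (normalizer (cz g₁ : Set Γ)).index := ⟨_, rfl⟩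
  obtain ⟨i₂, hi₂⟩ : ∃ i, i = (normalizer (cz g₂ : Set Γ)).index := ⟨_, rfl⟩
  rw [← hi₁] at hN₁ hK₁
  rw [← hi₂] at hN₂ hK₂
  have hi₁pos : 0 < i₁ := by rw [hi₁]; exact Nat.pos_of_ne_zero (index_ne_zero_of_finite)
  have hi₂pos : 0 < i₂ := by rw [hi₂]; exact Nat.pos_of_ne_zero (index_ne_zero_of_finite)
  have hdis := class_disjoint h h₁ h₂ hcon
  have hU := card_compl_Z (Γ := Γ) (Z := Z)
  obtain ⟨N, hN⟩ : ∃ N, N = Nat.card Γ := ⟨_, rfl⟩
  obtain ⟨z, hz⟩ : ∃ z, z = Nat.card Z := ⟨_, rfl⟩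
  rw [← hN, ← hz] at hN₁ hN₂ hU
  rw [← hz] at hK₁ hK₂ hzpos
  -- sizes
  have e1 : i₁ * 2 * r₁ * z = 2 * (i₁ * (r₁ - 1) * z) + 2 * (i₁ * z) := by
    have : r₁ = (r₁ - 1) + 1 := by omega
    conv_lhs => rw [this]
    ring
  have e2 : i₂ * 2 * r₂ * z = 2 * (i₂ * (r₂ - 1) * z) + 2 * (i₂ * z) := by
    have : r₂ = (r₂ - 1) + 1 := by omega
    conv_lhs => rw [this]
    ring
  have f1 : 8 * (i₁ * z) ≤ i₁ * 2 * r₁ * z := by
    have : i₁ * 2 * r₁ * z = (2 * r₁) * (i₁ * z) := by ring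
    rw [this]
    exact Nat.mul_le_mul_right _ (by omega)
  have f2 : 8 * (i₂ * z) ≤ i₂ * 2 * r₂ * z := by
    have : i₂ * 2 * r₂ * z = (2 * r₂) * (i₂ * z) := by ring
    rw [this]
    exact Nat.mul_le_mul_right _ (by omega)
  have p1 : z ≤ i₁ * z := Nat.le_mul_of_pos_left _ hi₁pos
  have p2 : z ≤ i₂ * z := Nat.le_mul_of_pos_left _ hi₂pos
  have hlt : (conjClass (cz g₂) Z ∪ conjClass (cz g₁) Z).ncard
      < ({g : Γ | g ∉ Z} : Set Γ).ncard := by
    rw [Set.ncard_union_eq hdis, hK₁, hK₂, hU]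
    omega
  obtain ⟨x, hxU, hxK⟩ := Set.exists_mem_notMem_of_ncard_lt_ncard hlt
  have hx1 : x ∉ conjClass (cz g₁) Z := fun hx => hxK (Or.inr hx)
  have hx2 : x ∉ conjClass (cz g₂) Z := fun hx => hxK (Or.inl hx)
  have hd1 := class_disjoint h h₁ hxU hx1
  have hd2 := class_disjoint h h₂ hxU hx2
  have hd3 : Disjoint (conjClass (cz x) Z) (conjClass (cz g₂) Z ∪ conjClass (cz g₁) Z) :=
    Set.disjoint_union_right.mpr ⟨hd2, hd1⟩
  have hsub : conjClass (cz x) Z ∪ (conjClass (cz g₂) Z ∪ conjClass (cz g₁) Z)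
      ⊆ {g : Γ | g ∉ Z} :=
    Set.union_subset (class_subset _) (Set.union_subset (class_subset _) (class_subset _))
  have hle := Set.ncard_le_ncard hsub
  rw [Set.ncard_union_eq hd3, Set.ncard_union_eq hdis, hK₁, hK₂, hU] at hle
  have hbig := class_large h hxU
  rw [← hN] at hbig
  omega

/-- classes of small centralizers -/
theorem small_class (h : CAData Z) [Finite Γ] {m : ℕ} (hN : Nat.card Γ = 2 * m * Nat.card Z)
    {x : Γ} (hx : x ∉ Z) (hsmall : Nat.card (cz x) < 4 * Nat.card Z) :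
    ∃ s : ℕ, (conjClass (cz x) Z).ncard = s * Nat.card Z ∧
      (s = m ∨ 2 * s = m ∨ 3 * s = 4 * m ∨ 3 * s = 2 * m) := by
  have hzpos : 0 < Nat.card Z := Nat.card_pos
  obtain ⟨r, ν, hr, hν, hα, hNx, hK⟩ := class_numbers h hx
  obtain ⟨i, hi⟩ : ∃ i, i = (normalizer (cz x : Set Γ)).index := ⟨_, rfl⟩
  rw [← hi] at hNx hK
  have hr4 : r < 4 := by
    rw [hα] at hsmall
    exact lt_of_mul_lt_mul_right hsmall (Nat.zero_le _)
  have e : i * ν * r = 2 * m := by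
    have : i * ν * r * Nat.card Z = 2 * m * Nat.card Z := by rw [hNx, hN]
    exact Nat.eq_of_mul_eq_mul_right hzpos this
  refine ⟨i * (r - 1), hK, ?_⟩
  have hr23 : r = 2 ∨ r = 3 := by omega
  rcases hr23 with rfl | rfl <;> rcases hν with rfl | rfl <;> norm_num at e ⊢ <;> omega

/-- (N1) two different big centralizers: the group is `S₄`-like or `A₅`-like modulo `Z` -/
theorem n1 (h : CAData Z) [Finite Γ] {g₁ g₂ : Γ} (h₁ : g₁ ∉ Z) (h₂ : g₂ ∉ Z)
    (hα₁ : 4 * Nat.card Z ≤ Nat.card (cz g₁)) (hα₂ : 4 * Nat.card Z ≤ Nat.card (cz g₂))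
    (hne : cz g₁ ≠ cz g₂) :
    (Nat.card (cz g₁) = 4 * Nat.card Z ∧ (normalizer (cz g₁ : Set Γ)).index = 3) ∨
    (Nat.card (cz g₁) = 5 * Nat.card Z ∧ (normalizer (cz g₁ : Set Γ)).index = 6) := by
  have hzpos : 0 < Nat.card Z := Nat.card_pos
  obtain ⟨a, ha4, hα, hN, hK⟩ := step1 h h₁ h₂ hα₁ hne
  have hconj := step2 h h₁ h₂ hα₁ hα₂ hne
  obtain ⟨i, hi⟩ : ∃ i, i = (normalizer (cz g₁ : Set Γ)).index := ⟨_, rfl⟩
  rw [← hi] at hN hK ⊢
  have hipos : 0 < i := by rw [hi]; exact Nat.pos_of_ne_zero (index_ne_zero_of_finite)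
  have hi2 : 2 ≤ i := by
    by_contra hlt
    have hi1 : i = 1 := by omega
    rw [hi1] at hi
    have htop : normalizer (cz g₁ : Set Γ) = ⊤ := index_eq_one.mp hi.symm
    obtain ⟨-, γ, hγ⟩ := hconj
    have hγn : γ ∈ normalizer (cz g₁ : Set Γ) := htop ▸ mem_top γ
    have h3 : g₂ ∈ cz g₁ := by
      have := (mem_normalizer_iff.mp hγn (γ⁻¹ * g₂ * γ)).mp hγ
      have e : γ * (γ⁻¹ * g₂ * γ) * γ⁻¹ = g₂ := by group
      rwa [e] at this
    exact hne (h.trans g₁ g₂ h₁ h₂ h3).symm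
  obtain ⟨m, hm⟩ : ∃ m, m = i * a := ⟨_, rfl⟩
  have hm4 : 4 * i ≤ m := by rw [hm, mul_comm]; exact Nat.mul_le_mul_left _ ha4
  have hN' : Nat.card Γ = 2 * m * Nat.card Z := by rw [← hN, hm]; ring
  have hU := card_compl_Z (Γ := Γ) (Z := Z)
  have hsm : ∀ x, x ∉ Z → x ∉ conjClass (cz g₁) Z →
      ∃ s : ℕ, (conjClass (cz x) Z).ncard = s * Nat.card Z ∧
        (s = m ∨ 2 * s = m ∨ 3 * s = 4 * m ∨ 3 * s = 2 * m) := by
    intro x hxZ hxK
    apply small_class h hN' hxZ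
    by_contra hbig
    push Not at hbig
    apply hxK
    apply step2 h h₁ hxZ hα₁ hbig
    intro heq
    apply hxK
    refine ⟨hxZ, 1, ?_⟩
    rw [heq]
    simpa using self_mem_cz x
  obtain ⟨z, hz⟩ : ∃ z, z = Nat.card Z := ⟨_, rfl⟩
  rw [← hz] at hK hU hN' hzpos hα hsm
  have hK₁ : (conjClass (cz g₁) Z).ncard = (m - i) * z := by
    rw [hK, hm]
    congr 1
    rw [Nat.mul_sub, mul_one]
  have hU' : ({g : Γ | g ∉ Z} : Set Γ).ncard = (2 * m - 1) * z := by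
    rw [hU, hN', Nat.sub_mul, one_mul]
  have cancel : ∀ A B : ℕ, A * z ≤ B * z → A ≤ B := fun A B hh => Nat.le_of_mul_le_mul_right hh hzpos
  have scale : ∀ A B : ℕ, A < B → A * z < B * z := fun A B hh => Nat.mul_lt_mul_of_pos_right hh hzpos
  -- first class
  have hlt0 : (conjClass (cz g₁) Z).ncard < ({g : Γ | g ∉ Z} : Set Γ).ncard := by
    rw [hK₁, hU']
    exact scale _ _ (by omega)
  obtain ⟨x₁, hx₁U, hx₁K⟩ := Set.exists_mem_notMem_of_ncard_lt_ncard hlt0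
  obtain ⟨s₁, hs₁, hc₁⟩ := hsm x₁ hx₁U hx₁K
  have hd₁ := class_disjoint h h₁ hx₁U hx₁K
  have hsub₁ : conjClass (cz x₁) Z ∪ conjClass (cz g₁) Z ⊆ {g : Γ | g ∉ Z} :=
    Set.union_subset (class_subset _) (class_subset _)
  have hle₁ := Set.ncard_le_ncard hsub₁
  rw [Set.ncard_union_eq hd₁, hs₁, hK₁, hU', ← Nat.add_mul] at hle₁
  have hle₁' := cancel _ _ hle₁
  have hlt₁ : (conjClass (cz x₁) Z ∪ conjClass (cz g₁) Z).ncard
      < ({g : Γ | g ∉ Z} : Set Γ).ncard := by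
    rw [Set.ncard_union_eq hd₁, hs₁, hK₁, hU', ← Nat.add_mul]
    exact scale _ _ (by omega)
  obtain ⟨x₂, hx₂U, hx₂K⟩ := Set.exists_mem_notMem_of_ncard_lt_ncard hlt₁
  have hx₂1 : x₂ ∉ conjClass (cz g₁) Z := fun hx => hx₂K (Or.inr hx)
  have hx₂2 : x₂ ∉ conjClass (cz x₁) Z := fun hx => hx₂K (Or.inl hx)
  obtain ⟨s₂, hs₂, hc₂⟩ := hsm x₂ hx₂U hx₂1
  have hd₂ : Disjoint (conjClass (cz x₂) Z) (conjClass (cz x₁) Z ∪ conjClass (cz g₁) Z) :=
    Set.disjoint_union_right.mpr ⟨class_disjoint h hx₁U hx₂U hx₂2, class_disjoint h h₁ hx₂U hx₂1⟩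
  have hsub₂ : conjClass (cz x₂) Z ∪ (conjClass (cz x₁) Z ∪ conjClass (cz g₁) Z)
      ⊆ {g : Γ | g ∉ Z} :=
    Set.union_subset (class_subset _) hsub₁
  have hle₂ := Set.ncard_le_ncard hsub₂
  rw [Set.ncard_union_eq hd₂, Set.ncard_union_eq hd₁, hs₁, hs₂, hK₁, hU', ← Nat.add_mul,
    ← Nat.add_mul] at hle₂
  have hle₂' := cancel _ _ hle₂
  have heq₂ : s₂ + (s₁ + (m - i)) = 2 * m - 1 := by
    by_contra hne₂
    have hlt₂ : (conjClass (cz x₂) Z ∪ (conjClass (cz x₁) Z ∪ conjClass (cz g₁) Z)).ncard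
        < ({g : Γ | g ∉ Z} : Set Γ).ncard := by
      rw [Set.ncard_union_eq hd₂, Set.ncard_union_eq hd₁, hs₁, hs₂, hK₁, hU', ← Nat.add_mul,
        ← Nat.add_mul]
      exact scale _ _ (by omega)
    obtain ⟨x₃, hx₃U, hx₃K⟩ := Set.exists_mem_notMem_of_ncard_lt_ncard hlt₂
    have hx₃1 : x₃ ∉ conjClass (cz g₁) Z := fun hx => hx₃K (Or.inr (Or.inr hx))
    have hx₃2 : x₃ ∉ conjClass (cz x₁) Z := fun hx => hx₃K (Or.inr (Or.inl hx))
    have hx₃3 : x₃ ∉ conjClass (cz x₂) Z := fun hx => hx₃K (Or.inl hx)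
    obtain ⟨s₃, hs₃, hc₃⟩ := hsm x₃ hx₃U hx₃1
    have hd₃ : Disjoint (conjClass (cz x₃) Z)
        (conjClass (cz x₂) Z ∪ (conjClass (cz x₁) Z ∪ conjClass (cz g₁) Z)) :=
      Set.disjoint_union_right.mpr ⟨class_disjoint h hx₂U hx₃U hx₃3,
        Set.disjoint_union_right.mpr
          ⟨class_disjoint h hx₁U hx₃U hx₃2, class_disjoint h h₁ hx₃U hx₃1⟩⟩
    have hsub₃ : conjClass (cz x₃) Z ∪
        (conjClass (cz x₂) Z ∪ (conjClass (cz x₁) Z ∪ conjClass (cz g₁) Z))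
        ⊆ {g : Γ | g ∉ Z} :=
      Set.union_subset (class_subset _) hsub₂
    have hle₃ := Set.ncard_le_ncard hsub₃
    rw [Set.ncard_union_eq hd₃, Set.ncard_union_eq hd₂, Set.ncard_union_eq hd₁, hs₁, hs₂, hs₃,
      hK₁, hU', ← Nat.add_mul, ← Nat.add_mul, ← Nat.add_mul] at hle₃
    have hle₃' := cancel _ _ hle₃
    omega
  have hfin : 6 * (i - 1) = m := by omega
  have ha6 : a < 6 := by
    by_contra hge
    have : i * 6 ≤ i * a := Nat.mul_le_mul_left _ (by omega)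
    omega
  have hα' : Nat.card (cz g₁) = a * Nat.card Z := by rw [← hz]; exact hα
  have ha45 : a = 4 ∨ a = 5 := by omega
  rcases ha45 with rfl | rfl
  · left; exact ⟨hα', by omega⟩
  · right; exact ⟨hα', by omega⟩

/-- the index of `Z` in a centralizer kills the element modulo `Z` -/
theorem pow_mem_of_card (h : CAData Z) [Finite Γ] {g : Γ} (hg : g ∉ Z) {r : ℕ}
    (hr : Nat.card (cz g) = r * Nat.card Z) : g ^ r ∈ Z := by
  have hzpos : 0 < Nat.card Z := Nat.card_pos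
  have hle := h.cent g hg
  have h1 := index_mul_card (Z.subgroupOf (cz g))
  have h2 : Nat.card (Z.subgroupOf (cz g)) = Nat.card Z :=
    Nat.card_congr (subgroupOfEquivOfLe hle).toEquiv
  rw [h2, hr] at h1
  have h3 : Z.relIndex (cz g) = r := Nat.eq_of_mul_eq_mul_right hzpos h1
  rw [← h3]
  exact pow_relIndex_mem Z (self_mem_cz g)

/-- there is `r ≥ 2` with `|C(g)| = r |Z|` and `g ^ r ∈ Z` -/
theorem exists_pow_mem (h : CAData Z) [Finite Γ] {g : Γ} (hg : g ∉ Z) :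
    ∃ r : ℕ, 2 ≤ r ∧ Nat.card (cz g) = r * Nat.card Z ∧ g ^ r ∈ Z := by
  obtain ⟨r, ν, hr, -, hα, -, -⟩ := class_numbers h hg
  exact ⟨r, hr, hα, pow_mem_of_card h hg hα⟩

/-- (N2) seven big centralizers, no three of them equal -/
theorem n2 (h : CAData Z) [Finite Γ] (g : Fin 7 → Γ) (hg : ∀ j, g j ∉ Z)
    (hbig : ∀ j, 4 * Nat.card Z ≤ Nat.card (cz (g j)))
    (h3 : ∀ i j k, i ≠ j → i ≠ k → j ≠ k → cz (g i) = cz (g j) → cz (g i) = cz (g k) → False) :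
    Nat.card (cz (g 0)) = 5 * Nat.card Z := by
  classical
  have hex : ∃ j, cz (g 0) ≠ cz (g j) := by
    by_contra hall
    push Not at hall
    exact h3 0 1 2 (by decide) (by decide) (by decide) (hall 1) (hall 2)
  obtain ⟨j₁, hj₁⟩ := hex
  rcases n1 h (hg 0) (hg j₁) (hbig 0) (hbig j₁) hj₁ with ⟨-, hi3⟩ | ⟨h5, -⟩
  · exfalso
    have hγ : ∀ j, ∃ γ : Γ, ∀ y, y ∈ cz (g 0) ↔ γ * y * γ⁻¹ ∈ cz (g j) := by
      intro j
      by_cases hj : cz (g 0) = cz (g j)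
      · exact ⟨1, fun y => by rw [hj]; simp⟩
      · exact class_key h (hg 0) (step2 h (hg 0) (hg j) (hbig 0) (hbig j) hj)
    choose γ hγ using hγ
    have hmemiff : ∀ j y, y ∈ cz (g j) ↔ (γ j)⁻¹ * y * γ j ∈ cz (g 0) := by
      intro j y
      rw [hγ j]
      have e : γ j * ((γ j)⁻¹ * y * γ j) * (γ j)⁻¹ = y := by group
      rw [e]
    have : Fintype (Γ ⧸ normalizer (cz (g 0) : Set Γ)) := Fintype.ofFinite _
    have hcard : Fintype.card (Γ ⧸ normalizer (cz (g 0) : Set Γ)) * 2 < Fintype.card (Fin 7) := by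
      rw [← Nat.card_eq_fintype_card, ← index, hi3]; simp
    obtain ⟨c, hc⟩ := Fintype.exists_lt_card_fiber_of_mul_lt_card
      (fun j : Fin 7 => (γ j : Γ ⧸ normalizer (cz (g 0) : Set Γ))) hcard
    obtain ⟨i, j, k, hi, hj, hk, hij, hik, hjk⟩ := Finset.two_lt_card_iff.mp hc
    simp only [Finset.mem_filter, Finset.mem_univ, true_and] at hi hj hk
    have key : ∀ i j, (γ i : Γ ⧸ normalizer (cz (g 0) : Set Γ)) = γ j → cz (g i) = cz (g j) := by
      intro i j hij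
      have hmem : (γ i)⁻¹ * γ j ∈ normalizer (cz (g 0) : Set Γ) := QuotientGroup.eq.mp hij
      ext y
      rw [hmemiff i, hmemiff j, mem_normalizer_iff.mp hmem ((γ j)⁻¹ * y * γ j)]
      have e : (γ i)⁻¹ * γ j * ((γ j)⁻¹ * y * γ j) * ((γ i)⁻¹ * γ j)⁻¹ = (γ i)⁻¹ * y * γ i := by
        group
      rw [e]
    exact h3 i j k hij hik hjk (key i j (hi.trans hj.symm)) (key i k (hi.trans hk.symm))
  · exact h5

end Abstract

end Cfsg.Agent.Lib.helper56.KleinCount
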