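import Mathlib
import Cfsg.Agent.Lib.helper56.KleinCount

set_option autoImplicit false

/-!
Subgroups of `GL₂` over a field of characteristic `p` whose order is prime to `p`: the centralizers
of the non-scalar elements are abelian of index at most two in their normalizers; consequences for
families of elements with a prescribed eigenvalue and determinant.
-/

namespace Cfsg.Agent.Lib.helper56.GL2p

open Matrix Cfsg.Agent.Lib.helper56.KleinCount

section Plane

variable {F : Type*} [Field F]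

/-- cross product of plane vectors -/
def cross (v w : Fin 2 → F) : F := v 0 * w 1 - v 1 * w 0

theorem cross_mulVec (g : Matrix (Fin 2) (Fin 2) F) (v w : Fin 2 → F) :
    cross (g *ᵥ v) (g *ᵥ w) = g.det * cross v w := by
  simp only [cross, Matrix.mulVec, dotProduct, Fin.sum_univ_two, Matrix.det_fin_two]
  ring

theorem cross_smul_smul (a b : F) (v w : Fin 2 → F) :
    cross (a • v) (b • w) = a * b * cross v w := by
  simp only [cross, Pi.smul_apply, smul_eq_mul]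
  ring

theorem exists_smul_of_cross_eq_zero {v w : Fin 2 → F} (hv : v ≠ 0) (h : cross w v = 0) :
    ∃ μ : F, w = μ • v := by
  unfold cross at h
  by_cases h0 : v 0 = 0
  · have h1 : v 1 ≠ 0 := by
      intro h1; apply hv; ext i; fin_cases i <;> simp [h0, h1]
    refine ⟨w 1 / v 1, ?_⟩
    have hw0 : w 0 = 0 := by
      rw [h0, mul_zero, sub_zero] at h
      exact (mul_eq_zero.mp h).resolve_right h1
    ext i; fin_cases i
    · simp [h0, hw0]
    · simp; field_simp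
  · refine ⟨w 0 / v 0, ?_⟩
    ext i; fin_cases i
    · simp; field_simp
    · simp; field_simp; linear_combination -h

theorem det_of_eigen {g : Matrix (Fin 2) (Fin 2) F} {v w : Fin 2 → F} {κ μ : F}
    (hv : g *ᵥ v = κ • v) (hw : g *ᵥ w = μ • w) (hvw : cross v w ≠ 0) : g.det = κ * μ := by
  have h1 := cross_mulVec g v w
  rw [hv, hw, cross_smul_smul] at h1
  exact (mul_right_cancel₀ hvw h1).symm

/-- three pairwise independent vectors cannot be eigenvectors for the eigenvalue `l⁻¹` of three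
pairwise commuting matrices of determinant `l`, unless `l ^ 3 = 1` -/
theorem three_lines {g₁ g₂ g₃ : Matrix (Fin 2) (Fin 2) F} {v₁ v₂ v₃ : Fin 2 → F} {l : F}
    (hl : l ≠ 0) (hl3 : l ^ 3 ≠ 1)
    (h12 : g₁ * g₂ = g₂ * g₁) (h13 : g₁ * g₃ = g₃ * g₁)
    (hg₁ : g₁ *ᵥ v₁ = l⁻¹ • v₁) (hg₂ : g₂ *ᵥ v₂ = l⁻¹ • v₂) (hg₃ : g₃ *ᵥ v₃ = l⁻¹ • v₃)
    (hd₁ : g₁.det = l) (hd₂ : g₂.det = l) (hd₃ : g₃.det = l)
    (c12 : cross v₁ v₂ ≠ 0) (c13 : cross v₁ v₃ ≠ 0) (c23 : cross v₂ v₃ ≠ 0) : False := by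
  have hv₂ : v₂ ≠ 0 := by
    rintro rfl; apply c12; simp [cross]
  have hv₃ : v₃ ≠ 0 := by
    rintro rfl; apply c13; simp [cross]
  -- `v₂` is an eigenvector of `g₁`
  have key : ∀ (g' : Matrix (Fin 2) (Fin 2) F) (v' : Fin 2 → F), g₁ * g' = g' * g₁ →
      g' *ᵥ v' = l⁻¹ • v' → g'.det = l → v' ≠ 0 → ∃ μ : F, g₁ *ᵥ v' = μ • v' := by
    intro g' v' hc hg' hd' hv'
    apply exists_smul_of_cross_eq_zero hv'
    by_contra hcr
    have e2 : g' *ᵥ (g₁ *ᵥ v') = l⁻¹ • (g₁ *ᵥ v') := by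
      rw [Matrix.mulVec_mulVec, ← hc, ← Matrix.mulVec_mulVec, hg', Matrix.mulVec_smul]
    have h1 := det_of_eigen e2 hg' hcr
    rw [hd'] at h1
    apply hl3
    field_simp at h1
    linear_combination h1
  obtain ⟨μ, hμ⟩ := key g₂ v₂ h12 hg₂ hd₂ hv₂
  obtain ⟨ν, hν⟩ := key g₃ v₃ h13 hg₃ hd₃ hv₃
  have e1 := det_of_eigen hg₁ hμ c12
  have e2 := det_of_eigen hg₁ hν c13
  have e3 := det_of_eigen hμ hν c23
  rw [hd₁] at e1 e2 e3
  apply hl3
  have hμ' : μ = l ^ 2 := by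
    field_simp at e1
    linear_combination -e1
  have hν' : ν = l ^ 2 := by
    field_simp at e2
    linear_combination -e2
  rw [hμ', hν'] at e3
  have : l * (l ^ 3 - 1) = 0 := by linear_combination -e3
  rcases mul_eq_zero.mp this with h | h
  · exact absurd h hl
  · linear_combination h

/-- a matrix commuting with a non-scalar matrix is a polynomial in it -/
theorem exists_lin_of_commute {g h : Matrix (Fin 2) (Fin 2) F}
    (hg : g 0 1 ≠ 0 ∨ g 1 0 ≠ 0 ∨ g 0 0 ≠ g 1 1) (hc : h * g = g * h) :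
    ∃ α β : F, h = α • (1 : Matrix (Fin 2) (Fin 2) F) + β • g := by
  have e00 := congrFun (congrFun hc 0) 0
  have e01 := congrFun (congrFun hc 0) 1
  have e10 := congrFun (congrFun hc 1) 0
  simp only [Matrix.mul_apply, Fin.sum_univ_two] at e00 e01 e10
  by_cases hb : g 0 1 ≠ 0
  · refine ⟨h 0 0 - h 0 1 / g 0 1 * g 0 0, h 0 1 / g 0 1, ?_⟩
    ext i j
    fin_cases i <;> fin_cases j
    · simp
    · simp; field_simp
    · simp; field_simp; linear_combination -e00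
    · simp; field_simp; linear_combination -e01
  by_cases hc' : g 1 0 ≠ 0
  · refine ⟨h 0 0 - h 1 0 / g 1 0 * g 0 0, h 1 0 / g 1 0, ?_⟩
    ext i j
    fin_cases i <;> fin_cases j
    · simp
    · simp; field_simp; linear_combination e00
    · simp; field_simp
    · simp; field_simp; linear_combination e10
  push Not at hb hc'
  have hd : g 0 0 ≠ g 1 1 := by
    rcases hg with h1 | h1 | h1
    · exact absurd hb h1
    · exact absurd hc' h1
    · exact h1
  have hd' : g 0 0 - g 1 1 ≠ 0 := sub_ne_zero.mpr hd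
  have hf : h 0 1 = 0 := by
    have : h 0 1 * (g 0 0 - g 1 1) = 0 := by
      rw [hb] at e01
      linear_combination -e01
    exact (mul_eq_zero.mp this).resolve_right hd'
  have hk : h 1 0 = 0 := by
    have : h 1 0 * (g 0 0 - g 1 1) = 0 := by
      rw [hc'] at e10
      linear_combination e10
    exact (mul_eq_zero.mp this).resolve_right hd'
  refine ⟨h 0 0 - (h 0 0 - h 1 1) / (g 0 0 - g 1 1) * g 0 0,
    (h 0 0 - h 1 1) / (g 0 0 - g 1 1), ?_⟩
  ext i j
  fin_cases i <;> fin_cases j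
  · simp
  · simp [hf, hb]
  · simp [hk, hc']
  · simp; field_simp; ring

end Plane

section Grp

variable {F : Type*} [Field F] {Γ : Subgroup (GL (Fin 2) F)}

/-- the matrix of an element -/
def mat (γ : Γ) : Matrix (Fin 2) (Fin 2) F := ((γ : GL (Fin 2) F) : Matrix (Fin 2) (Fin 2) F)

theorem mat_mul (a b : Γ) : mat (a * b) = mat a * mat b := rfl

theorem mat_one : mat (1 : Γ) = 1 := rfl

theorem mat_pow (a : Γ) (k : ℕ) : mat (a ^ k) = mat a ^ k := by
  simp [mat]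

theorem mat_inj {a b : Γ} (h : mat a = mat b) : a = b := Subtype.ext (Units.ext h)

theorem mat_mul_inv (a : Γ) : mat a * mat a⁻¹ = 1 := by
  rw [← mat_mul, mul_inv_cancel, mat_one]

theorem mat_inv_mul (a : Γ) : mat a⁻¹ * mat a = 1 := by
  rw [← mat_mul, inv_mul_cancel, mat_one]

variable (Γ) in
/-- the scalar matrices in `Γ` -/
def Zs : Subgroup Γ where
  carrier := {γ | ∃ c : F, mat γ = c • (1 : Matrix (Fin 2) (Fin 2) F)}
  one_mem' := ⟨1, by simp [mat_one]⟩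
  mul_mem' := by
    rintro a b ⟨c, hc⟩ ⟨d, hd⟩
    exact ⟨c * d, by rw [mat_mul, hc, hd]; simp [smul_smul, mul_comm]⟩
  inv_mem' := by
    rintro a ⟨c, hc⟩
    have h1 := mat_mul_inv a
    rw [hc, Matrix.smul_mul, one_mul] at h1
    have hc0 : c ≠ 0 := by
      rintro rfl
      rw [zero_smul] at h1
      exact zero_ne_one h1
    refine ⟨c⁻¹, ?_⟩
    rw [← h1, smul_smul, inv_mul_cancel₀ hc0, one_smul]

theorem mem_Zs {γ : Γ} : γ ∈ Zs Γ ↔ ∃ c : F, mat γ = c • (1 : Matrix (Fin 2) (Fin 2) F) := Iff.rfl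

instance Zs_normal : (Zs Γ).Normal := ⟨by
  rintro a ⟨c, hc⟩ b
  refine ⟨c, ?_⟩
  rw [mat_mul, mat_mul, hc, Matrix.mul_smul, mul_one, Matrix.smul_mul, mat_mul_inv]⟩

theorem nonscalar {γ : Γ} (h : γ ∉ Zs Γ) :
    mat γ 0 1 ≠ 0 ∨ mat γ 1 0 ≠ 0 ∨ mat γ 0 0 ≠ mat γ 1 1 := by
  by_contra hcon
  push Not at hcon
  obtain ⟨h1, h2, h3⟩ := hcon
  apply h
  refine ⟨mat γ 0 0, ?_⟩
  ext i j
  fin_cases i <;> fin_cases j <;> simp [h1, h2, h3]

theorem cz_trans {γ x : Γ} (hγ : γ ∉ Zs Γ) (hx : x ∉ Zs Γ) (hxc : x ∈ cz γ) : cz x = cz γ := by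
  have hc : mat x * mat γ = mat γ * mat x := by
    rw [← mat_mul, ← mat_mul, mem_cz.mp hxc]
  obtain ⟨α, β, hαβ⟩ := exists_lin_of_commute (nonscalar hγ) hc
  have hβ : β ≠ 0 := by
    rintro rfl
    apply hx
    exact ⟨α, by rw [hαβ]; simp⟩
  ext y
  rw [mem_cz, mem_cz]
  constructor
  · intro h
    apply mat_inj
    have h1 : mat x * mat y = mat y * mat x := by rw [← mat_mul, ← mat_mul, h]
    rw [hαβ, add_mul, mul_add, Matrix.smul_mul, Matrix.smul_mul, Matrix.mul_smul, Matrix.mul_smul,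
      one_mul, mul_one] at h1
    have h2 := add_left_cancel h1
    rw [mat_mul, mat_mul]
    exact smul_right_injective _ hβ h2
  · intro h
    apply mat_inj
    have h1 : mat γ * mat y = mat y * mat γ := by rw [← mat_mul, ← mat_mul, h]
    rw [mat_mul, mat_mul, hαβ, add_mul, mul_add, Matrix.smul_mul, Matrix.smul_mul,
      Matrix.mul_smul, Matrix.mul_smul, one_mul, mul_one, h1]

theorem cz_cent {γ : Γ} : Zs Γ ≤ cz γ := by
  rintro ζ ⟨c, hc⟩
  rw [mem_cz]
  apply mat_inj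
  rw [mat_mul, mat_mul, hc]
  simp

theorem cayley (g : Matrix (Fin 2) (Fin 2) F) : g * g = g.trace • g - g.det • 1 := by
  ext i j
  fin_cases i <;> fin_cases j <;>
    simp [Matrix.mul_apply, Matrix.trace, Matrix.det_fin_two, Fin.sum_univ_two] <;> ring

variable {p : ℕ} [Fact p.Prime] [CharP F p]

theorem two_ne_zero' (hp2 : p ≠ 2) : (2 : F) ≠ 0 := by
  intro h
  have h1 : ((2 : ℕ) : F) = 0 := by exact_mod_cast h
  rw [CharP.cast_eq_zero_iff F p] at h1
  have hpP : p.Prime := Fact.out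
  have := (Nat.prime_dvd_prime_iff_eq hpP Nat.prime_two).mp h1
  exact hp2 this

theorem disc_ne_zero [Finite Γ] (hp2 : p ≠ 2) (hΓ : ¬ p ∣ Nat.card Γ) {γ : Γ} (hγ : γ ∉ Zs Γ) :
    (mat γ).trace ^ 2 - 4 * (mat γ).det ≠ 0 := by
  intro hdisc
  have hpP : p.Prime := Fact.out
  have h2 : (2 : F) ≠ 0 := two_ne_zero' hp2
  obtain ⟨g, hg⟩ : ∃ g, g = mat γ := ⟨_, rfl⟩
  rw [← hg] at hdisc
  obtain ⟨μ, hμ⟩ : ∃ μ, μ = g.trace / 2 := ⟨_, rfl⟩
  obtain ⟨n, hn⟩ : ∃ n, n = g - μ • (1 : Matrix (Fin 2) (Fin 2) F) := ⟨_, rfl⟩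
  have hdisc' : (g 0 0 + g 1 1) ^ 2 - 4 * (g 0 0 * g 1 1 - g 0 1 * g 1 0) = 0 := by
    simpa [Matrix.trace, Matrix.det_fin_two, Fin.sum_univ_two] using hdisc
  have hμ' : μ = (g 0 0 + g 1 1) / 2 := by
    rw [hμ]; simp [Matrix.trace, Fin.sum_univ_two]
  have hnn : n * n = 0 := by
    rw [hn]
    ext i j
    fin_cases i <;> fin_cases j
    · simp [Matrix.mul_apply, Fin.sum_univ_two, hμ']
      field_simp
      linear_combination hdisc'
    · simp [Matrix.mul_apply, Fin.sum_univ_two, hμ']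
      field_simp
      ring
    · simp [Matrix.mul_apply, Fin.sum_univ_two, hμ']
      field_simp
      ring
    · simp [Matrix.mul_apply, Fin.sum_univ_two, hμ']
      field_simp
      linear_combination hdisc'
  have hpow : g ^ p = (μ ^ p) • (1 : Matrix (Fin 2) (Fin 2) F) := by
    have hcomm : Commute (μ • (1 : Matrix (Fin 2) (Fin 2) F)) n :=
      (Commute.one_left n).smul_left μ
    have e : g = μ • 1 + n := by rw [hn]; abel
    rw [e, add_pow_char_of_commute _ hcomm]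
    have hn0 : n ^ p = 0 := by
      have : n ^ 2 = 0 := by rw [pow_two, hnn]
      exact pow_eq_zero_of_le hpP.two_le this
    rw [hn0, add_zero, smul_pow, one_pow]
  have hmem : γ ^ p ∈ Zs Γ := ⟨μ ^ p, by rw [mat_pow, ← hg]; exact hpow⟩
  have hcop : Nat.Coprime p (orderOf γ) := by
    apply Nat.Coprime.coprime_dvd_right (orderOf_dvd_natCard γ)
    exact (Nat.Prime.coprime_iff_not_dvd hpP).mpr hΓ
  obtain ⟨m, hm⟩ := exists_pow_eq_self_of_coprime hcop
  apply hγ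
  rw [← hm]
  exact Subgroup.pow_mem _ hmem m

theorem conj_cases [Finite Γ] (hp2 : p ≠ 2) (hΓ : ¬ p ∣ Nat.card Γ) {γ : Γ} (hγ : γ ∉ Zs Γ)
    (n : Γ) (hx : n * γ * n⁻¹ ∈ cz γ) :
    n * γ * n⁻¹ = γ ∨ mat (n * γ * n⁻¹) = (mat γ).trace • 1 - mat γ := by
  have h2 : (2 : F) ≠ 0 := two_ne_zero' hp2
  have hc : mat (n * γ * n⁻¹) * mat γ = mat γ * mat (n * γ * n⁻¹) := by
    rw [← mat_mul, ← mat_mul]; congr 1; exact (mem_cz.mp hx).symm
  obtain ⟨α, β, hαβ⟩ := exists_lin_of_commute (nonscalar hγ) hc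
  have htr : (mat (n * γ * n⁻¹)).trace = (mat γ).trace := by
    rw [mat_mul, mat_mul, Matrix.trace_mul_comm, ← mul_assoc, mat_inv_mul, one_mul]
  have hdet : (mat (n * γ * n⁻¹)).det = (mat γ).det := by
    rw [mat_mul, mat_mul, Matrix.det_mul, Matrix.det_mul, mul_right_comm, ← Matrix.det_mul,
      mat_mul_inv, Matrix.det_one, one_mul]
  have hdisc := disc_ne_zero hp2 hΓ hγ
  obtain ⟨g, hg⟩ : ∃ g, g = mat γ := ⟨_, rfl⟩
  rw [← hg] at hαβ htr hdet hdisc ⊢
  rw [hαβ] at htr hdet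
  have htr' : (α + β * g 0 0) + (α + β * g 1 1) = g 0 0 + g 1 1 := by
    simpa [Matrix.trace, Fin.sum_univ_two] using htr
  have hdet' : (α + β * g 0 0) * (α + β * g 1 1) - (β * g 0 1) * (β * g 1 0)
      = g 0 0 * g 1 1 - g 0 1 * g 1 0 := by
    simpa [Matrix.det_fin_two] using hdet
  have hdisc' : (g 0 0 + g 1 1) ^ 2 - 4 * (g 0 0 * g 1 1 - g 0 1 * g 1 0) ≠ 0 := by
    simpa [Matrix.trace, Matrix.det_fin_two, Fin.sum_univ_two] using hdisc
  have hβ : (1 - β) * (1 + β) = 0 := by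
    have : (1 - β) * (1 + β) * ((g 0 0 + g 1 1) ^ 2 - 4 * (g 0 0 * g 1 1 - g 0 1 * g 1 0)) = 0 := by
      linear_combination 4 * hdet' - (2 * α + (g 0 0 + g 1 1) * (1 + β)) * htr'
    exact (mul_eq_zero.mp this).resolve_right hdisc'
  rcases mul_eq_zero.mp hβ with h1 | h1
  · left
    have hβ1 : β = 1 := by linear_combination -h1
    have hα : α = 0 := by
      rw [hβ1] at htr'
      have : 2 * α = 0 := by linear_combination htr'
      exact (mul_eq_zero.mp this).resolve_left h2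
    apply mat_inj
    rw [hαβ, hα, hβ1, ← hg]
    simp
  · right
    have hβ1 : β = -1 := by linear_combination h1
    have hα : α = g 0 0 + g 1 1 := by
      rw [hβ1] at htr'
      have : 2 * (α - (g 0 0 + g 1 1)) = 0 := by linear_combination htr'
      have := (mul_eq_zero.mp this).resolve_left h2
      linear_combination this
    rw [hαβ, hα, hβ1]
    simp [Matrix.trace, Fin.sum_univ_two, sub_eq_add_neg]

theorem card_normalizer_le [Finite Γ] (hp2 : p ≠ 2) (hΓ : ¬ p ∣ Nat.card Γ) {γ : Γ}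
    (hγ : γ ∉ Zs Γ) :
    Nat.card (Subgroup.normalizer (cz γ : Set Γ)) ≤ 2 * Nat.card (cz γ) := by
  by_cases hN : Subgroup.normalizer (cz γ : Set Γ) ≤ cz γ
  · have := Subgroup.card_le_of_le hN
    omega
  · obtain ⟨n₁, hn₁N, hn₁K⟩ := SetLike.not_le_iff_exists.mp hN
    have hcases : ∀ n ∈ Subgroup.normalizer (cz γ : Set Γ),
        n ∈ cz γ ∨ mat (n * γ * n⁻¹) = (mat γ).trace • 1 - mat γ := by
      intro n hn
      have hx : n * γ * n⁻¹ ∈ cz γ := (Subgroup.mem_normalizer_iff.mp hn γ).mp (self_mem_cz γ)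
      rcases conj_cases hp2 hΓ hγ n hx with h | h
      · left
        rw [mem_cz]
        calc γ * n = n * γ * n⁻¹ * n := by rw [h]
          _ = n * γ := by group
      · right; exact h
    have h₁ := (hcases n₁ hn₁N).resolve_left hn₁K
    have hsub : (Subgroup.normalizer (cz γ : Set Γ) : Set Γ)
        ⊆ (cz γ : Set Γ) ∪ (fun k => n₁ * k) '' (cz γ : Set Γ) := by
      intro n hn
      rcases hcases n hn with h | h
      · left; exact h
      · right
        refine ⟨n₁⁻¹ * n, ?_, by group⟩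
        have e : n₁ * γ * n₁⁻¹ = n * γ * n⁻¹ := mat_inj (h₁.trans h.symm)
        show n₁⁻¹ * n ∈ cz γ
        rw [mem_cz]
        calc γ * (n₁⁻¹ * n) = n₁⁻¹ * (n₁ * γ * n₁⁻¹) * n := by group
          _ = n₁⁻¹ * (n * γ * n⁻¹) * n := by rw [e]
          _ = n₁⁻¹ * n * γ := by group
    have h1 := Set.ncard_le_ncard hsub (Set.toFinite _)
    have h2 := Set.ncard_union_le (cz γ : Set Γ) ((fun k => n₁ * k) '' (cz γ : Set Γ))
    have h3 : ((fun k => n₁ * k) '' (cz γ : Set Γ)).ncard = (cz γ : Set Γ).ncard :=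
      Set.ncard_image_of_injective _ (mul_right_injective n₁)
    have h4 : Nat.card (Subgroup.normalizer (cz γ : Set Γ))
        = (Subgroup.normalizer (cz γ : Set Γ) : Set Γ).ncard := _root_.Nat.card_coe_set_eq _
    have h5 : Nat.card (cz γ) = (cz γ : Set Γ).ncard := _root_.Nat.card_coe_set_eq _
    omega

theorem caData [Finite Γ] (hp2 : p ≠ 2) (hΓ : ¬ p ∣ Nat.card Γ) : CAData (Zs Γ) where
  cent := fun _ _ => cz_cent
  trans := fun _ _ hg hx hxc => cz_trans hg hx hxc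
  norm := fun _ hg => card_normalizer_le hp2 hΓ hg

theorem pow_scalar {g : Matrix (Fin 2) (Fin 2) F} {v : Fin 2 → F} {l c : F} {k : ℕ}
    (hv : v ≠ 0) (hl : l ≠ 0) (hgv : g *ᵥ v = l⁻¹ • v) (hdet : g.det = l)
    (hk : g ^ k = c • (1 : Matrix (Fin 2) (Fin 2) F)) : l ^ (3 * k) = 1 := by
  have h1 : ∀ k : ℕ, (g ^ k) *ᵥ v = (l⁻¹) ^ k • v := by
    intro k
    induction k with
    | zero => simp
    | succ k ih =>
      rw [pow_succ, ← Matrix.mulVec_mulVec, hgv, Matrix.mulVec_smul, ih, smul_smul, pow_succ,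
        mul_comm]
  have h2 := h1 k
  rw [hk, Matrix.smul_mulVec, Matrix.one_mulVec] at h2
  have hc : c = (l⁻¹) ^ k := by
    obtain ⟨i, hi⟩ : ∃ i, v i ≠ 0 := by
      by_contra hh
      push Not at hh
      exact hv (funext hh)
    have := congrFun h2 i
    simp only [Pi.smul_apply, smul_eq_mul] at this
    exact mul_right_cancel₀ hi this
  have h3 : (g ^ k).det = l ^ k := by rw [Matrix.det_pow, hdet]
  rw [hk, Matrix.det_smul, Matrix.det_one, Fintype.card_fin, mul_one, hc, inv_pow] at h3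
  have hL : l ^ k ≠ 0 := pow_ne_zero _ hl
  rw [mul_comm, pow_mul]
  field_simp at h3
  linear_combination -h3

theorem pow_mem_dvd {γ : Γ} {v : Fin 2 → F} {l : F} (hv : v ≠ 0) (hl : l ≠ 0)
    (hord : ∀ k : ℕ, l ^ k = 1 → (p - 1) ∣ k)
    (hγ : mat γ *ᵥ v = l⁻¹ • v) (hdet : (mat γ).det = l) {k : ℕ} (hk : γ ^ k ∈ Zs Γ) :
    (p - 1) ∣ 3 * k := by
  obtain ⟨c, hc⟩ := hk
  rw [mat_pow] at hc
  exact hord _ (pow_scalar hv hl hγ hdet hc)

theorem cross_ne_zero_left {v w : Fin 2 → F} (h : cross v w ≠ 0) : v ≠ 0 := by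
  rintro rfl
  apply h
  simp [cross]

/-- three eigenlines: `p < 17` -/
theorem bound17 [Finite Γ] (hp2 : p ≠ 2) (hΓ : ¬ p ∣ Nat.card Γ) {l : F} (hl : l ≠ 0)
    (hord : ∀ k : ℕ, l ^ k = 1 → (p - 1) ∣ k)
    (γ : Fin 3 → Γ) (v : Fin 3 → Fin 2 → F)
    (hv : ∀ i j, i ≠ j → cross (v i) (v j) ≠ 0)
    (hγ : ∀ i, mat (γ i) *ᵥ v i = l⁻¹ • v i) (hdet : ∀ i, (mat (γ i)).det = l) : p < 17 := by
  by_contra hp17
  push Not at hp17
  have hca : CAData (Zs Γ) := caData hp2 hΓ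
  have hv0 : ∀ i, v i ≠ 0 := by
    intro i
    obtain ⟨j, hj⟩ : ∃ j : Fin 3, i ≠ j := by
      by_cases h : i = 0
      · exact ⟨1, by rw [h]; decide⟩
      · exact ⟨0, h⟩
    exact cross_ne_zero_left (hv i j hj)
  have hpow : ∀ i k, γ i ^ k ∈ Zs Γ → (p - 1) ∣ 3 * k := fun i k hk =>
    pow_mem_dvd (hv0 i) hl hord (hγ i) (hdet i) hk
  have hnZ : ∀ i, γ i ∉ Zs Γ := by
    intro i hi
    have h1 := hpow i 1 (by simpa using hi)
    have h2 := Nat.le_of_dvd (by norm_num) h1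
    omega
  have hz : 0 < Nat.card (Zs Γ) := Nat.card_pos
  have hbig : ∀ i, 6 * Nat.card (Zs Γ) ≤ Nat.card (cz (γ i)) := by
    intro i
    obtain ⟨r, hr2, hcard, hmem⟩ := exists_pow_mem hca (hnZ i)
    have h1 := hpow i r hmem
    have h2 := Nat.le_of_dvd (by omega) h1
    rw [hcard]
    exact Nat.mul_le_mul_right _ (by omega)
  have heq : ∀ i j, cz (γ i) = cz (γ j) := by
    intro i j
    by_contra hne
    have hi := hbig i
    have hj := hbig j
    rcases n1 hca (hnZ i) (hnZ j) (by omega) (by omega) hne with ⟨h4, -⟩ | ⟨h5, -⟩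
    · omega
    · omega
  have hcomm : ∀ i j, mat (γ i) * mat (γ j) = mat (γ j) * mat (γ i) := by
    intro i j
    have : γ j ∈ cz (γ i) := by rw [heq i j]; exact self_mem_cz _
    rw [← mat_mul, ← mat_mul, mem_cz.mp this]
  have hl3 : l ^ 3 ≠ 1 := by
    intro h
    have h1 := hord 3 h
    have h2 := Nat.le_of_dvd (by norm_num) h1
    omega
  exact three_lines hl hl3 (hcomm 0 1) (hcomm 0 2) (hγ 0) (hγ 1) (hγ 2) (hdet 0) (hdet 1)
    (hdet 2) (hv 0 1 (by decide)) (hv 0 2 (by decide)) (hv 1 2 (by decide))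

/-- seven eigenlines: `p < 11` -/
theorem bound11 [Finite Γ] (hp2 : p ≠ 2) (hΓ : ¬ p ∣ Nat.card Γ) {l : F} (hl : l ≠ 0)
    (hord : ∀ k : ℕ, l ^ k = 1 → (p - 1) ∣ k)
    (γ : Fin 7 → Γ) (v : Fin 7 → Fin 2 → F)
    (hv : ∀ i j, i ≠ j → cross (v i) (v j) ≠ 0)
    (hγ : ∀ i, mat (γ i) *ᵥ v i = l⁻¹ • v i) (hdet : ∀ i, (mat (γ i)).det = l) : p < 11 := by
  by_contra hp11
  push Not at hp11
  have hpP : p.Prime := Fact.out
  have hca : CAData (Zs Γ) := caData hp2 hΓ
  have hv0 : ∀ i, v i ≠ 0 := by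
    intro i
    obtain ⟨j, hj⟩ : ∃ j : Fin 7, i ≠ j := by
      by_cases h : i = 0
      · exact ⟨1, by rw [h]; decide⟩
      · exact ⟨0, h⟩
    exact cross_ne_zero_left (hv i j hj)
  have hpow : ∀ i k, γ i ^ k ∈ Zs Γ → (p - 1) ∣ 3 * k := fun i k hk =>
    pow_mem_dvd (hv0 i) hl hord (hγ i) (hdet i) hk
  have hnZ : ∀ i, γ i ∉ Zs Γ := by
    intro i hi
    have h1 := hpow i 1 (by simpa using hi)
    have h2 := Nat.le_of_dvd (by norm_num) h1
    omega
  have hz : 0 < Nat.card (Zs Γ) := Nat.card_pos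
  have hbig : ∀ i, 4 * Nat.card (Zs Γ) ≤ Nat.card (cz (γ i)) := by
    intro i
    obtain ⟨r, hr2, hcard, hmem⟩ := exists_pow_mem hca (hnZ i)
    have h1 := hpow i r hmem
    have h2 := Nat.le_of_dvd (by omega) h1
    rw [hcard]
    exact Nat.mul_le_mul_right _ (by omega)
  have hl3 : l ^ 3 ≠ 1 := by
    intro h
    have h1 := hord 3 h
    have h2 := Nat.le_of_dvd (by norm_num) h1
    omega
  have h3 : ∀ i j k, i ≠ j → i ≠ k → j ≠ k → cz (γ i) = cz (γ j) → cz (γ i) = cz (γ k) →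
      False := by
    intro i j k hij hik hjk e1 e2
    have c1 : mat (γ i) * mat (γ j) = mat (γ j) * mat (γ i) := by
      have : γ j ∈ cz (γ i) := by rw [e1]; exact self_mem_cz _
      rw [← mat_mul, ← mat_mul, mem_cz.mp this]
    have c2 : mat (γ i) * mat (γ k) = mat (γ k) * mat (γ i) := by
      have : γ k ∈ cz (γ i) := by rw [e2]; exact self_mem_cz _
      rw [← mat_mul, ← mat_mul, mem_cz.mp this]
    exact three_lines hl hl3 c1 c2 (hγ i) (hγ j) (hγ k) (hdet i) (hdet j) (hdet k)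
      (hv i j hij) (hv i k hik) (hv j k hjk)
  have h5 := n2 hca γ hnZ hbig h3
  have hmem := pow_mem_of_card hca (hnZ 0) h5
  have hdvd := hpow 0 5 hmem
  have hle := Nat.le_of_dvd (by norm_num) hdvd
  obtain ⟨q, hq⟩ : ∃ q, q = p - 1 := ⟨_, rfl⟩
  rw [← hq] at hdvd hle
  have hq10 : 10 ≤ q := by omega
  have hq15 : q = 15 := by
    interval_cases q <;> first | rfl | (exfalso; revert hdvd; decide)
  have hp16 : p = 16 := by omega
  rw [hp16] at hpP
  exact absurd hpP (by norm_num)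

end Grp

end Cfsg.Agent.Lib.helper56.GL2p
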