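import Mathlib
import Cfsg.Agent.Lib.helper3.Extraspecial
import Cfsg.Agent.Lib.helper26.Basic
import Cfsg.Agent.Lib.helper56.GL2p

set_option autoImplicit false
open scoped commutatorElement

/-!
Extraspecial groups of order `p ^ 3`: coordinates on the quotient by the centre, the action of
automorphisms as `2 × 2` matrices (the determinant is the action on the centre), and the torus
element of the normalizer of an extraspecial Sylow subgroup obtained from two transvections.
-/

namespace Cfsg.Agent.Lib.helper56.ES3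

open Cfsg.Agent.Lib.helper3 Cfsg.Agent.Lib.helper56.GL2p Matrix

section Log

variable {E : Type*} [Group E] {p : ℕ} [Fact p.Prime]

/-- discrete logarithm to the base `z`, zero outside `⟨z⟩` -/
noncomputable def zlog (p : ℕ) (z w : E) : ZMod p := by
  classical
  exact if h : w ∈ Subgroup.zpowers z then
    ((Classical.choose (Subgroup.mem_zpowers_iff.mp h) : ℤ) : ZMod p) else 0

theorem zlog_spec {z : E} (hz : orderOf z = p) {w : E} (hw : w ∈ Subgroup.zpowers z) :
    z ^ (zlog p z w).val = w := by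
  classical
  unfold zlog
  rw [dif_pos hw]
  have h := Classical.choose_spec (Subgroup.mem_zpowers_iff.mp hw)
  obtain ⟨n, hn⟩ : ∃ n, n = Classical.choose (Subgroup.mem_zpowers_iff.mp hw) := ⟨_, rfl⟩
  rw [← hn] at h ⊢
  rw [← zpow_natCast, ZMod.val_intCast]
  have e : z ^ (n % (p : ℤ)) = z ^ n := by
    have := zpow_mod_orderOf z n
    rwa [hz] at this
  rw [e, h]

theorem zlog_pow {z : E} (hz : orderOf z = p) (k : ℕ) : zlog p z (z ^ k) = (k : ZMod p) := by
  have h := zlog_spec hz (Subgroup.pow_mem _ (Subgroup.mem_zpowers z) k)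
  rw [pow_eq_pow_iff_modEq, hz] at h
  have := (ZMod.natCast_eq_natCast_iff _ _ _).mpr h
  rwa [ZMod.natCast_zmod_val] at this

theorem zlog_mul {z : E} (hz : orderOf z = p) {w₁ w₂ : E} (h₁ : w₁ ∈ Subgroup.zpowers z)
    (h₂ : w₂ ∈ Subgroup.zpowers z) :
    zlog p z (w₁ * w₂) = zlog p z w₁ + zlog p z w₂ := by
  have e₁ := zlog_spec hz h₁
  have e₂ := zlog_spec hz h₂
  have e : w₁ * w₂ = z ^ ((zlog p z w₁).val + (zlog p z w₂).val) := by rw [pow_add, e₁, e₂]
  have h := zlog_pow hz ((zlog p z w₁).val + (zlog p z w₂).val)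
  rw [← e] at h
  rw [h]
  push_cast
  rw [ZMod.natCast_zmod_val, ZMod.natCast_zmod_val]

theorem zlog_one {z : E} (hz : orderOf z = p) : zlog p z 1 = 0 := by
  simpa using zlog_pow hz 0

theorem zlog_self {z : E} (hz : orderOf z = p) : zlog p z z = 1 := by
  simpa using zlog_pow hz 1

theorem zlog_inv {z : E} (hz : orderOf z = p) {w : E} (hw : w ∈ Subgroup.zpowers z) :
    zlog p z w⁻¹ = - zlog p z w := by
  have h := zlog_mul hz hw (Subgroup.inv_mem _ hw)
  rw [mul_inv_cancel, zlog_one hz] at h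
  exact eq_neg_of_add_eq_zero_right h.symm

end Log

section ESgroup

variable {E : Type*} [Group E] {p : ℕ} [Fact p.Prime] {z x y : E}

/-- the commutator form -/
noncomputable def bform (p : ℕ) (z u v : E) : ZMod p := zlog p z ⁅u, v⁆

theorem bform_spec (hz : ESData p z) (u v : E) : ⁅u, v⁆ = z ^ (bform p z u v).val :=
  (zlog_spec hz.order (hz.comm u v)).symm

theorem bform_mul_left (hz : ESData p z) (u u' v : E) :
    bform p z (u * u') v = bform p z u v + bform p z u' v := by
  unfold bform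
  rw [hz.comm_mul_left, zlog_mul hz.order (hz.comm _ _) (hz.comm _ _)]

theorem bform_mul_right (hz : ESData p z) (u v v' : E) :
    bform p z u (v * v') = bform p z u v + bform p z u v' := by
  unfold bform
  rw [hz.comm_mul_right, zlog_mul hz.order (hz.comm _ _) (hz.comm _ _)]

theorem bform_self (hz : ESData p z) (u : E) : bform p z u u = 0 := by
  unfold bform
  rw [commutatorElement_self, zlog_one hz.order]

theorem bform_swap (hz : ESData p z) (u v : E) : bform p z v u = - bform p z u v := by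
  unfold bform
  rw [← commutatorElement_inv, zlog_inv hz.order (hz.comm _ _)]

theorem bform_central_left (hz : ESData p z) {ζ : E} (hζ : ∀ h : E, ζ * h = h * ζ) (v : E) :
    bform p z ζ v = 0 := by
  unfold bform
  rw [commutatorElement_eq_one_iff_mul_comm.mpr (hζ v), zlog_one hz.order]

theorem bform_central_right (hz : ESData p z) {ζ : E} (hζ : ∀ h : E, ζ * h = h * ζ) (v : E) :
    bform p z v ζ = 0 := by
  rw [bform_swap hz, bform_central_left hz hζ, neg_zero]

theorem bform_pow_left (hz : ESData p z) (u v : E) (k : ℕ) :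
    bform p z (u ^ k) v = (k : ZMod p) * bform p z u v := by
  induction k with
  | zero =>
    rw [pow_zero, Nat.cast_zero, zero_mul]
    exact bform_central_left hz (fun h => by rw [one_mul, mul_one]) v
  | succ k ih =>
    rw [pow_succ, bform_mul_left hz, ih]
    push_cast
    ring

/-- coordinates -/
noncomputable def coord (p : ℕ) (z x y u : E) : Fin 2 → ZMod p :=
  ![bform p z u y, bform p z x u]

theorem coord_mul (hz : ESData p z) (u v : E) :
    coord p z x y (u * v) = coord p z x y u + coord p z x y v := by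
  ext i
  fin_cases i <;> simp [coord, bform_mul_left hz, bform_mul_right hz]

theorem coord_central (hz : ESData p z) {ζ : E} (hζ : ∀ h : E, ζ * h = h * ζ) :
    coord p z x y ζ = 0 := by
  ext i
  fin_cases i <;> simp [coord, bform_central_left hz hζ, bform_central_right hz hζ]

theorem coord_one (hz : ESData p z) : coord p z x y 1 = 0 :=
  coord_central hz (fun h => by rw [one_mul, mul_one])

theorem coord_inv (hz : ESData p z) (u : E) : coord p z x y u⁻¹ = - coord p z x y u := by
  have h := coord_mul (x := x) (y := y) hz u u⁻¹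
  rw [mul_inv_cancel, coord_one hz] at h
  exact eq_neg_of_add_eq_zero_right h.symm

theorem coord_pow (hz : ESData p z) (u : E) (k : ℕ) :
    coord p z x y (u ^ k) = (k : ZMod p) • coord p z x y u := by
  induction k with
  | zero => rw [pow_zero, Nat.cast_zero, zero_smul, coord_one hz]
  | succ k ih =>
    rw [pow_succ, coord_mul hz, ih]
    push_cast
    rw [add_smul, one_smul]

theorem coord_x (hz : ESData p z) (hxy : ⁅x, y⁆ = z) : coord p z x y x = ![1, 0] := by
  ext i
  fin_cases i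
  · simp [coord, bform, hxy, zlog_self hz.order]
  · simp [coord, bform_self hz]

theorem coord_y (hz : ESData p z) (hxy : ⁅x, y⁆ = z) : coord p z x y y = ![0, 1] := by
  ext i
  fin_cases i
  · simp [coord, bform_self hz]
  · simp [coord, bform, hxy, zlog_self hz.order]

theorem coord_zpowers (hz : ESData p z) {u : E} (hu : u ∈ Subgroup.zpowers z) :
    coord p z x y u = 0 :=
  coord_central hz (fun h => by
    have := hz.zpowers_le_center hu
    exact (Subgroup.mem_center_iff.mp this h).symm)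

theorem coord_eq_zero [Finite E] (hz : ESData p z) (hxy : ⁅x, y⁆ = z) (hcard : Nat.card E = p ^ 3)
    {u : E} (h : coord p z x y u = 0) : u ∈ Subgroup.zpowers z := by
  have hpP : p.Prime := Fact.out
  have h0 : bform p z u y = 0 := by
    have := congrFun h 0
    simpa [coord] using this
  have h1 : bform p z x u = 0 := by
    have := congrFun h 1
    simpa [coord] using this
  have e0 : u * y = y * u := by
    apply commutatorElement_eq_one_iff_mul_comm.mp
    rw [bform_spec hz, h0]; simp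
  have e1 : x * u = u * x := by
    apply commutatorElement_eq_one_iff_mul_comm.mp
    rw [bform_spec hz, h1]; simp
  have hmem : u ∈ stepSub (⊤ : Subgroup E) x y := mem_stepSub.mpr ⟨Subgroup.mem_top u, e1, e0.symm⟩
  have hc := hz.step_card (C := ⊤) (Subgroup.mem_top x) (Subgroup.mem_top y) hxy
  rw [Subgroup.card_top, hcard] at hc
  have hc' : Nat.card (stepSub (⊤ : Subgroup E) x y) = p := by
    have : p ^ 2 * p = p ^ 2 * Nat.card (stepSub (⊤ : Subgroup E) x y) := by
      rw [← hc]; ring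
    exact (Nat.eq_of_mul_eq_mul_left (pow_pos hpP.pos 2) this).symm
  have hle : Subgroup.zpowers z ≤ stepSub (⊤ : Subgroup E) x y := by
    rw [Subgroup.zpowers_le]
    exact hz.mem_stepSub_z (Subgroup.mem_top z) x y
  have heq : Subgroup.zpowers z = stepSub (⊤ : Subgroup E) x y := by
    apply Subgroup.eq_of_le_of_card_ge hle
    rw [hc', Nat.card_zpowers, hz.order]
  rw [heq]
  exact hmem

theorem coord_decomp [Finite E] (hz : ESData p z) (hxy : ⁅x, y⁆ = z) (hcard : Nat.card E = p ^ 3)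
    (u : E) : ∃ ζ ∈ Subgroup.zpowers z,
      u = x ^ (coord p z x y u 0).val * y ^ (coord p z x y u 1).val * ζ := by
  refine ⟨(x ^ (coord p z x y u 0).val * y ^ (coord p z x y u 1).val)⁻¹ * u, ?_, by group⟩
  apply coord_eq_zero hz hxy hcard
  rw [coord_mul hz, coord_inv hz, coord_mul hz, coord_pow hz, coord_pow hz, coord_x hz hxy,
    coord_y hz hxy, ZMod.natCast_zmod_val, ZMod.natCast_zmod_val]
  ext i
  fin_cases i <;> simp

theorem bform_eq_cross [Finite E] (hz : ESData p z) (hxy : ⁅x, y⁆ = z)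
    (hcard : Nat.card E = p ^ 3) (u v : E) :
    bform p z u v = cross (coord p z x y u) (coord p z x y v) := by
  obtain ⟨ζ, hζ, hu⟩ := coord_decomp hz hxy hcard u
  have hζc : ∀ h : E, ζ * h = h * ζ := fun h =>
    (Subgroup.mem_center_iff.mp (hz.zpowers_le_center hζ) h).symm
  conv_lhs => rw [hu]
  rw [bform_mul_left hz, bform_mul_left hz, bform_pow_left hz, bform_pow_left hz,
    bform_central_left hz hζc, ZMod.natCast_zmod_val, ZMod.natCast_zmod_val, add_zero]
  have e1 : bform p z x v = coord p z x y v 1 := by simp [coord]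
  have e2 : bform p z y v = - coord p z x y v 0 := by
    rw [bform_swap hz]; simp [coord]
  rw [e1, e2]
  unfold cross
  ring

/-- the matrix of an automorphism -/
noncomputable def autMat (p : ℕ) (z x y : E) (φ : MulAut E) : Matrix (Fin 2) (Fin 2) (ZMod p) :=
  Matrix.of fun i j => coord p z x y (φ (![x, y] j)) i

theorem coord_aut [Finite E] (hz : ESData p z) (hxy : ⁅x, y⁆ = z) (hcard : Nat.card E = p ^ 3)
    (φ : MulAut E) (u : E) :
    coord p z x y (φ u) = autMat p z x y φ *ᵥ coord p z x y u := by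
  obtain ⟨ζ, hζ, hu⟩ := coord_decomp hz hxy hcard u
  have hζc : ∀ h : E, φ ζ * h = h * φ ζ := by
    intro h
    obtain ⟨h', rfl⟩ := φ.surjective h
    rw [← map_mul, ← map_mul]
    congr 1
    exact (Subgroup.mem_center_iff.mp (hz.zpowers_le_center hζ) h').symm
  conv_lhs => rw [hu]
  rw [map_mul, map_mul, map_pow, map_pow, coord_mul hz, coord_mul hz, coord_pow hz, coord_pow hz,
    coord_central hz hζc, ZMod.natCast_zmod_val, ZMod.natCast_zmod_val, add_zero]
  ext i
  simp [autMat, Matrix.mulVec, dotProduct, Fin.sum_univ_two]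
  ring

theorem autMat_mul [Finite E] (hz : ESData p z) (hxy : ⁅x, y⁆ = z) (hcard : Nat.card E = p ^ 3)
    (φ ψ : MulAut E) : autMat p z x y (φ * ψ) = autMat p z x y φ * autMat p z x y ψ := by
  ext i j
  have h := congrFun (coord_aut hz hxy hcard φ (ψ (![x, y] j))) i
  simp only [Matrix.mulVec, dotProduct, Fin.sum_univ_two] at h
  simp only [autMat, Matrix.of_apply, Matrix.mul_apply, Fin.sum_univ_two, MulAut.mul_apply]
  exact h

theorem autMat_one (hz : ESData p z) (hxy : ⁅x, y⁆ = z) : autMat p z x y 1 = 1 := by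
  ext i j
  fin_cases i <;> fin_cases j <;> simp [autMat, coord_x hz hxy, coord_y hz hxy]

theorem aut_z [Finite E] (hz : ESData p z) (hxy : ⁅x, y⁆ = z) (hcard : Nat.card E = p ^ 3)
    (φ : MulAut E) : φ z = z ^ (autMat p z x y φ).det.val := by
  conv_lhs => rw [← hxy]
  rw [map_commutatorElement, bform_spec hz, bform_eq_cross hz hxy hcard]
  congr 2
  simp only [cross, autMat, Matrix.det_fin_two, Matrix.of_apply]
  simp
  ring

theorem autMat_conj (hz : ESData p z) (hxy : ⁅x, y⁆ = z) (u : E) :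
    autMat p z x y (MulAut.conj u) = 1 := by
  have key : ∀ w : E, coord p z x y (u * w * u⁻¹) = coord p z x y w := by
    intro w
    rw [coord_mul hz, coord_mul hz, coord_inv hz]
    abel
  ext i j
  fin_cases i <;> fin_cases j <;>
    simp [autMat, MulAut.conj_apply, key, coord_x hz hxy, coord_y hz hxy]

/-- the matrix representation of the automorphism group -/
noncomputable def autHom [Finite E] (hz : ESData p z) (hxy : ⁅x, y⁆ = z)
    (hcard : Nat.card E = p ^ 3) : MulAut E →* Matrix (Fin 2) (Fin 2) (ZMod p) where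
  toFun := autMat p z x y
  map_one' := autMat_one hz hxy
  map_mul' := autMat_mul hz hxy hcard

end ESgroup

section Torus

variable {G : Type*} [Group G] {p : ℕ} [Fact p.Prime]

/-- the element `z ^ i * a ^ j` -/
def ev (p : ℕ) (z a : G) (v : Fin 2 → ZMod p) : G := z ^ (v 0).val * a ^ (v 1).val

/-- `g` acts on `⟨z, a⟩` by the matrix `M` -/
def Acts (p : ℕ) (z a g : G) (M : Matrix (Fin 2) (Fin 2) (ZMod p)) : Prop :=
  ∀ v : Fin 2 → ZMod p, g * ev p z a v * g⁻¹ = ev p z a (M *ᵥ v)

theorem pow_val_add {w : G} (hw : w ^ p = 1) (i j : ZMod p) :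
    w ^ (i + j).val = w ^ i.val * w ^ j.val := by
  rw [← pow_add, ZMod.val_add, ← pow_eq_pow_mod _ hw]

theorem pow_val_mul {w : G} (hw : w ^ p = 1) (i j : ZMod p) :
    w ^ (i * j).val = (w ^ j.val) ^ i.val := by
  rw [← pow_mul, ZMod.val_mul, ← pow_eq_pow_mod _ hw, mul_comm]

theorem pow_val_natCast {w : G} (hw : w ^ p = 1) (k : ℕ) : w ^ ((k : ZMod p)).val = w ^ k := by
  rw [ZMod.val_natCast, ← pow_eq_pow_mod _ hw]

theorem ev_add {z a : G} (hz : z ^ p = 1) (ha : a ^ p = 1) (hza : z * a = a * z)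
    (v w : Fin 2 → ZMod p) : ev p z a (v + w) = ev p z a v * ev p z a w := by
  unfold ev
  rw [Pi.add_apply, Pi.add_apply, pow_val_add hz, pow_val_add ha]
  have hc : Commute (z ^ (w 0).val) (a ^ (v 1).val) := (show Commute z a from hza).pow_pow _ _
  calc z ^ (v 0).val * z ^ (w 0).val * (a ^ (v 1).val * a ^ (w 1).val)
      = z ^ (v 0).val * (z ^ (w 0).val * a ^ (v 1).val) * a ^ (w 1).val := by group
    _ = z ^ (v 0).val * (a ^ (v 1).val * z ^ (w 0).val) * a ^ (w 1).val := by rw [hc.eq]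
    _ = z ^ (v 0).val * a ^ (v 1).val * (z ^ (w 0).val * a ^ (w 1).val) := by group

theorem ev_smul {z a : G} (hz : z ^ p = 1) (ha : a ^ p = 1) (hza : z * a = a * z)
    (k : ZMod p) (v : Fin 2 → ZMod p) : ev p z a (k • v) = ev p z a v ^ k.val := by
  unfold ev
  have hc : Commute (z ^ (v 0).val) (a ^ (v 1).val) := (show Commute z a from hza).pow_pow _ _
  rw [hc.mul_pow, Pi.smul_apply, Pi.smul_apply, smul_eq_mul, smul_eq_mul, pow_val_mul hz,
    pow_val_mul ha]

theorem ev_z (z a : G) : ev p z a ![1, 0] = z := by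
  simp [ev, ZMod.val_one]

theorem ev_a (z a : G) : ev p z a ![0, 1] = a := by
  simp [ev, ZMod.val_one]

theorem conj_ev (z a g : G) (v : Fin 2 → ZMod p) :
    g * ev p z a v * g⁻¹ = (g * z * g⁻¹) ^ (v 0).val * (g * a * g⁻¹) ^ (v 1).val := by
  unfold ev
  rw [conj_pow, conj_pow]
  group

theorem acts_of_images {z a g : G} (hz : z ^ p = 1) (ha : a ^ p = 1) (hza : z * a = a * z)
    {m00 m01 m10 m11 : ZMod p} (h1 : g * z * g⁻¹ = ev p z a ![m00, m10])
    (h2 : g * a * g⁻¹ = ev p z a ![m01, m11]) : Acts p z a g !![m00, m01; m10, m11] := by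
  intro v
  rw [conj_ev, h1, h2, ← ev_smul hz ha hza, ← ev_smul hz ha hza, ← ev_add hz ha hza]
  congr 1
  ext i
  fin_cases i <;> simp [Matrix.mulVec, dotProduct, Fin.sum_univ_two] <;> ring

theorem Acts.mul {z a g g' : G} {M M' : Matrix (Fin 2) (Fin 2) (ZMod p)}
    (h : Acts p z a g M) (h' : Acts p z a g' M') : Acts p z a (g * g') (M * M') := by
  intro v
  have e : g * g' * ev p z a v * (g * g')⁻¹ = g * (g' * ev p z a v * g'⁻¹) * g⁻¹ := by group
  rw [e, h', h, Matrix.mulVec_mulVec]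

theorem Acts.one (z a : G) : Acts p z a 1 1 := by
  intro v
  simp

theorem Acts.inv {z a g : G} {M M' : Matrix (Fin 2) (Fin 2) (ZMod p)}
    (h : Acts p z a g M) (hM : M * M' = 1) : Acts p z a g⁻¹ M' := by
  intro v
  have h1 := h (M' *ᵥ v)
  rw [Matrix.mulVec_mulVec, hM, Matrix.one_mulVec] at h1
  rw [← h1]
  group

theorem acts_z {z a g : G} {M : Matrix (Fin 2) (Fin 2) (ZMod p)} (h : Acts p z a g M) :
    g * z * g⁻¹ = ev p z a ![M 0 0, M 1 0] := by
  have h1 := h ![1, 0]
  rw [ev_z] at h1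
  rw [h1]
  congr 1
  ext i
  fin_cases i <;> simp [Matrix.mulVec, dotProduct, Fin.sum_univ_two]

theorem acts_a {z a g : G} {M : Matrix (Fin 2) (Fin 2) (ZMod p)} (h : Acts p z a g M) :
    g * a * g⁻¹ = ev p z a ![M 0 1, M 1 1] := by
  have h1 := h ![0, 1]
  rw [ev_a] at h1
  rw [h1]
  congr 1
  ext i
  fin_cases i <;> simp [Matrix.mulVec, dotProduct, Fin.sum_univ_two]

theorem acts_pow_upper {z a b : G} {t : ZMod p} (hb : Acts p z a b !![1, t; 0, 1]) (k : ℕ) :
    Acts p z a (b ^ k) !![1, (k : ZMod p) * t; 0, 1] := by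
  induction k with
  | zero =>
    have := Acts.one (p := p) z a
    rw [Matrix.one_fin_two] at this
    simpa using this
  | succ k ih =>
    have := ih.mul hb
    rw [Matrix.mul_fin_two] at this
    rw [pow_succ]
    convert this using 2
    simp
    ring_nf

theorem acts_pow_lower {z a y : G} {s : ZMod p} (hy : Acts p z a y !![1, 0; s, 1]) (k : ℕ) :
    Acts p z a (y ^ k) !![1, 0; (k : ZMod p) * s, 1] := by
  induction k with
  | zero =>
    have := Acts.one (p := p) z a
    rw [Matrix.one_fin_two] at this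
    simpa using this
  | succ k ih =>
    have := ih.mul hy
    rw [Matrix.mul_fin_two] at this
    rw [pow_succ]
    convert this using 2
    simp
    ring_nf

/-- two opposite transvections give the torus -/
theorem exists_torus {z a b y : G} {t s : ZMod p} (ht : t ≠ 0) (hs : s ≠ 0)
    (hb : Acts p z a b !![1, t; 0, 1]) (hy : Acts p z a y !![1, 0; s, 1]) {l : ZMod p}
    (hl : l ≠ 0) : ∃ g : G, Acts p z a g !![l, 0; 0, l⁻¹] := by
  have e₁ : (((l / t).val : ℕ) : ZMod p) * t = l := by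
    rw [ZMod.natCast_zmod_val, div_mul_cancel₀ _ ht]
  have e₂ : (((-l⁻¹ / s).val : ℕ) : ZMod p) * s = -l⁻¹ := by
    rw [ZMod.natCast_zmod_val, div_mul_cancel₀ _ hs]
  have e₃ : (((-1 / t).val : ℕ) : ZMod p) * t = -1 := by
    rw [ZMod.natCast_zmod_val, div_mul_cancel₀ _ ht]
  have e₄ : (((1 / s).val : ℕ) : ZMod p) * s = 1 := by
    rw [ZMod.natCast_zmod_val, div_mul_cancel₀ _ hs]
  have h1 := acts_pow_upper hb (l / t).val
  have h2 := acts_pow_lower hy (-l⁻¹ / s).val
  have h3 := acts_pow_upper hb (-1 / t).val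
  have h4 := acts_pow_lower hy (1 / s).val
  rw [e₁] at h1
  rw [e₂] at h2
  rw [e₃] at h3
  rw [e₄] at h4
  have h := ((h1.mul h2).mul h1).mul ((h3.mul h4).mul h3)
  have hmat : (!![1, l; 0, 1] * !![1, 0; -l⁻¹, 1] * !![1, l; 0, 1] *
      (!![1, -1; 0, 1] * !![1, 0; 1, 1] * !![1, -1; 0, 1]) : Matrix (Fin 2) (Fin 2) (ZMod p))
      = !![l, 0; 0, l⁻¹] := by
    simp only [Matrix.mul_fin_two]
    ext i j
    fin_cases i <;> fin_cases j <;> simp [hl]
  rw [hmat] at h
  exact ⟨_, h⟩

/-- the elements acting by upper unitriangular matrices -/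
def unitri (p : ℕ) [Fact p.Prime] (z a : G) : Subgroup G where
  carrier := {h | ∃ τ : ZMod p, Acts p z a h !![1, τ; 0, 1]}
  one_mem' := ⟨0, by
    have := Acts.one (p := p) z a
    rwa [Matrix.one_fin_two] at this⟩
  mul_mem' := by
    rintro h h' ⟨τ, hτ⟩ ⟨τ', hτ'⟩
    refine ⟨τ' + τ, ?_⟩
    have := hτ.mul hτ'
    rw [Matrix.mul_fin_two] at this
    simpa using this
  inv_mem' := by
    rintro h ⟨τ, hτ⟩
    refine ⟨-τ, hτ.inv ?_⟩
    rw [Matrix.mul_fin_two, Matrix.one_fin_two]
    simp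

/-- Frattini argument: the torus element can be taken in the normalizer of the Sylow subgroup -/
theorem torus_normalizer [Finite G] (P : Sylow p G) {z a : G}
    (hP : ∀ u ∈ (P : Subgroup G), ∃ τ : ZMod p, Acts p z a u !![1, τ; 0, 1])
    {g : G} {l : ZMod p} (hl : l ≠ 0) (hg : Acts p z a g !![l, 0; 0, l⁻¹]) :
    ∃ n ∈ Subgroup.normalizer ((P : Subgroup G) : Set G), ∃ τ : ZMod p,
      Acts p z a n !![l, τ; 0, l⁻¹] := by
  have hPT : (P : Subgroup G) ≤ unitri p z a := fun u hu => hP u hu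
  have hginv : Acts p z a g⁻¹ !![l⁻¹, 0; 0, l] := by
    apply hg.inv
    rw [Matrix.mul_fin_two, Matrix.one_fin_two]
    simp [hl]
  obtain ⟨Q, hQ⟩ : ∃ Q : Subgroup G, Q = (P : Subgroup G).map (MulAut.conj g).toMonoidHom :=
    ⟨_, rfl⟩
  have hQT : Q ≤ unitri p z a := by
    rw [hQ]
    rintro _ ⟨u, hu, rfl⟩
    obtain ⟨τ, hτ⟩ := hP u hu
    have h := (hg.mul hτ).mul hginv
    refine ⟨l * l * τ, ?_⟩
    show Acts p z a (g * u * g⁻¹) _
    convert h using 1
    simp only [Matrix.mul_fin_two]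
    ext i j
    fin_cases i <;> fin_cases j <;> simp <;> field_simp
  have hQp : IsPGroup p Q := by
    rw [hQ]
    exact P.isPGroup'.map _
  obtain ⟨m, hmT, hm⟩ := Cfsg.Agent.Lib.helper26.exists_conj_le_sylow_of_le P (unitri p z a) hPT
    Q hQT hQp
  obtain ⟨τ, hτ⟩ := hmT
  refine ⟨m * g, ?_, τ * l⁻¹, ?_⟩
  · apply mem_normalizer_of_conj_mem
    intro u hu
    have h1 : m * (g * u * g⁻¹) * m⁻¹ ∈ (P : Subgroup G) := by
      apply hm
      rw [hQ]
      exact ⟨u, hu, rfl⟩
    have e : m * g * u * (m * g)⁻¹ = m * (g * u * g⁻¹) * m⁻¹ := by group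
    rw [e]
    exact h1
  · have h := hτ.mul hg
    convert h using 1
    simp only [Matrix.mul_fin_two]
    ext i j
    fin_cases i <;> fin_cases j <;> simp

end Torus

section SylowCoords

variable {G : Type*} [Group G] [Finite G] {p : ℕ} [Fact p.Prime]

/-- coordinate data for an extraspecial Sylow subgroup of order `p ^ 3` -/
structure Coords (P : Sylow p G) (z₀ : ↥(P : Subgroup G))
    (c : ↥(P : Subgroup G) → Fin 2 → ZMod p)
    (ρ : ↥(Subgroup.normalizer ((P : Subgroup G) : Set G)) →* GL (Fin 2) (ZMod p)) : Prop where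
  es : ESData p z₀
  c_mul : ∀ u v, c (u * v) = c u + c v
  c_zero : ∀ u, c u = 0 ↔ u ∈ Subgroup.zpowers z₀
  c_surj : Function.Surjective c
  comm : ∀ u v, ⁅u, v⁆ = z₀ ^ (cross (c u) (c v)).val
  act : ∀ (n : ↥(Subgroup.normalizer ((P : Subgroup G) : Set G))) (u u' : ↥(P : Subgroup G)),
    (u' : G) = n * u * (n : G)⁻¹ → c u' = (ρ n : Matrix (Fin 2) (Fin 2) (ZMod p)) *ᵥ c u
  det : ∀ (n : ↥(Subgroup.normalizer ((P : Subgroup G) : Set G))),
    (n : G) * z₀ * (n : G)⁻¹
      = (z₀ : G) ^ (Matrix.det (ρ n : Matrix (Fin 2) (Fin 2) (ZMod p))).val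
  card : ¬ p ∣ Nat.card ρ.range

theorem exists_coords (P : Sylow p G) (hE : Cfsg.IsExtraspecial p ↥(P : Subgroup G))
    (hcard : Nat.card ↥(P : Subgroup G) = p ^ 3) : ∃ z₀ c ρ, Coords P z₀ c ρ := by
  have hpP : p.Prime := Fact.out
  obtain ⟨z₀, hz⟩ := exists_esdata hE
  have hnab : ¬ ∀ a ∈ (⊤ : Subgroup ↥(P : Subgroup G)), ∀ b ∈ (⊤ : Subgroup ↥(P : Subgroup G)),
      a * b = b * a := by
    intro hab
    have htop : Subgroup.center ↥(P : Subgroup G) = ⊤ := by
      rw [Subgroup.eq_top_iff']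
      intro g
      rw [Subgroup.mem_center_iff]
      intro h
      exact hab h (Subgroup.mem_top h) g (Subgroup.mem_top g)
    have h1 := hE.2
    rw [htop, Subgroup.card_top, hcard] at h1
    have h2 : p ^ 3 = p ^ 1 := by rw [h1, pow_one]
    have := Nat.pow_right_injective hpP.two_le h2
    omega
  obtain ⟨x, -, y, -, hxy⟩ := hz.exists_pair (C := ⊤) hnab
  obtain ⟨ρ, hρ⟩ : ∃ ρ : ↥(Subgroup.normalizer ((P : Subgroup G) : Set G)) →* GL (Fin 2) (ZMod p),
      ∀ n, (ρ n : Matrix (Fin 2) (Fin 2) (ZMod p))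
        = autMat p z₀ x y (Subgroup.normalizerMonoidHom (P : Subgroup G) n) :=
    ⟨(autHom hz hxy hcard).toHomUnits.comp (Subgroup.normalizerMonoidHom (P : Subgroup G)),
      fun n => rfl⟩
  refine ⟨z₀, coord p z₀ x y, ρ, ?_⟩
  constructor
  · exact hz
  · exact coord_mul hz
  · intro u
    exact ⟨coord_eq_zero hz hxy hcard, coord_zpowers hz⟩
  · intro v
    refine ⟨x ^ (v 0).val * y ^ (v 1).val, ?_⟩
    rw [coord_mul hz, coord_pow hz, coord_pow hz, coord_x hz hxy, coord_y hz hxy,
      ZMod.natCast_zmod_val, ZMod.natCast_zmod_val]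
    ext i
    fin_cases i <;> simp
  · intro u v
    rw [bform_spec hz, bform_eq_cross hz hxy hcard]
  · intro n u u' hu'
    have e : (Subgroup.normalizerMonoidHom (P : Subgroup G) n) u = u' :=
      Subtype.ext (by rw [hu']; rfl)
    rw [← e, hρ]
    exact coord_aut hz hxy hcard _ u
  · intro n
    have h := aut_z hz hxy hcard (Subgroup.normalizerMonoidHom (P : Subgroup G) n)
    have h' := congrArg Subtype.val h
    rw [hρ]
    rw [Subgroup.coe_pow] at h'
    rw [← h']
    rfl
  · -- the image is a `p'`-group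
    have hle : (P : Subgroup G).subgroupOf (Subgroup.normalizer ((P : Subgroup G) : Set G))
        ≤ ρ.ker := by
      intro n hn
      rw [MonoidHom.mem_ker]
      apply Units.ext
      rw [hρ]
      have hn' : (n : G) ∈ (P : Subgroup G) := hn
      have e : Subgroup.normalizerMonoidHom (P : Subgroup G) n = MulAut.conj ⟨(n : G), hn'⟩ := by
        ext u
        rfl
      rw [e, autMat_conj hz hxy]
      rfl
    have h1 := Subgroup.index_dvd_of_le hle
    rw [Subgroup.index_ker] at h1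
    have h2 : (P : Subgroup G).relIndex (Subgroup.normalizer ((P : Subgroup G) : Set G))
        ∣ (P : Subgroup G).index :=
      Dvd.intro _ (Subgroup.relIndex_mul_index Subgroup.le_normalizer)
    intro hdvd
    exact P.not_dvd_index (dvd_trans hdvd (dvd_trans h1 h2))

theorem Coords.c_one {P : Sylow p G} {z₀ : ↥(P : Subgroup G)}
    {c : ↥(P : Subgroup G) → Fin 2 → ZMod p}
    {ρ : ↥(Subgroup.normalizer ((P : Subgroup G) : Set G)) →* GL (Fin 2) (ZMod p)}
    (h : Coords P z₀ c ρ) : c 1 = 0 := by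
  have h1 := h.c_mul 1 1
  rw [mul_one] at h1
  exact left_eq_add.mp h1

theorem Coords.c_pow {P : Sylow p G} {z₀ : ↥(P : Subgroup G)}
    {c : ↥(P : Subgroup G) → Fin 2 → ZMod p}
    {ρ : ↥(Subgroup.normalizer ((P : Subgroup G) : Set G)) →* GL (Fin 2) (ZMod p)}
    (h : Coords P z₀ c ρ) (u : ↥(P : Subgroup G)) (k : ℕ) : c (u ^ k) = (k : ZMod p) • c u := by
  induction k with
  | zero => rw [pow_zero, Nat.cast_zero, zero_smul, h.c_one]
  | succ k ih =>
    rw [pow_succ, h.c_mul, ih]
    push_cast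
    rw [add_smul, one_smul]

theorem Coords.exists_cross_ne {P : Sylow p G} {z₀ : ↥(P : Subgroup G)}
    {c : ↥(P : Subgroup G) → Fin 2 → ZMod p}
    {ρ : ↥(Subgroup.normalizer ((P : Subgroup G) : Set G)) →* GL (Fin 2) (ZMod p)}
    (h : Coords P z₀ c ρ) {w : Fin 2 → ZMod p} (hw : w ≠ 0) :
    ∃ b : ↥(P : Subgroup G), cross (c b) w ≠ 0 := by
  by_cases h1 : w 1 = 0
  · have h0 : w 0 ≠ 0 := by
      intro h0
      apply hw
      ext i
      fin_cases i <;> simp [h0, h1]
    obtain ⟨b₀, hb₀⟩ := h.c_surj ![0, 1]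
    refine ⟨b₀, ?_⟩
    rw [hb₀]
    simp [cross, h0]
  · obtain ⟨b₀, hb₀⟩ := h.c_surj ![1, 0]
    refine ⟨b₀, ?_⟩
    rw [hb₀]
    simp [cross, h1]

/-- an element of `P` acts on `⟨z₀, a⟩` by a transvection -/
theorem Coords.acts_sylow {P : Sylow p G} {z₀ : ↥(P : Subgroup G)}
    {c : ↥(P : Subgroup G) → Fin 2 → ZMod p}
    {ρ : ↥(Subgroup.normalizer ((P : Subgroup G) : Set G)) →* GL (Fin 2) (ZMod p)}
    (h : Coords P z₀ c ρ) (hexp : ∀ u : ↥(P : Subgroup G), u ^ p = 1)
    (a u : ↥(P : Subgroup G)) :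
    Acts p (z₀ : G) (a : G) (u : G) !![1, cross (c u) (c a); 0, 1] := by
  have hz : (z₀ : G) ^ p = 1 := by
    have := congrArg Subtype.val (hexp z₀)
    simpa using this
  have ha' : (a : G) ^ p = 1 := by
    have := congrArg Subtype.val (hexp a)
    simpa using this
  have hza : (z₀ : G) * a = a * z₀ := by
    have := congrArg Subtype.val (h.es.central a)
    simpa using this.symm
  apply acts_of_images hz ha' hza
  · rw [ev_z]
    have e : (u : G) * z₀ = z₀ * u := by
      have := congrArg Subtype.val (h.es.central u)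
      simpa using this
    rw [e]
    group
  · have hc := congrArg Subtype.val (h.comm u a)
    rw [commutatorElement_def] at hc
    simp only [Subgroup.coe_mul, Subgroup.coe_inv, Subgroup.coe_pow] at hc
    unfold ev
    simp only [Matrix.cons_val_zero, Matrix.cons_val_one, ZMod.val_one, pow_one]
    rw [← hc]
    group

/-- **the torus element**: a transvection of `⟨z₀, a⟩` opposite to the one coming from `P` gives
an element of the normalizer of `P` with eigenvalue `l⁻¹` on the line of `a` and determinant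
`l`. -/
theorem Coords.eigen {P : Sylow p G} {z₀ : ↥(P : Subgroup G)}
    {c : ↥(P : Subgroup G) → Fin 2 → ZMod p}
    {ρ : ↥(Subgroup.normalizer ((P : Subgroup G) : Set G)) →* GL (Fin 2) (ZMod p)}
    (h : Coords P z₀ c ρ) (hexp : ∀ u : ↥(P : Subgroup G), u ^ p = 1)
    {a : ↥(P : Subgroup G)} (ha : c a ≠ 0) {y : G} {s : ZMod p} (hs : s ≠ 0)
    (hy : Acts p (z₀ : G) (a : G) y !![1, 0; s, 1]) {l : ZMod p} (hl : l ≠ 0) :
    ∃ n : ↥(Subgroup.normalizer ((P : Subgroup G) : Set G)),
      (ρ n : Matrix (Fin 2) (Fin 2) (ZMod p)) *ᵥ c a = l⁻¹ • c a ∧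
      Matrix.det (ρ n : Matrix (Fin 2) (Fin 2) (ZMod p)) = l := by
  have hpP : p.Prime := Fact.out
  have hP : ∀ u ∈ (P : Subgroup G), ∃ τ : ZMod p, Acts p (z₀ : G) (a : G) u !![1, τ; 0, 1] :=
    fun u hu => ⟨_, h.acts_sylow hexp a ⟨u, hu⟩⟩
  obtain ⟨b₀, hb₀⟩ : ∃ b₀ : ↥(P : Subgroup G), cross (c b₀) (c a) ≠ 0 := by
    by_cases h1 : c a 1 = 0
    · have h0 : c a 0 ≠ 0 := by
        intro h0
        apply ha
        ext i
        fin_cases i <;> simp [h0, h1]
      obtain ⟨b₀, hb₀⟩ := h.c_surj ![0, 1]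
      refine ⟨b₀, ?_⟩
      rw [hb₀]
      simp [cross, h0]
    · obtain ⟨b₀, hb₀⟩ := h.c_surj ![1, 0]
      refine ⟨b₀, ?_⟩
      rw [hb₀]
      simp [cross, h1]
  obtain ⟨g, hg⟩ := exists_torus hb₀ hs (h.acts_sylow hexp a b₀) hy hl
  obtain ⟨n, hn, τ, hτ⟩ := torus_normalizer P hP hl hg
  refine ⟨⟨n, hn⟩, ?_, ?_⟩
  · have e1 := acts_a hτ
    have hmem : n * (a : G) * n⁻¹ ∈ (P : Subgroup G) :=
      (Subgroup.mem_normalizer_iff.mp hn a).mp a.2
    have e2 := h.act ⟨n, hn⟩ a ⟨n * a * n⁻¹, hmem⟩ rfl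
    rw [← e2]
    have e3 : (⟨n * a * n⁻¹, hmem⟩ : ↥(P : Subgroup G)) = z₀ ^ τ.val * a ^ (l⁻¹).val := by
      apply Subtype.ext
      show n * (a : G) * n⁻¹ = _
      rw [e1]
      simp [ev]
    rw [e3, h.c_mul, h.c_pow, h.c_pow, (h.c_zero z₀).mpr (Subgroup.mem_zpowers z₀), smul_zero,
      zero_add, ZMod.natCast_zmod_val]
  · have e1 := acts_z hτ
    have e2 := h.det ⟨n, hn⟩
    have e3 : (z₀ : G) ^ l.val
        = (z₀ : G) ^ (Matrix.det (ρ ⟨n, hn⟩ : Matrix (Fin 2) (Fin 2) (ZMod p))).val := by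
      rw [← e2]
      show _ = n * (z₀ : G) * n⁻¹
      rw [e1]
      simp [ev]
    have ho : orderOf (z₀ : G) = p := by
      rw [Subgroup.orderOf_coe]
      exact h.es.order
    rw [pow_eq_pow_iff_modEq, ho] at e3
    have e4 := Nat.ModEq.eq_of_lt_of_lt e3 (ZMod.val_lt _) (ZMod.val_lt _)
    exact (ZMod.val_injective p e4).symm

end SylowCoords

theorem exists_primitive_root (p : ℕ) [Fact p.Prime] :
    ∃ l : ZMod p, l ≠ 0 ∧ ∀ k : ℕ, l ^ k = 1 → (p - 1) ∣ k := by
  obtain ⟨u, hu⟩ := IsCyclic.exists_generator (α := (ZMod p)ˣ)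
  refine ⟨(u : ZMod p), u.ne_zero, fun k hk => ?_⟩
  have h1 : u ^ k = 1 := Units.ext (by simpa using hk)
  have h2 := orderOf_dvd_of_pow_eq_one h1
  have h3 : orderOf u = p - 1 := by
    rw [orderOf_eq_card_of_forall_mem_zpowers hu, Nat.card_eq_fintype_card, ZMod.card_units]
  rwa [h3] at h2

end Cfsg.Agent.Lib.helper56.ES3
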