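import Mathlib
import Cfsg.Agent.Lib.helper56.ES3

set_option autoImplicit false
open scoped commutatorElement

/-!
Subgroups of order `p ^ 2` of an extraspecial Sylow subgroup of order `p ^ 3`, and the
transvection automorphism of a parametrized plane.
-/

namespace Cfsg.Agent.Lib.helper56.ES3

open Cfsg.Agent.Lib.helper3 Cfsg.Agent.Lib.helper56.GL2p Matrix

section Param

variable {G : Type*} [Group G] {p : ℕ} [Fact p.Prime]

/-- a parametrized plane has an automorphism of order `p` acting as a lower transvection -/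
theorem exists_aut_of_param {A : Subgroup G} (e : (Fin 2 → ZMod p) → G)
    (he_add : ∀ v w, e (v + w) = e v * e w) (he_inj : Function.Injective e)
    (he_mem : ∀ v, e v ∈ A) (he_surj : ∀ u ∈ A, ∃ v, e v = u) :
    ∃ φ : MulAut ↥A, orderOf φ = p ∧
      ∀ v, (φ ⟨e v, he_mem v⟩ : G) = e (!![1, 0; 1, 1] *ᵥ v) := by
  have hpP : p.Prime := Fact.out
  obtain ⟨E, hE⟩ : ∃ E : (Fin 2 → ZMod p) ≃ ↥A, ∀ v, E v = ⟨e v, he_mem v⟩ :=
    ⟨Equiv.ofBijective (fun v => ⟨e v, he_mem v⟩)
      ⟨fun v w hvw => he_inj (congrArg Subtype.val hvw), fun u => by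
        obtain ⟨v, hv⟩ := he_surj u.1 u.2
        exact ⟨v, Subtype.ext hv⟩⟩, fun v => rfl⟩
  have hEadd : ∀ v w, E (v + w) = E v * E w := fun v w => by
    rw [hE, hE, hE]
    exact Subtype.ext (he_add v w)
  have hEsymm : ∀ u u' : ↥A, E.symm (u * u') = E.symm u + E.symm u' := by
    intro u u'
    apply E.injective
    rw [hEadd, E.apply_symm_apply, E.apply_symm_apply, E.apply_symm_apply]
  obtain ⟨L, hL⟩ : ∃ L : Matrix (Fin 2) (Fin 2) (ZMod p), L = !![1, 0; 1, 1] := ⟨_, rfl⟩
  obtain ⟨L', hL'⟩ : ∃ L' : Matrix (Fin 2) (Fin 2) (ZMod p), L' = !![1, 0; -1, 1] := ⟨_, rfl⟩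
  have hLL' : L * L' = 1 := by
    rw [hL, hL', Matrix.mul_fin_two, Matrix.one_fin_two]
    simp
  have hL'L : L' * L = 1 := by
    rw [hL, hL', Matrix.mul_fin_two, Matrix.one_fin_two]
    simp
  obtain ⟨φ, hφ⟩ : ∃ φ : MulAut ↥A, ∀ u, φ u = E (L *ᵥ E.symm u) :=
    ⟨{ toFun := fun u => E (L *ᵥ E.symm u)
       invFun := fun u => E (L' *ᵥ E.symm u)
       left_inv := fun u => by
         simp only [E.symm_apply_apply, Matrix.mulVec_mulVec, hL'L, Matrix.one_mulVec,
           E.apply_symm_apply]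
       right_inv := fun u => by
         simp only [E.symm_apply_apply, Matrix.mulVec_mulVec, hLL', Matrix.one_mulVec,
           E.apply_symm_apply]
       map_mul' := fun u u' => by
         rw [hEsymm, Matrix.mulVec_add, hEadd] }, fun u => rfl⟩
  have hpow : ∀ k : ℕ, ∀ u, (φ ^ k) u = E ((L ^ k) *ᵥ E.symm u) := by
    intro k
    induction k with
    | zero =>
      intro u
      rw [pow_zero, pow_zero, Matrix.one_mulVec, E.apply_symm_apply]
      rfl
    | succ k ih =>
      intro u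
      rw [pow_succ', MulAut.mul_apply, ih, hφ, E.symm_apply_apply, Matrix.mulVec_mulVec,
        ← pow_succ']
  have hLk : ∀ k : ℕ, L ^ k = !![1, 0; (k : ZMod p), 1] := by
    intro k
    induction k with
    | zero => simp [Matrix.one_fin_two]
    | succ k ih =>
      rw [pow_succ, ih, hL, Matrix.mul_fin_two]
      simp
  refine ⟨φ, ?_, fun v => ?_⟩
  · apply orderOf_eq_prime
    · ext u
      rw [hpow, hLk, CharP.cast_eq_zero, ← Matrix.one_fin_two, Matrix.one_mulVec,
        E.apply_symm_apply]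
      rfl
    · intro h1
      have h2 : φ (E ![1, 0]) = E ![1, 0] := by rw [h1]; rfl
      rw [hφ, E.symm_apply_apply] at h2
      have h3 := E.injective h2
      have h4 := congrFun h3 1
      rw [hL] at h4
      simp [Matrix.mulVec, dotProduct, Fin.sum_univ_two] at h4
  · rw [← hE, hφ, E.symm_apply_apply, hE, hL]

end Param

section Plane

variable {G : Type*} [Group G] [Finite G] {p : ℕ} [Fact p.Prime]

theorem Coords.ev_injective {P : Sylow p G} {z₀ : ↥(P : Subgroup G)}
    {c : ↥(P : Subgroup G) → Fin 2 → ZMod p}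
    {ρ : ↥(Subgroup.normalizer ((P : Subgroup G) : Set G)) →* GL (Fin 2) (ZMod p)}
    (h : Coords P z₀ c ρ) {a : ↥(P : Subgroup G)} (hca : c a ≠ 0) :
    Function.Injective (ev p (z₀ : G) (a : G)) := by
  intro v w hvw
  have hz0 : c z₀ = 0 := (h.c_zero z₀).mpr (Subgroup.mem_zpowers z₀)
  have e1 : z₀ ^ (v 0).val * a ^ (v 1).val = z₀ ^ (w 0).val * a ^ (w 1).val :=
    Subtype.ext (by simpa [ev] using hvw)
  have e2 := congrArg c e1
  rw [h.c_mul, h.c_mul, h.c_pow, h.c_pow, h.c_pow, h.c_pow, hz0, smul_zero, smul_zero, zero_add,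
    zero_add, ZMod.natCast_zmod_val, ZMod.natCast_zmod_val] at e2
  have e3 : (v 1 - w 1) • c a = 0 := by rw [sub_smul, e2, sub_self]
  have h1 : v 1 = w 1 := by
    rcases smul_eq_zero.mp e3 with h4 | h4
    · exact sub_eq_zero.mp h4
    · exact absurd h4 hca
  rw [h1] at e1
  have e4 := mul_right_cancel e1
  have h0 : v 0 = w 0 :=
    ZMod.val_injective p (h.es.pow_inj (ZMod.val_lt _) (ZMod.val_lt _) e4)
  ext i
  fin_cases i
  · exact h0
  · exact h1

/-- a subgroup of order `p ^ 2` of `P` contains the centre and is `⟨z₀, a⟩` for each of its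
noncentral elements `a` -/
theorem Coords.plane {P : Sylow p G} {z₀ : ↥(P : Subgroup G)}
    {c : ↥(P : Subgroup G) → Fin 2 → ZMod p}
    {ρ : ↥(Subgroup.normalizer ((P : Subgroup G) : Set G)) →* GL (Fin 2) (ZMod p)}
    (h : Coords P z₀ c ρ) (hexp : ∀ u : ↥(P : Subgroup G), u ^ p = 1)
    {A : Subgroup G} (hAP : A ≤ (P : Subgroup G)) (hAcard : Nat.card A = p ^ 2) :
    ∃ a : ↥(P : Subgroup G), (a : G) ∈ A ∧ c a ≠ 0 ∧ (z₀ : G) ∈ A ∧
      ∀ u ∈ A, ∃ v : Fin 2 → ZMod p, ev p (z₀ : G) (a : G) v = u := by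
  have hpP : p.Prime := Fact.out
  have hlt : p < p ^ 2 := by nlinarith [hpP.two_le]
  have ho : orderOf (z₀ : G) = p := by
    rw [Subgroup.orderOf_coe]
    exact h.es.order
  have hz : (z₀ : G) ^ p = 1 := by
    have := congrArg Subtype.val (hexp z₀)
    simpa using this
  obtain ⟨a, haA, hca⟩ : ∃ a : ↥(P : Subgroup G), (a : G) ∈ A ∧ c a ≠ 0 := by
    by_contra hcon
    push Not at hcon
    have hle : A ≤ Subgroup.zpowers (z₀ : G) := by
      intro g hg
      have h0 := hcon ⟨g, hAP hg⟩ hg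
      obtain ⟨m, -, hm⟩ := h.es.exists_lt_pow_eq ((h.c_zero _).mp h0)
      have hm' := congrArg Subtype.val hm
      rw [Subgroup.coe_pow] at hm'
      have hm'' : (z₀ : G) ^ m = g := hm'
      rw [← hm'']
      exact Subgroup.pow_mem _ (Subgroup.mem_zpowers _) m
    have := Subgroup.card_le_of_le hle
    rw [hAcard, Nat.card_zpowers, ho] at this
    omega
  have ha' : (a : G) ^ p = 1 := by
    have := congrArg Subtype.val (hexp a)
    simpa using this
  have hab : ∀ u v : ↥A, u * v = v * u :=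
    (IsPGroup.isMulCommutative_of_card_eq_prime_sq hAcard).is_comm.comm
  have hS : ∀ u ∈ A, ∃ m : ℕ, ∃ μ : ZMod p, u = (z₀ : G) ^ m * (a : G) ^ μ.val := by
    intro u hu
    have hcomm : (⟨u, hAP hu⟩ : ↥(P : Subgroup G)) * a = a * ⟨u, hAP hu⟩ := by
      have := congrArg Subtype.val (hab ⟨u, hu⟩ ⟨a, haA⟩)
      exact Subtype.ext this
    have h1 := h.comm ⟨u, hAP hu⟩ a
    rw [commutatorElement_eq_one_iff_mul_comm.mpr hcomm] at h1
    have hcross : cross (c ⟨u, hAP hu⟩) (c a) = 0 := by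
      have h2 := h.es.pow_inj (ZMod.val_lt _) hpP.pos
        (a := (cross (c ⟨u, hAP hu⟩) (c a)).val) (b := 0) (by rw [pow_zero]; exact h1.symm)
      exact (ZMod.val_eq_zero _).mp h2
    obtain ⟨μ, hμ⟩ := exists_smul_of_cross_eq_zero hca hcross
    have h0 : c (⟨u, hAP hu⟩ * a ^ (-μ).val) = 0 := by
      rw [h.c_mul, h.c_pow, ZMod.natCast_zmod_val, hμ, neg_smul, add_neg_cancel]
    obtain ⟨m, -, hm⟩ := h.es.exists_lt_pow_eq ((h.c_zero _).mp h0)
    have hm' : (z₀ : G) ^ m = u * (a : G) ^ (-μ).val := by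
      have := congrArg Subtype.val hm
      simpa using this
    refine ⟨m, μ, ?_⟩
    rw [hm', mul_assoc, ← pow_val_add ha', neg_add_cancel, ZMod.val_zero, pow_zero, mul_one]
  have hzA : (z₀ : G) ∈ A := by
    by_contra hzA
    have hle : A ≤ Subgroup.zpowers (a : G) := by
      intro u hu
      obtain ⟨m, μ, hmu⟩ := hS u hu
      have hzm : (z₀ : G) ^ m ∈ A := by
        have : (z₀ : G) ^ m = u * ((a : G) ^ μ.val)⁻¹ := by rw [hmu]; group
        rw [this]
        exact A.mul_mem hu (A.inv_mem (A.pow_mem haA _))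
      have hz1 : (z₀ : G) ^ m = 1 := by
        by_contra hne
        apply hzA
        have hcop : Nat.Coprime m (orderOf (z₀ : G)) := by
          rw [ho, Nat.coprime_comm, Nat.Prime.coprime_iff_not_dvd hpP]
          intro hdvd
          apply hne
          obtain ⟨k, rfl⟩ := hdvd
          rw [pow_mul, hz, one_pow]
        obtain ⟨m', hm'⟩ := exists_pow_eq_self_of_coprime hcop
        rw [← hm']
        exact A.pow_mem hzm m'
      rw [hmu, hz1, one_mul]
      exact Subgroup.pow_mem _ (Subgroup.mem_zpowers _) _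
    have hcard_le := Subgroup.card_le_of_le hle
    rw [hAcard, Nat.card_zpowers] at hcard_le
    have : orderOf (a : G) ≤ p := Nat.le_of_dvd hpP.pos (orderOf_dvd_of_pow_eq_one ha')
    omega
  refine ⟨a, haA, hca, hzA, fun u hu => ?_⟩
  obtain ⟨m, μ, hmu⟩ := hS u hu
  refine ⟨![(m : ZMod p), μ], ?_⟩
  unfold ev
  simp only [Matrix.cons_val_zero, Matrix.cons_val_one]
  rw [pow_val_natCast hz, ← hmu]

end Plane

end Cfsg.Agent.Lib.helper56.ES3
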