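import Mathlib
import Cfsg.Prelude.Def_Classical
import Cfsg.Prelude.Def_GeometricClasses
import Cfsg.Agent.Lib.helper30.FeCOMM
import Cfsg.Agent.Lib.helper37.FeEVEN

/-!
Piece CRIT (`fe_crit`) of block [B] of S5977 / S5978.
-/

set_option autoImplicit false

namespace Cfsg.Agent.Lib.helper96.FE

open Polynomial Matrix

theorem helper56_fe_commute_aeval {F : Type*} [Field F] {A : Type*} [Ring A] [Algebra F A]
    (k y : A) (h : k * y = y * k) (f : F[X]) : k * aeval y f = aeval y f * k := by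
  induction f using Polynomial.induction_on' with
  | add p q hp hq => rw [map_add, mul_add, add_mul, hp, hq]
  | monomial n a =>
    rw [aeval_monomial]
    have h1 : k * y ^ n = y ^ n * k := by
      induction n with
      | zero => simp
      | succ n ih => rw [pow_succ, ← mul_assoc, ih, mul_assoc, h, mul_assoc]
    rw [← mul_assoc, ← Algebra.commutes a k, mul_assoc, h1, mul_assoc]

theorem helper56_fe_aeval_conj {F : Type*} [Field F] {A : Type*} [Ring A] [Algebra F A]
    (u v x : A) (huv : u * v = 1) (hvu : v * u = 1) (f : F[X]) :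
    aeval (v * x * u) f = v * aeval x f * u := by
  induction f using Polynomial.induction_on' with
  | add p q hp hq => rw [map_add, map_add, hp, hq, mul_add, add_mul]
  | monomial n a =>
    rw [aeval_monomial, aeval_monomial]
    have h1 : (v * x * u) ^ n = v * x ^ n * u := by
      induction n with
      | zero => simp [hvu]
      | succ n ih =>
        rw [pow_succ, ih, pow_succ]
        calc v * x ^ n * u * (v * x * u) = v * x ^ n * (u * v) * x * u := by
              simp only [mul_assoc]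
          _ = v * (x ^ n * x) * u := by rw [huv]; simp only [mul_assoc, mul_one]
    rw [h1, Algebra.left_comm, mul_assoc (algebraMap F A a)]

/-- CRIT (M; uses COMM, EVEN): odd-dimensional polynomial kernel => no conjugate normalizes `K`. -/
theorem fe_crit {F : Type*} [Field F] {ι : Type} [Fintype ι] [DecidableEq ι]
    (K : Subalgebra F (Matrix ι ι F)) (hK : Cfsg.Geo.IsFieldSubalgebra 2 K)
    (x : GL ι F) (r : ℕ) (hr : Odd r)
    (hxr : ∃ z : F, ((x ^ r : GL ι F) : Matrix ι ι F) = z • (1 : Matrix ι ι F))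
    (f : F[X])
    (hf : Odd (Module.finrank F (LinearMap.ker (aeval (Matrix.toLin' (x : Matrix ι ι F)) f))))
    (g : GL ι F) : g⁻¹ * x * g ∉ Cfsg.Geo.subalgebraNormalizer K := by
  intro hy
  obtain ⟨z, hz⟩ := hxr
  have hgg : (g : Matrix ι ι F) * ((g⁻¹ : GL ι F) : Matrix ι ι F) = 1 := by
    rw [← Units.val_mul, mul_inv_cancel]; rfl
  have hgg' : ((g⁻¹ : GL ι F) : Matrix ι ι F) * (g : Matrix ι ι F) = 1 := by
    rw [← Units.val_mul, inv_mul_cancel]; rfl
  have hyr : ∃ z : F, (((g⁻¹ * x * g) ^ r : GL ι F) : Matrix ι ι F) = z • (1 : Matrix ι ι F) := by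
    refine ⟨z, ?_⟩
    have h1 : (g⁻¹ * x * g) ^ r = g⁻¹ * x ^ r * g := by
      have := conj_pow (i := r) (a := g⁻¹) (b := x)
      simpa using this
    rw [h1, Units.val_mul, Units.val_mul, hz, Matrix.mul_smul, Matrix.smul_mul, Matrix.mul_one, hgg']
  have hcomm := fe_comm K hK (g⁻¹ * x * g) hy r hr hyr
  have hYeq : ((g⁻¹ * x * g : GL ι F) : Matrix ι ι F) =
      ((g⁻¹ : GL ι F) : Matrix ι ι F) * (x : Matrix ι ι F) * (g : Matrix ι ι F) := by
    rw [Units.val_mul, Units.val_mul]
  rw [hYeq] at hcomm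
  have hfY : aeval (((g⁻¹ : GL ι F) : Matrix ι ι F) * (x : Matrix ι ι F) * (g : Matrix ι ι F)) f =
      ((g⁻¹ : GL ι F) : Matrix ι ι F) * aeval (x : Matrix ι ι F) f * (g : Matrix ι ι F) :=
    helper56_fe_aeval_conj _ _ _ hgg hgg' f
  have htl : ∀ M : Matrix ι ι F, aeval (Matrix.toLin' M) f = Matrix.toLin' (aeval M f) := by
    intro M
    exact Polynomial.aeval_algHom_apply (Matrix.toLinAlgEquiv' (R := F) (n := ι)) M f
  have hWK : ∀ k ∈ K, ∀ w ∈ LinearMap.ker (aeval (Matrix.toLin'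
      (((g⁻¹ : GL ι F) : Matrix ι ι F) * (x : Matrix ι ι F) * (g : Matrix ι ι F))) f),
      Matrix.mulVec k w ∈ LinearMap.ker (aeval (Matrix.toLin'
      (((g⁻¹ : GL ι F) : Matrix ι ι F) * (x : Matrix ι ι F) * (g : Matrix ι ι F))) f) := by
    intro k hk w hw
    rw [LinearMap.mem_ker, htl, Matrix.toLin'_apply] at hw ⊢
    have hc := helper56_fe_commute_aeval k _ (hcomm k hk).symm f
    rw [Matrix.mulVec_mulVec, ← hc, ← Matrix.mulVec_mulVec, hw, Matrix.mulVec_zero]
  have heven := fe_even K hK _ hWK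
  have hfin : Module.finrank F (LinearMap.ker (aeval (Matrix.toLin'
      (((g⁻¹ : GL ι F) : Matrix ι ι F) * (x : Matrix ι ι F) * (g : Matrix ι ι F))) f)) =
      Module.finrank F (LinearMap.ker (aeval (Matrix.toLin' (x : Matrix ι ι F)) f)) := by
    have hWc : LinearMap.ker (aeval (Matrix.toLin'
        (((g⁻¹ : GL ι F) : Matrix ι ι F) * (x : Matrix ι ι F) * (g : Matrix ι ι F))) f) =
        (LinearMap.ker (aeval (Matrix.toLin' (x : Matrix ι ι F)) f)).comap
          ((Matrix.toLin'OfInv hgg' hgg : (ι → F) ≃ₗ[F] (ι → F)) : (ι → F) →ₗ[F] (ι → F)) := by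
      ext v
      have e1 : (((g⁻¹ : GL ι F) : Matrix ι ι F) * aeval (x : Matrix ι ι F) f *
          (g : Matrix ι ι F)) *ᵥ v = ((g⁻¹ : GL ι F) : Matrix ι ι F) *ᵥ
          (aeval (x : Matrix ι ι F) f *ᵥ ((g : Matrix ι ι F) *ᵥ v)) := by
        simp only [Matrix.mulVec_mulVec, mul_assoc]
      have e2 : (Matrix.toLin'OfInv hgg' hgg : (ι → F) ≃ₗ[F] (ι → F)) v =
          (g : Matrix ι ι F) *ᵥ v := rfl
      rw [LinearMap.mem_ker, Submodule.mem_comap, LinearMap.mem_ker, htl, htl, hfY,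
        Matrix.toLin'_apply, LinearEquiv.coe_coe, e2, Matrix.toLin'_apply]
      constructor
      · intro h
        have h3 : aeval (x : Matrix ι ι F) f *ᵥ ((g : Matrix ι ι F) *ᵥ v) =
            (g : Matrix ι ι F) *ᵥ (((g⁻¹ : GL ι F) : Matrix ι ι F) *ᵥ
              (aeval (x : Matrix ι ι F) f *ᵥ ((g : Matrix ι ι F) *ᵥ v))) := by
          rw [Matrix.mulVec_mulVec (v := aeval (x : Matrix ι ι F) f *ᵥ ((g : Matrix ι ι F) *ᵥ v)),
            hgg, Matrix.one_mulVec]
        rw [h3, ← e1, h, Matrix.mulVec_zero]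
      · intro h
        rw [e1, h, Matrix.mulVec_zero]
    rw [hWc]
    exact (LinearEquiv.ofSubmodule' _ _).finrank_eq
  rw [hfin] at heven
  exact (Nat.not_even_iff_odd.2 hf) heven

end Cfsg.Agent.Lib.helper96.FE
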