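import Cfsg.Agent.Lib.helper3.GfHeis

/-!
Piece HCOV1 (`hcov1`, racer copy) of the EXB sub-split of S4395: the formal fields.
-/

set_option autoImplicit false

namespace Cfsg.Agent.Lib.helper3.Gf

universe u

open HG

section
variable {n : ℕ} [NeZero n] {L : Type u} [Field L] {σ : L →+* L} {lam : L} [h : HData n L σ lam]

/-- HCOV1 (S) : formal fields -/
theorem helper56_hcov1 :
    (HN : Subgroup (HG n L σ lam)) ≤ HP ∧ (HN : Subgroup (HG n L σ lam)) ≤ Subgroup.center (HG n L σ lam) ∧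
    (HP : Subgroup (HG n L σ lam)).Normal ∧
    ∀ u ∈ (HP : Subgroup (HG n L σ lam)), ∀ v ∈ (HP : Subgroup (HG n L σ lam)),
      u * v * u⁻¹ * v⁻¹ ∈ (HN : Subgroup (HG n L σ lam)) := by
  refine ⟨fun g hg => (mem_HP g).2 ((mem_HN g).1 hg).2, ?_, ?_, ?_⟩
  · intro g hg
    obtain ⟨hx, hk⟩ := (mem_HN g).1 hg
    rw [Subgroup.mem_center_iff]
    intro a
    ext
    · simp [hx, hk, pw_zero]
    · simp [hx, hk, pw_zero, add_comm]
    · simp [hk]
  · constructor
    intro a ha g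
    have hk : a.k = 0 := (mem_HP a).1 ha
    refine (mem_HP _).2 ?_
    simp [hk]
  · intro u hu v hv
    have hku : u.k = 0 := (mem_HP u).1 hu
    have hkv : v.k = 0 := (mem_HP v).1 hv
    refine (mem_HN _).2 ⟨?_, ?_⟩
    · simp [hku, hkv, pw_zero]
    · simp [hku, hkv]

end

end Cfsg.Agent.Lib.helper3.Gf
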