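import Cfsg.Agent.Lib.helper3.GfHeis

/-!
Piece HCOV5 (`hcov5`) of the EXB sub-split of S4395: irreducibility of `P/N` under `y`.
-/

set_option autoImplicit false

namespace Cfsg.Agent.Lib.helper3.Gf

universe u

open HG

section
variable {n : ℕ} [NeZero n] {L : Type u} [Field L] {σ : L →+* L} {lam : L} [h : HData n L σ lam]

omit [NeZero n] in
theorem helper56_pw_one (hn : lam ^ n = 1) : pw lam (1 : ZMod n) = lam := by
  unfold pw
  rw [ZMod.val_one_eq_one_mod, ← pow_eq_pow_mod _ hn, pow_one]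

/-- HCOV5 (M/L) : irreducibility.  (`W' = {x | ∃ z, (x,z,0) ∈ W}` is an additive subgroup of `L` closed
under `lam *`; `⊥` gives `W = N`, `⊤` gives `W = P` since `N ≤ W`.) -/
theorem hcov5 (hirr : ∀ W : AddSubgroup L, (∀ w ∈ W, lam * w ∈ W) → W = ⊥ ∨ W = ⊤) :
    ∀ W : Subgroup (HG n L σ lam), (HN : Subgroup (HG n L σ lam)) ≤ W → W ≤ HP →
      (∀ w ∈ W, (Hy : HG n L σ lam) * w * (Hy : HG n L σ lam)⁻¹ ∈ W) →
      W = HN ∨ W = HP := by
  intro W hNW hWP hy
  have hk : ∀ w ∈ W, w.k = 0 := fun w hw => (mem_HP w).1 (hWP hw)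
  let W' : AddSubgroup L :=
    { carrier := {x | ∃ w ∈ W, w.x = x}
      zero_mem' := ⟨1, W.one_mem, rfl⟩
      add_mem' := by
        rintro a b ⟨u, hu, rfl⟩ ⟨v, hv, rfl⟩
        refine ⟨u * v, W.mul_mem hu hv, ?_⟩
        simp [hk u hu, pw_zero]
      neg_mem' := by
        rintro a ⟨u, hu, rfl⟩
        refine ⟨u⁻¹, W.inv_mem hu, ?_⟩
        simp [hk u hu, pw_zero] }
  have hW'mem : ∀ x : L, x ∈ W' ↔ ∃ w ∈ W, w.x = x := fun x => Iff.rfl
  have hstab : ∀ w ∈ W', lam * w ∈ W' := by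
    rintro a ⟨u, hu, rfl⟩
    refine ⟨Hy * u * Hy⁻¹, hy u hu, ?_⟩
    have h1 : (Hy : HG n L σ lam).x = 0 := rfl
    have h2 : (Hy : HG n L σ lam).k = 1 := rfl
    simp [h1, h2, hk u hu, helper56_pw_one h.pown]
  rcases hirr W' hstab with hb | ht
  · left
    refine le_antisymm ?_ hNW
    intro w hw
    refine (mem_HN w).2 ⟨?_, hk w hw⟩
    have : w.x ∈ W' := ⟨w, hw, rfl⟩
    rw [hb] at this
    simpa using this
  · right
    refine le_antisymm hWP ?_
    intro g hg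
    have hgk : g.k = 0 := (mem_HP g).1 hg
    have : g.x ∈ W' := by rw [ht]; trivial
    obtain ⟨w, hw, hwx⟩ := this
    have hmem : w⁻¹ * g ∈ (HN : Subgroup (HG n L σ lam)) := by
      refine (mem_HN _).2 ⟨?_, ?_⟩
      · simp [hk w hw, pw_zero, hwx]
      · simp [hk w hw, hgk]
    have := W.mul_mem hw (hNW hmem)
    simpa using this

end

end Cfsg.Agent.Lib.helper3.Gf
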