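import Mathlib

set_option autoImplicit false

/-!
A ring-theoretic lemma behind Higman's theorem on `SL₂(2ⁿ)`-modules with a fixed-point-free
element of order three: in a ring of characteristic two containing "matrix units" `X`, `Y`
(`X² = Y² = 0`, `XY + YX = 1`), a family `x a` behaving like the unipotent elements is
"quadratic".
-/

namespace Cfsg.Agent.Lib.helper56.HigR

variable {R : Type*} [Ring R]

/-- commutes with `X` and `Y` -/
def Cen (X Y c : R) : Prop := X * c = c * X ∧ Y * c = c * Y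

theorem Cen.add {X Y c d : R} (hc : Cen X Y c) (hd : Cen X Y d) : Cen X Y (c + d) :=
  ⟨by rw [mul_add, add_mul, hc.1, hd.1], by rw [mul_add, add_mul, hc.2, hd.2]⟩

theorem Cen.sub {X Y c d : R} (hc : Cen X Y c) (hd : Cen X Y d) : Cen X Y (c - d) :=
  ⟨by rw [mul_sub, sub_mul, hc.1, hd.1], by rw [mul_sub, sub_mul, hc.2, hd.2]⟩

theorem Cen.mul {X Y c d : R} (hc : Cen X Y c) (hd : Cen X Y d) : Cen X Y (c * d) :=
  ⟨by rw [← mul_assoc, hc.1, mul_assoc, hd.1, mul_assoc],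
    by rw [← mul_assoc, hc.2, mul_assoc, hd.2, mul_assoc]⟩

theorem Cen.zero (X Y : R) : Cen X Y 0 := ⟨by simp, by simp⟩

theorem Cen.one (X Y : R) : Cen X Y 1 := ⟨by simp, by simp⟩

theorem Cen.X_mul {X Y c : R} (hc : Cen X Y c) (t : R) : X * (c * t) = c * (X * t) := by
  rw [← mul_assoc, hc.1, mul_assoc]

theorem Cen.Y_mul {X Y c : R} (hc : Cen X Y c) (t : R) : Y * (c * t) = c * (Y * t) := by
  rw [← mul_assoc, hc.2, mul_assoc]

/-- normal form `c₀ + c₁ X + c₂ Y + c₃ XY` -/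
def nf (X Y c₀ c₁ c₂ c₃ : R) : R := c₀ + c₁ * X + c₂ * Y + c₃ * (X * Y)

section

variable {X Y : R} (h2 : ∀ r : R, r + r = 0) (hX : X * X = 0) (hY : Y * Y = 0)
  (hXY : X * Y + Y * X = 1)

include h2 hXY in
theorem YX_eq : Y * X = 1 + X * Y := by
  have h : Y * X = 1 - X * Y := by rw [← hXY]; abel
  rw [h, sub_eq_add_neg, neg_eq_of_add_eq_zero_left (h2 (X * Y))]

include h2 hX hY hXY in
theorem nf_mul (c₀ c₁ c₂ c₃ : R) {d₀ d₁ d₂ d₃ : R} (h₀ : Cen X Y d₀) (h₁ : Cen X Y d₁)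
    (h₂ : Cen X Y d₂) (h₃ : Cen X Y d₃) :
    nf X Y c₀ c₁ c₂ c₃ * nf X Y d₀ d₁ d₂ d₃
      = nf X Y (c₀ * d₀ + c₂ * d₁) (c₀ * d₁ + c₁ * d₀ + c₃ * d₁) (c₀ * d₂ + c₂ * d₀ + c₂ * d₃)
          (c₀ * d₃ + c₁ * d₂ + c₂ * d₁ + c₃ * d₀ + c₃ * d₃) := by
  have hYX := YX_eq h2 hXY
  have hXX : ∀ t, X * (X * t) = 0 := fun t => by rw [← mul_assoc, hX, zero_mul]
  have hYY : ∀ t, Y * (Y * t) = 0 := fun t => by rw [← mul_assoc, hY, zero_mul]
  have hYXt : ∀ t, Y * (X * t) = t + X * (Y * t) := fun t => by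
    rw [← mul_assoc, hYX, add_mul, one_mul, mul_assoc]
  simp only [nf, mul_add, add_mul, mul_assoc, h₀.1, h₁.1, h₂.1, h₃.1, h₀.2, h₁.2, h₂.2, h₃.2,
    h₀.X_mul, h₁.X_mul, h₂.X_mul, h₃.X_mul, h₀.Y_mul, h₁.Y_mul, h₂.Y_mul, h₃.Y_mul,
    hX, hY, hXX, hYY, hYX, hYXt, mul_zero, zero_mul, add_zero, zero_add, mul_one, one_mul]
  abel

include hXY in
theorem Cen.eq_zero_of_mul_X {c : R} (hc : Cen X Y c) (h : c * X = 0) : c = 0 := by
  have e : c = c * X * Y + Y * (c * X) := by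
    rw [← mul_assoc, hc.2, mul_assoc, mul_assoc, ← mul_add, hXY, mul_one]
  rw [e, h, zero_mul, mul_zero, add_zero]

include hXY in
theorem Cen.eq_zero_of_mul_Y {c : R} (hc : Cen X Y c) (h : c * Y = 0) : c = 0 := by
  have e : c = X * (c * Y) + c * Y * X := by
    rw [← mul_assoc, hc.1, mul_assoc, mul_assoc, ← mul_add, hXY, mul_one]
  rw [e, h, zero_mul, mul_zero, add_zero]

include h2 hX hY hXY in
theorem nf_eq_zero {c₀ c₁ c₂ c₃ : R} (h₀ : Cen X Y c₀) (h₁ : Cen X Y c₁)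
    (h₂ : Cen X Y c₂) (h₃ : Cen X Y c₃) (h : nf X Y c₀ c₁ c₂ c₃ = 0) :
    c₀ = 0 ∧ c₁ = 0 ∧ c₂ = 0 ∧ c₃ = 0 := by
  have hYX := YX_eq h2 hXY
  have hXX : ∀ t, X * (X * t) = 0 := fun t => by rw [← mul_assoc, hX, zero_mul]
  have hYY : ∀ t, Y * (Y * t) = 0 := fun t => by rw [← mul_assoc, hY, zero_mul]
  have hYXt : ∀ t, Y * (X * t) = t + X * (Y * t) := fun t => by
    rw [← mul_assoc, hYX, add_mul, one_mul, mul_assoc]
  have e2 : X * nf X Y c₀ c₁ c₂ c₃ * X = c₂ * X := by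
    simp only [nf, mul_add, add_mul, mul_assoc, h₀.1, h₁.1, h₂.1, h₃.1, h₀.2, h₁.2, h₂.2, h₃.2,
      h₀.X_mul, h₁.X_mul, h₂.X_mul, h₃.X_mul, h₀.Y_mul, h₁.Y_mul, h₂.Y_mul, h₃.Y_mul,
      hX, hY, hXX, hYY, hYX, hYXt, mul_zero, zero_mul, add_zero, zero_add, mul_one, one_mul]
  have e1 : Y * nf X Y c₀ c₁ c₂ c₃ * Y = c₁ * Y := by
    simp only [nf, mul_add, add_mul, mul_assoc, h₀.1, h₁.1, h₂.1, h₃.1, h₀.2, h₁.2, h₂.2, h₃.2,
      h₀.X_mul, h₁.X_mul, h₂.X_mul, h₃.X_mul, h₀.Y_mul, h₁.Y_mul, h₂.Y_mul, h₃.Y_mul,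
      hX, hY, hXX, hYY, hYX, hYXt, mul_zero, zero_mul, add_zero, zero_add, mul_one, one_mul]
  have hc2 : c₂ = 0 := h₂.eq_zero_of_mul_X hXY (by rw [← e2, h, mul_zero, zero_mul])
  have hc1 : c₁ = 0 := h₁.eq_zero_of_mul_Y hXY (by rw [← e1, h, mul_zero, zero_mul])
  subst hc2 hc1
  have e0 : X * nf X Y c₀ 0 0 c₃ = c₀ * X := by
    simp only [nf, mul_add, add_mul, mul_assoc, h₀.1, h₃.1, h₀.2, h₃.2,
      h₀.X_mul, h₃.X_mul, h₀.Y_mul, h₃.Y_mul,
      hX, hY, hXX, hYY, hYX, hYXt, mul_zero, zero_mul, add_zero, zero_add, mul_one, one_mul]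
  have hc0 : c₀ = 0 := h₀.eq_zero_of_mul_X hXY (by rw [← e0, h, mul_zero])
  subst hc0
  have e3 : nf X Y 0 0 0 c₃ * X = c₃ * X := by
    simp only [nf, mul_add, add_mul, mul_assoc,
      hX, hY, hXX, hYY, hYX, hYXt, mul_zero, zero_mul, add_zero, zero_add, mul_one, one_mul]
  have hc3 : c₃ = 0 := h₃.eq_zero_of_mul_X hXY (by rw [← e3, h, zero_mul])
  exact ⟨rfl, rfl, rfl, hc3⟩

include h2 hX hY hXY in
theorem nf_inj {c₀ c₁ c₂ c₃ d₀ d₁ d₂ d₃ : R} (h₀ : Cen X Y c₀) (h₁ : Cen X Y c₁)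
    (h₂ : Cen X Y c₂) (h₃ : Cen X Y c₃) (k₀ : Cen X Y d₀) (k₁ : Cen X Y d₁)
    (k₂ : Cen X Y d₂) (k₃ : Cen X Y d₃) (h : nf X Y c₀ c₁ c₂ c₃ = nf X Y d₀ d₁ d₂ d₃) :
    c₀ = d₀ ∧ c₁ = d₁ ∧ c₂ = d₂ ∧ c₃ = d₃ := by
  have e : nf X Y (c₀ - d₀) (c₁ - d₁) (c₂ - d₂) (c₃ - d₃) = 0 := by
    have e' : nf X Y (c₀ - d₀) (c₁ - d₁) (c₂ - d₂) (c₃ - d₃)
        = nf X Y c₀ c₁ c₂ c₃ - nf X Y d₀ d₁ d₂ d₃ := by
      simp only [nf, sub_mul]; abel
    rw [e', h, sub_self]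
  obtain ⟨a, b, c, d⟩ := nf_eq_zero h2 hX hY hXY (h₀.sub k₀) (h₁.sub k₁) (h₂.sub k₂) (h₃.sub k₃) e
  exact ⟨sub_eq_zero.mp a, sub_eq_zero.mp b, sub_eq_zero.mp c, sub_eq_zero.mp d⟩

end

/-- **Lemma R.** -/
theorem lemmaR {K : Type*} [Field K] (h2K : (1 : K) + 1 = 0) (hsq : ∀ a : K, ∃ b, b * b = a)
    (h2 : ∀ r : R, r + r = 0) (x : K → R) (Y : R)
    (hY : Y * Y = 0) (hXY : x 1 * Y + Y * x 1 = 1)
    (hxX : ∀ a, x a * x 1 = x 1 * x a) (hxx : ∀ a, x a * x a = 0)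
    (hadd : ∀ a, x (a + 1) = x a + x 1 + x a * x 1)
    (hW1 : ∀ a, a ≠ 0 → (x a + (x 1 + Y) * x a⁻¹ * (x 1 + Y))
      * (x a + (x 1 + Y) * x a⁻¹ * (x 1 + Y)) = 1)
    (hW2 : ∀ a, a ≠ 0 → (x a + (x 1 + Y) * x a⁻¹ * (x 1 + Y)) * Y
      * (x a + (x 1 + Y) * x a⁻¹ * (x 1 + Y)) = x (a * a)) :
    ∀ a, a ≠ 0 → x a * x 1 = 0 := by
  obtain ⟨X, hXdef⟩ : ∃ X, X = x 1 := ⟨_, rfl⟩
  rw [← hXdef] at hXY hxX hadd hW1 hW2 ⊢
  have hX : X * X = 0 := by rw [hXdef]; exact hxx 1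
  have hYX := YX_eq h2 hXY
  have hXX : ∀ t, X * (X * t) = 0 := fun t => by rw [← mul_assoc, hX, zero_mul]
  have hYY : ∀ t, Y * (Y * t) = 0 := fun t => by rw [← mul_assoc, hY, zero_mul]
  have hYXt : ∀ t, Y * (X * t) = t + X * (Y * t) := fun t => by
    rw [← mul_assoc, hYX, add_mul, one_mul, mul_assoc]
  have hneg : ∀ r : R, -r = r := fun r => neg_eq_of_add_eq_zero_left (h2 r)
  obtain ⟨β, hβdef⟩ : ∃ β : K → R, β = fun a => x a * Y + Y * x a := ⟨_, rfl⟩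
  obtain ⟨α, hαdef⟩ : ∃ α : K → R, α = fun a => x a + β a * X := ⟨_, rfl⟩
  have hβa : ∀ a, β a = x a * Y + Y * x a := fun a => by rw [hβdef]
  have hαa : ∀ a, α a = x a + β a * X := fun a => by rw [hαdef]
  have hβ : ∀ a, Cen X Y (β a) := by
    intro a
    constructor
    · -- X β = β X
      rw [hβa]
      have e1 : X * (x a * Y + Y * x a) = x a * (X * Y) + X * Y * x a := by
        rw [mul_add, ← mul_assoc, ← hxX a, mul_assoc, mul_assoc]
      have e2 : (x a * Y + Y * x a) * X = x a * (Y * X) + Y * X * x a := by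
        rw [add_mul, mul_assoc, mul_assoc, hxX a, mul_assoc]
      have e3 : x a * (X * Y) + X * Y * x a + (x a * (Y * X) + Y * X * x a) = 0 := by
        have : x a * (X * Y) + X * Y * x a + (x a * (Y * X) + Y * X * x a)
            = x a * (X * Y + Y * X) + (X * Y + Y * X) * x a := by
          rw [mul_add, add_mul]; abel
        rw [this, hXY, mul_one, one_mul, h2]
      rw [e1, e2]
      have := eq_neg_of_add_eq_zero_left e3
      rw [this, hneg]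
    · have e1 : Y * (x a * Y + Y * x a) = Y * x a * Y := by
        rw [mul_add, ← mul_assoc Y Y, hY, zero_mul, add_zero, mul_assoc]
      have e2 : (x a * Y + Y * x a) * Y = Y * x a * Y := by
        rw [add_mul, mul_assoc (x a), hY, mul_zero, zero_add]
      rw [hβa, e1, e2]
  have hα : ∀ a, Cen X Y (α a) := by
    intro a
    constructor
    · have e1 : X * (x a + β a * X) = X * x a := by
        rw [mul_add, (hβ a).X_mul, hX, mul_zero, add_zero]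
      have e2 : (x a + β a * X) * X = X * x a := by
        rw [add_mul, mul_assoc, hX, mul_zero, add_zero, hxX a]
      rw [hαa, e1, e2]
    · rw [hαa, mul_add, add_mul, (hβ a).Y_mul, mul_assoc]
      have e : Y * x a + β a * (Y * X) + (x a * Y + β a * (X * Y)) = 0 := by
        have : Y * x a + β a * (Y * X) + (x a * Y + β a * (X * Y))
            = (x a * Y + Y * x a) + β a * (X * Y + Y * X) := by rw [mul_add]; abel
        rw [this, hXY, mul_one, ← hβa, h2]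
      have := eq_neg_of_add_eq_zero_left e
      rw [this, hneg]
  have hx : ∀ a, x a = nf X Y (α a) (β a) 0 0 := by
    intro a
    simp only [nf, zero_mul, add_zero]
    rw [hαa, add_assoc, h2, add_zero]
  have hJ : ∀ b, (X + Y) * x b * (X + Y) = nf X Y (α b) 0 (β b) 0 := by
    intro b
    rw [hx b]
    simp only [nf, mul_add, add_mul, mul_assoc, (hα b).1, (hβ b).1, (hα b).2, (hβ b).2,
      (hα b).X_mul, (hβ b).X_mul, (hα b).Y_mul, (hβ b).Y_mul,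
      hX, hY, hXX, hYY, hYX, hYXt, mul_zero, zero_mul, add_zero, zero_add, mul_one, one_mul]
    have e' : α b + α b * (X * Y) + (β b * X + β b * X) + (α b * (X * Y) + β b * Y)
        = α b + β b * Y + (α b * (X * Y) + α b * (X * Y)) + (β b * X + β b * X) := by abel
    rw [e', h2, h2, add_zero, add_zero]
  have hW : ∀ a, x a + (X + Y) * x a⁻¹ * (X + Y)
      = nf X Y (α a + α a⁻¹) (β a) (β a⁻¹) 0 := by
    intro a
    rw [hJ, hx a]
    simp only [nf, zero_mul, add_zero]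
    abel
  have c0 := Cen.zero X Y
  have c1 := Cen.one X Y
  have hYnf : Y = nf X Y 0 0 1 0 := by simp [nf]
  have h1nf : (1 : R) = nf X Y 1 0 0 0 := by simp [nf]
  have h0nf : (0 : R) = nf X Y 0 0 0 0 := by simp [nf]
  -- consequences of the two relations
  have F : ∀ a, a ≠ 0 → α (a * a) = (α a + α a⁻¹) * β a ∧ β (a * a) = β a * β a
      ∧ β a⁻¹ * β a = 1 := by
    intro a ha
    have hs := (hα a).add (hα a⁻¹)
    have w1 := hW1 a ha
    rw [hW a, nf_mul h2 hX hY hXY _ _ _ _ hs (hβ a) (hβ a⁻¹) c0] at w1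
    have w1' := w1.trans h1nf
    have i1 := nf_inj h2 hX hY hXY
      ((hs.mul hs).add ((hβ a⁻¹).mul (hβ a)))
      (((hs.mul (hβ a)).add ((hβ a).mul hs)).add (c0.mul (hβ a)))
      (((hs.mul (hβ a⁻¹)).add ((hβ a⁻¹).mul hs)).add ((hβ a⁻¹).mul c0))
      (((((hs.mul c0).add ((hβ a).mul (hβ a⁻¹))).add ((hβ a⁻¹).mul (hβ a))).add (c0.mul hs)).add
        (c0.mul c0)) c1 c0 c0 c0 w1'
    have w2 := hW2 a ha
    rw [hW a] at w2
    have e1 : nf X Y (α a + α a⁻¹) (β a) (β a⁻¹) 0 * Y = nf X Y 0 0 (α a + α a⁻¹) (β a) := by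
      have := nf_mul h2 hX hY hXY (α a + α a⁻¹) (β a) (β a⁻¹) 0 c0 c0 c1 c0
      simp only [mul_zero, mul_one, add_zero, zero_add] at this
      rw [← this]
      congr 1
    rw [e1, nf_mul h2 hX hY hXY _ _ _ _ hs (hβ a) (hβ a⁻¹) c0, hx (a * a)] at w2
    have i2 := nf_inj h2 hX hY hXY
      ((c0.mul hs).add (hs.mul (hβ a)))
      (((c0.mul (hβ a)).add (c0.mul hs)).add ((hβ a).mul (hβ a)))
      (((c0.mul (hβ a⁻¹)).add (hs.mul hs)).add (hs.mul c0))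
      (((((c0.mul c0).add (c0.mul (hβ a⁻¹))).add (hs.mul (hβ a))).add ((hβ a).mul hs)).add
        ((hβ a).mul c0)) (hα (a * a)) (hβ (a * a)) c0 c0 w2
    obtain ⟨i21, i22, i23, -⟩ := i2
    simp only [zero_mul, mul_zero, zero_add, add_zero] at i21 i22 i23
    refine ⟨i21.symm, i22.symm, ?_⟩
    have := i1.1
    rw [i23, zero_add] at this
    exact this
  have R3 : ∀ c, c ≠ 0 → α c = α c⁻¹ * β c := by
    intro c hc
    obtain ⟨a, rfl⟩ := hsq c
    have ha : a ≠ 0 := fun h => hc (by rw [h, mul_zero])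
    obtain ⟨f1, f2, f3⟩ := F a ha
    obtain ⟨g1, -, -⟩ := F a⁻¹ (inv_ne_zero ha)
    rw [inv_inv] at g1
    rw [mul_inv, g1, f2, f1, mul_assoc, ← mul_assoc (β a⁻¹), f3, one_mul, add_comm]
  have R4 : ∀ a, a ≠ 0 → α (a * a) = α a * (β a + 1) := by
    intro a ha
    obtain ⟨f1, -, -⟩ := F a ha
    rw [f1]
    conv_lhs => rw [R3 a ha]
    conv_rhs => rw [R3 a ha]
    rw [add_mul, mul_add, mul_one]
  have R5 : ∀ a, α (a + 1) = α a ∧ β (a + 1) = β a + 1 + α a := by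
    intro a
    have e : x (a + 1) = nf X Y (α a) (β a + 1 + α a) 0 0 := by
      rw [hadd a]
      conv_lhs => rw [hx a]
      simp only [nf, zero_mul, add_zero, add_mul, one_mul, mul_assoc, hX, mul_zero]
      abel
    rw [hx (a + 1)] at e
    obtain ⟨i1, i2, -, -⟩ := nf_inj h2 hX hY hXY (hα (a + 1)) (hβ (a + 1)) c0 c0 (hα a)
      (((hβ a).add c1).add (hα a)) c0 c0 e
    exact ⟨i1, i2⟩
  have R6 : ∀ a, α a * α a = 0 := by
    intro a
    have e := hxx a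
    rw [hx a, nf_mul h2 hX hY hXY _ _ _ _ (hα a) (hβ a) c0 c0] at e
    have e := e.trans h0nf
    obtain ⟨i1, -, -, -⟩ := nf_inj h2 hX hY hXY
      (((hα a).mul (hα a)).add (c0.mul (hβ a)))
      ((((hα a).mul (hβ a)).add ((hβ a).mul (hα a))).add (c0.mul (hβ a)))
      ((((hα a).mul c0).add (c0.mul (hα a))).add (c0.mul c0))
      ((((((hα a).mul c0).add ((hβ a).mul c0)).add (c0.mul (hβ a))).add (c0.mul (hα a))).add
        (c0.mul c0)) c0 c0 c0 c0 e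
    simpa using i1
  intro a ha
  by_cases ha1 : a = 1
  · rw [ha1, hXdef]; exact hxx 1
  have ha' : a + 1 ≠ 0 := by
    intro h
    apply ha1
    have : a = -1 := eq_neg_of_add_eq_zero_left h
    rw [this]
    exact neg_eq_of_add_eq_zero_left h2K
  have hα0 : α a = 0 := by
    have e1 := R4 (a + 1) ha'
    have e2 : (a + 1) * (a + 1) = a * a + 1 := by
      have : (a + 1) * (a + 1) = a * a + 1 + a * (1 + 1) := by ring
      rw [this, h2K, mul_zero, add_zero]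
    rw [e2, (R5 (a * a)).1, R4 a ha, (R5 a).1, (R5 a).2] at e1
    have e3 : α a * (β a + 1 + α a + 1) = α a * β a := by
      rw [mul_add, mul_add, mul_add, mul_one, R6 a, add_zero, add_assoc, h2, add_zero]
    rw [e3, mul_add, mul_one] at e1
    exact add_eq_left.mp e1
  rw [hx a, hα0]
  simp only [nf, zero_mul, add_zero, zero_add, mul_assoc, hX, mul_zero]

end Cfsg.Agent.Lib.helper56.HigR
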