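import Mathlib

set_option autoImplicit false

/-!
Irreducible quadratic (or small) modules for `SL₂(F)` are natural: an abstract additive version.
-/

namespace Cfsg.Agent.Lib.helper56.SL2Nat

open Matrix

section Mat

variable {F : Type*} [Field F]

/-- upper unitriangular -/
def uM (a : F) : SpecialLinearGroup (Fin 2) F := ⟨!![1, a; 0, 1], by simp [Matrix.det_fin_two]⟩

/-- lower unitriangular -/
def lM (a : F) : SpecialLinearGroup (Fin 2) F := ⟨!![1, 0; a, 1], by simp [Matrix.det_fin_two]⟩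

/-- Weyl element -/
def wM : SpecialLinearGroup (Fin 2) F := ⟨!![0, 1; -1, 0], by simp [Matrix.det_fin_two]⟩

open Classical in
/-- torus element (junk value `1` at `0`) -/
noncomputable def hM (a : F) : SpecialLinearGroup (Fin 2) F :=
  if h : a = 0 then 1 else ⟨!![a, 0; 0, a⁻¹], by simp [Matrix.det_fin_two, h]⟩

theorem uM_val (a : F) : (uM a).1 = !![1, a; 0, 1] := rfl
theorem lM_val (a : F) : (lM a).1 = !![1, 0; a, 1] := rfl
theorem wM_val : (wM : SpecialLinearGroup (Fin 2) F).1 = !![0, 1; -1, 0] := rfl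
theorem hM_val {a : F} (h : a ≠ 0) : (hM a).1 = !![a, 0; 0, a⁻¹] := by
  simp [hM, h]

theorem sl_ext {A B : SpecialLinearGroup (Fin 2) F} (h : A.1 = B.1) : A = B := Subtype.ext h

theorem uM_mul (a b : F) : uM a * uM b = uM (a + b) := by
  apply sl_ext
  show (!![1, a; 0, 1] : Matrix (Fin 2) (Fin 2) F) * !![1, b; 0, 1] = !![1, a + b; 0, 1]
  ext i j
  fin_cases i <;> fin_cases j <;> simp [Matrix.mul_apply, Fin.sum_univ_two, add_comm]

theorem uM_zero : uM (0 : F) = 1 := by
  apply sl_ext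
  show (!![1, 0; 0, 1] : Matrix (Fin 2) (Fin 2) F) = 1
  ext i j
  fin_cases i <;> fin_cases j <;> simp

theorem lM_mul (a b : F) : lM a * lM b = lM (a + b) := by
  apply sl_ext
  show (!![1, 0; a, 1] : Matrix (Fin 2) (Fin 2) F) * !![1, 0; b, 1] = !![1, 0; a + b, 1]
  ext i j
  fin_cases i <;> fin_cases j <;> simp [Matrix.mul_apply, Fin.sum_univ_two, add_comm]

theorem lM_zero : lM (0 : F) = 1 := by
  apply sl_ext
  show (!![1, 0; 0, 1] : Matrix (Fin 2) (Fin 2) F) = 1
  ext i j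
  fin_cases i <;> fin_cases j <;> simp

theorem hM_one : hM (1 : F) = 1 := by
  apply sl_ext
  rw [hM_val one_ne_zero]
  show (!![1, 0; 0, 1⁻¹] : Matrix (Fin 2) (Fin 2) F) = 1
  ext i j
  fin_cases i <;> fin_cases j <;> simp

theorem hM_mul {a b : F} (ha : a ≠ 0) (hb : b ≠ 0) : hM a * hM b = hM (a * b) := by
  apply sl_ext
  show (hM a).1 * (hM b).1 = (hM (a * b)).1
  rw [hM_val ha, hM_val hb, hM_val (mul_ne_zero ha hb)]
  ext i j
  fin_cases i <;> fin_cases j <;> simp [Matrix.mul_apply, Fin.sum_univ_two, mul_comm]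

/-- `l(a) w = w u(-a)` -/
theorem lM_mul_wM (a : F) : lM a * wM = wM * uM (-a) := by
  apply sl_ext
  show (!![1, 0; a, 1] : Matrix (Fin 2) (Fin 2) F) * !![0, 1; -1, 0] = !![0, 1; -1, 0] * !![1, -a; 0, 1]
  ext i j
  fin_cases i <;> fin_cases j <;> simp [Matrix.mul_apply, Fin.sum_univ_two]

/-- `u(a) w = w l(-a)` -/
theorem uM_mul_wM (a : F) : uM a * wM = wM * lM (-a) := by
  apply sl_ext
  show (!![1, a; 0, 1] : Matrix (Fin 2) (Fin 2) F) * !![0, 1; -1, 0] = !![0, 1; -1, 0] * !![1, 0; -a, 1]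
  ext i j
  fin_cases i <;> fin_cases j <;> simp [Matrix.mul_apply, Fin.sum_univ_two]

theorem uM_mul_hM {a : F} (ha : a ≠ 0) (b : F) : uM b * hM a = hM a * uM (a⁻¹ * a⁻¹ * b) := by
  apply sl_ext
  show (uM b).1 * (hM a).1 = (hM a).1 * (uM (a⁻¹ * a⁻¹ * b)).1
  rw [hM_val ha, uM_val, uM_val]
  ext i j
  fin_cases i <;> fin_cases j <;> simp [Matrix.mul_apply, Fin.sum_univ_two]
  field_simp

theorem lM_mul_hM {a : F} (ha : a ≠ 0) (b : F) : lM b * hM a = hM a * lM (a * a * b) := by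
  apply sl_ext
  show (lM b).1 * (hM a).1 = (hM a).1 * (lM (a * a * b)).1
  rw [hM_val ha, lM_val, lM_val]
  ext i j
  fin_cases i <;> fin_cases j <;> simp [Matrix.mul_apply, Fin.sum_univ_two]
  field_simp

/-- `u(a) = h(a) w u(-a) l(a⁻¹)` -/
theorem uM_eq {a : F} (ha : a ≠ 0) : uM a = hM a * wM * uM (-a) * lM a⁻¹ := by
  apply sl_ext
  show (uM a).1 = (hM a).1 * wM.1 * (uM (-a)).1 * (lM a⁻¹).1
  rw [hM_val ha, uM_val, uM_val, lM_val, wM_val]
  ext i j
  fin_cases i <;> fin_cases j <;> simp [Matrix.mul_apply, Fin.sum_univ_two, ha]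

theorem wM_mul_wM : (wM : SpecialLinearGroup (Fin 2) F) * wM = hM (-1) := by
  apply sl_ext
  show (wM : SpecialLinearGroup (Fin 2) F).1 * wM.1 = (hM (-1 : F)).1
  rw [hM_val (neg_ne_zero.mpr one_ne_zero), wM_val]
  ext i j
  fin_cases i <;> fin_cases j <;> simp [Matrix.mul_apply, Fin.sum_univ_two, inv_neg]

theorem hM_mul_wM {a : F} (ha : a ≠ 0) : hM a * wM = wM * hM a⁻¹ := by
  apply sl_ext
  show (hM a).1 * wM.1 = wM.1 * (hM a⁻¹).1
  rw [hM_val ha, hM_val (inv_ne_zero ha), wM_val]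
  ext i j
  fin_cases i <;> fin_cases j <;> simp [Matrix.mul_apply, Fin.sum_univ_two]

theorem lM_eq (a : F) : lM a = wM * uM (-a) * wM * wM * wM := by
  apply sl_ext
  show (lM a).1 = wM.1 * (uM (-a)).1 * wM.1 * wM.1 * wM.1
  rw [uM_val, lM_val, wM_val]
  ext i j
  fin_cases i <;> fin_cases j <;> simp [Matrix.mul_apply, Fin.sum_univ_two]

theorem uM_mulVec (a : F) (c : Fin 2 → F) : (uM a).1 *ᵥ c = ![c 0 + a * c 1, c 1] := by
  rw [uM_val]
  funext i
  fin_cases i <;> simp [Matrix.mulVec, dotProduct, Fin.sum_univ_two]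

theorem wM_mulVec (c : Fin 2 → F) : (wM : SpecialLinearGroup (Fin 2) F).1 *ᵥ c = ![c 1, -c 0] := by
  rw [wM_val]
  funext i
  fin_cases i <;> simp [Matrix.mulVec, dotProduct, Fin.sum_univ_two]

theorem uM_pow (a : F) (k : ℕ) : uM a ^ k = uM (k * a) := by
  induction k with
  | zero => simp [uM_zero]
  | succ k ih => rw [pow_succ, ih, uM_mul]; congr 1; push_cast; ring

theorem wM_eq : (wM : SpecialLinearGroup (Fin 2) F) = uM 1 * lM (-1) * uM 1 := by
  apply sl_ext
  show (wM : SpecialLinearGroup (Fin 2) F).1 = (uM (1 : F)).1 * (lM (-1 : F)).1 * (uM (1 : F)).1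
  rw [uM_val, lM_val, wM_val]
  ext i j
  fin_cases i <;> fin_cases j <;> simp [Matrix.mul_apply, Fin.sum_univ_two]

/-- the unitriangular group as a homomorphism -/
def uHom (F : Type*) [Field F] : Multiplicative F →* SpecialLinearGroup (Fin 2) F where
  toFun a := uM (Multiplicative.toAdd a)
  map_one' := uM_zero
  map_mul' _ _ := (uM_mul _ _).symm

theorem isPGroup_uHom_range {p : ℕ} (hpF : (p : F) = 0) : IsPGroup p (uHom F).range := by
  rintro ⟨g, a, rfl⟩
  refine ⟨1, Subtype.ext ?_⟩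
  show uM (Multiplicative.toAdd a) ^ p ^ 1 = 1
  rw [pow_one, uM_pow, hpF, zero_mul, uM_zero]

/-- decomposition for lower-left entry nonzero -/
theorem sl_decomp (g : SpecialLinearGroup (Fin 2) F) (hc : g.1 1 0 ≠ 0) :
    g = uM ((g.1 0 0 - 1) / g.1 1 0) * lM (g.1 1 0) * uM ((g.1 1 1 - 1) / g.1 1 0) := by
  have hdet : g.1 0 0 * g.1 1 1 - g.1 0 1 * g.1 1 0 = 1 := by
    have := g.2
    rwa [Matrix.det_fin_two] at this
  apply sl_ext
  show g.1 = (uM ((g.1 0 0 - 1) / g.1 1 0)).1 * (lM (g.1 1 0)).1 * (uM ((g.1 1 1 - 1) / g.1 1 0)).1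
  rw [uM_val, uM_val, lM_val]
  ext i j
  fin_cases i <;> fin_cases j <;> simp [Matrix.mul_apply, Fin.sum_univ_two]
  · field_simp
    ring
  · field_simp
    linear_combination -hdet
  · field_simp
    ring

/-- `SL₂(F)` is generated by the `u(a)` and `w`. -/
theorem sl_induction (P : SpecialLinearGroup (Fin 2) F → Prop) (hu : ∀ a, P (uM a)) (hw : P wM)
    (hmul : ∀ g h, P g → P h → P (g * h)) : ∀ g, P g := by
  have hl : ∀ a, P (lM a) := by
    intro a
    rw [lM_eq]
    exact hmul _ _ (hmul _ _ (hmul _ _ (hmul _ _ hw (hu _)) hw) hw) hw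
  have h1 : ∀ g : SpecialLinearGroup (Fin 2) F, g.1 1 0 ≠ 0 → P g := by
    intro g hc
    rw [sl_decomp g hc]
    exact hmul _ _ (hmul _ _ (hu _) (hl _)) (hu _)
  intro g
  by_cases hc : g.1 1 0 = 0
  · have hdet : g.1 0 0 * g.1 1 1 - g.1 0 1 * g.1 1 0 = 1 := by
      have := g.2
      rwa [Matrix.det_fin_two] at this
    have ha : g.1 0 0 ≠ 0 := by
      intro h0
      rw [h0, hc] at hdet
      simp at hdet
    have hg : g = lM (-1) * (lM 1 * g) := by
      rw [← mul_assoc, lM_mul]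
      simp [lM_zero]
    rw [hg]
    refine hmul _ _ (hl _) (h1 _ ?_)
    show ((lM (1 : F)).1 * g.1) 1 0 ≠ 0
    rw [lM_val]
    simp [Matrix.mul_apply, Fin.sum_univ_two, hc, ha]
  · exact h1 g hc

end Mat

section Module

variable {F : Type*} [Field F] {M : Type*} [AddCommGroup M]
  [DistribMulAction (SpecialLinearGroup (Fin 2) F) M]

variable (F M) in
/-- fixed points of the upper unitriangular group -/
def fixU : AddSubgroup M where
  carrier := {v | ∀ a : F, uM a • v = v}
  zero_mem' := fun a => smul_zero _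
  add_mem' := fun {x y} hx hy a => by rw [smul_add, hx a, hy a]
  neg_mem' := fun {x} hx a => by rw [smul_neg, hx a]

variable (F M) in
/-- fixed points of the lower unitriangular group -/
def fixL : AddSubgroup M where
  carrier := {v | ∀ a : F, lM a • v = v}
  zero_mem' := fun a => smul_zero _
  add_mem' := fun {x y} hx hy a => by rw [smul_add, hx a, hy a]
  neg_mem' := fun {x} hx a => by rw [smul_neg, hx a]

theorem w_fixU {v : M} (hv : v ∈ fixU F M) :
    (wM : SpecialLinearGroup (Fin 2) F) • v ∈ fixL F M := by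
  intro a
  rw [← mul_smul, lM_mul_wM, mul_smul, hv (-a)]

theorem w_fixL {v : M} (hv : v ∈ fixL F M) :
    (wM : SpecialLinearGroup (Fin 2) F) • v ∈ fixU F M := by
  intro a
  rw [← mul_smul, uM_mul_wM, mul_smul, hv (-a)]

theorem h_fixU {a : F} (ha : a ≠ 0) {v : M} (hv : v ∈ fixU F M) : hM a • v ∈ fixU F M := by
  intro b
  rw [← mul_smul, uM_mul_hM ha, mul_smul, hv _]

theorem h_fixL {a : F} (ha : a ≠ 0) {v : M} (hv : v ∈ fixL F M) : hM a • v ∈ fixL F M := by
  intro b
  rw [← mul_smul, lM_mul_hM ha, mul_smul, hv _]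

/-- the key formula -/
theorem key (hdis : ∀ v : M, v ∈ fixU F M → v ∈ fixL F M → v = 0) {y : M} (hy : y ∈ fixL F M)
    (hq : ∀ a : F, uM a • y - y ∈ fixU F M) {a : F} (ha : a ≠ 0) :
    uM a • y = y + hM a • (wM : SpecialLinearGroup (Fin 2) F) • y := by
  have h1 : uM a • y = hM a • (wM : SpecialLinearGroup (Fin 2) F) • uM (-a) • y := by
    conv_lhs => rw [uM_eq ha]
    rw [mul_smul, mul_smul, mul_smul, hy a⁻¹]
  obtain ⟨z, hz⟩ : ∃ z, z = uM (-a) • y - y := ⟨_, rfl⟩
  have hzU : z ∈ fixU F M := hz ▸ hq (-a)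
  have h2 : uM (-a) • y = y + z := by rw [hz]; abel
  rw [h2, smul_add, smul_add] at h1
  have h3 : hM a • (wM : SpecialLinearGroup (Fin 2) F) • y ∈ fixU F M := h_fixU ha (w_fixL hy)
  have h4 : hM a • (wM : SpecialLinearGroup (Fin 2) F) • z ∈ fixL F M := h_fixL ha (w_fixU hzU)
  have h5 : (uM a • y - y) - hM a • (wM : SpecialLinearGroup (Fin 2) F) • y
      = hM a • (wM : SpecialLinearGroup (Fin 2) F) • z - y := by rw [h1]; abel
  have h6 : (uM a • y - y) - hM a • (wM : SpecialLinearGroup (Fin 2) F) • y = 0 :=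
    hdis _ (sub_mem (hq a) h3) (by rw [h5]; exact sub_mem h4 hy)
  have h7 := sub_eq_zero.mp h6
  rw [← h7]; abel

open Classical in
/-- the scalar action on the fixed points -/
noncomputable def star (a : F) (x : M) : M := if a = 0 then 0 else hM a • x

theorem star_zero' (x : M) : star (0 : F) x = 0 := by simp [star]

theorem star_of_ne {a : F} (ha : a ≠ 0) (x : M) : star a x = hM a • x := by simp [star, ha]

theorem star_one (x : M) : star (1 : F) x = x := by
  rw [star_of_ne one_ne_zero, hM_one, one_smul]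

theorem star_mem (a : F) {x : M} (hx : x ∈ fixU F M) : star a x ∈ fixU F M := by
  by_cases ha : a = 0
  · rw [ha, star_zero']; exact zero_mem _
  · rw [star_of_ne ha]; exact h_fixU ha hx

theorem star_star (a b : F) (x : M) : star a (star b x) = star (a * b) x := by
  by_cases ha : a = 0
  · rw [ha, zero_mul, star_zero', star_zero']
  · by_cases hb : b = 0
    · rw [hb, mul_zero, star_zero', star_of_ne ha, smul_zero]
    · rw [star_of_ne ha, star_of_ne hb, star_of_ne (mul_ne_zero ha hb), ← mul_smul, hM_mul ha hb]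

theorem star_eq_zero {a : F} {x : M} (h : star a x = 0) (hx : x ≠ 0) : a = 0 := by
  by_contra ha
  rw [star_of_ne ha] at h
  exact hx ((smul_eq_zero_iff_eq _).mp h)

theorem u_w (hdis : ∀ v : M, v ∈ fixU F M → v ∈ fixL F M → v = 0)
    (hquad : ∀ (a : F) (v : M), uM a • v - v ∈ fixU F M) {x : M} (hx : x ∈ fixU F M) {a : F}
    (ha : a ≠ 0) :
    uM a • (wM : SpecialLinearGroup (Fin 2) F) • x
      = (wM : SpecialLinearGroup (Fin 2) F) • x + hM (-a) • x := by
  rw [key hdis (w_fixU hx) (fun b => hquad b _) ha]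
  congr 1
  rw [← mul_smul, ← mul_smul, mul_assoc, wM_mul_wM, hM_mul ha (neg_ne_zero.mpr one_ne_zero)]
  congr 2; ring

theorem tau_add (hquad : ∀ (a : F) (v : M), uM a • v - v ∈ fixU F M) (y : M) (a b : F) :
    uM (a + b) • y - y = (uM a • y - y) + (uM b • y - y) := by
  have h := hquad b y a
  rw [smul_sub] at h
  rw [← uM_mul, mul_smul]
  have h' : uM a • uM b • y = uM b • y - y + uM a • y := by rw [← h]; abel
  rw [h']; abel

theorem hneg_one (hdis : ∀ v : M, v ∈ fixU F M → v ∈ fixL F M → v = 0)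
    (hquad : ∀ (a : F) (v : M), uM a • v - v ∈ fixU F M) {x : M} (hx : x ∈ fixU F M) :
    hM (-1 : F) • x = -x := by
  have h1 := u_w hdis hquad hx (a := (1 : F)) one_ne_zero
  have h2 := u_w hdis hquad hx (a := (-1 : F)) (neg_ne_zero.mpr one_ne_zero)
  rw [neg_neg, hM_one, one_smul] at h2
  have h3 := tau_add hquad ((wM : SpecialLinearGroup (Fin 2) F) • x) (1 : F) (-1)
  rw [add_neg_cancel, uM_zero, one_smul, sub_self, h1, h2] at h3
  have h4 : hM (-1 : F) • x + x = 0 := by rw [h3]; abel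
  exact eq_neg_of_add_eq_zero_left h4

theorem u_w_star (hdis : ∀ v : M, v ∈ fixU F M → v ∈ fixL F M → v = 0)
    (hquad : ∀ (a : F) (v : M), uM a • v - v ∈ fixU F M) {x : M} (hx : x ∈ fixU F M) (a : F) :
    uM a • (wM : SpecialLinearGroup (Fin 2) F) • x
      = (wM : SpecialLinearGroup (Fin 2) F) • x - star a x := by
  by_cases ha : a = 0
  · rw [ha, uM_zero, one_smul, star_zero', sub_zero]
  · rw [u_w hdis hquad hx ha, star_of_ne ha]
    have e : hM (-a) = hM a * hM (-1) := by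
      rw [hM_mul ha (neg_ne_zero.mpr one_ne_zero)]; congr 1; ring
    rw [e, mul_smul, hneg_one hdis hquad hx, smul_neg]; abel

theorem star_add (hdis : ∀ v : M, v ∈ fixU F M → v ∈ fixL F M → v = 0)
    (hquad : ∀ (a : F) (v : M), uM a • v - v ∈ fixU F M) {x : M} (hx : x ∈ fixU F M) (a b : F) :
    star (a + b) x = star a x + star b x := by
  have h := tau_add hquad ((wM : SpecialLinearGroup (Fin 2) F) • x) a b
  rw [u_w_star hdis hquad hx, u_w_star hdis hquad hx, u_w_star hdis hquad hx] at h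
  have e : ∀ s : M, (wM : SpecialLinearGroup (Fin 2) F) • x - s
      - (wM : SpecialLinearGroup (Fin 2) F) • x = -s := fun s => by abel
  rw [e, e, e] at h
  have h' := congrArg (fun t => -t) h
  simp only [neg_neg, neg_add] at h'
  exact h'

theorem star_neg (hdis : ∀ v : M, v ∈ fixU F M → v ∈ fixL F M → v = 0)
    (hquad : ∀ (a : F) (v : M), uM a • v - v ∈ fixU F M) {x : M} (hx : x ∈ fixU F M) (a : F) :
    star (-a) x = -star a x := by
  have h := star_add hdis hquad hx a (-a)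
  rw [add_neg_cancel, star_zero'] at h
  exact eq_neg_of_add_eq_zero_right h.symm

/-- the coordinate map -/
noncomputable def Phi (hdis : ∀ v : M, v ∈ fixU F M → v ∈ fixL F M → v = 0)
    (hquad : ∀ (a : F) (v : M), uM a • v - v ∈ fixU F M) {x₀ : M} (hx₀ : x₀ ∈ fixU F M) :
    (Fin 2 → F) →+ M where
  toFun c := star (c 0) x₀ - (wM : SpecialLinearGroup (Fin 2) F) • star (c 1) x₀
  map_zero' := by simp [star_zero']
  map_add' c d := by
    simp only [Pi.add_apply]
    rw [star_add hdis hquad hx₀, star_add hdis hquad hx₀, smul_add]; abel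

theorem natural_of_quad
    (hirr : ∀ U : AddSubgroup M,
      (∀ g : SpecialLinearGroup (Fin 2) F, ∀ v ∈ U, g • v ∈ U) → U = ⊥ ∨ U = ⊤)
    (hdis : ∀ v : M, v ∈ fixU F M → v ∈ fixL F M → v = 0)
    (hquad : ∀ (a : F) (v : M), uM a • v - v ∈ fixU F M)
    {x₀ : M} (hx₀ : x₀ ∈ fixU F M) (hne : x₀ ≠ 0) :
    ∃ Φ : (Fin 2 → F) ≃+ M, ∀ (g : SpecialLinearGroup (Fin 2) F) (c : Fin 2 → F),
      Φ (g.1 *ᵥ c) = g • Φ c := by
  obtain ⟨Φ, hΦ⟩ : ∃ Φ, Φ = Phi hdis hquad hx₀ := ⟨_, rfl⟩
  have hΦapp : ∀ c, Φ c = star (c 0) x₀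
      - (wM : SpecialLinearGroup (Fin 2) F) • star (c 1) x₀ := fun c => by rw [hΦ]; rfl
  have hu : ∀ (t : F) (c : Fin 2 → F), Φ ((uM t).1 *ᵥ c) = uM t • Φ c := by
    intro t c
    rw [uM_mulVec, hΦapp, hΦapp]
    simp only [Matrix.cons_val_zero, Matrix.cons_val_one]
    rw [star_add hdis hquad hx₀, smul_sub, star_mem (c 0) hx₀ t,
      u_w_star hdis hquad (star_mem (c 1) hx₀), star_star]
    abel
  have hw : ∀ c : Fin 2 → F, Φ ((wM : SpecialLinearGroup (Fin 2) F).1 *ᵥ c)
      = (wM : SpecialLinearGroup (Fin 2) F) • Φ c := by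
    intro c
    rw [wM_mulVec, hΦapp, hΦapp]
    simp only [Matrix.cons_val_zero, Matrix.cons_val_one]
    rw [star_neg hdis hquad hx₀, smul_neg, smul_sub, ← mul_smul wM wM, wM_mul_wM,
      hneg_one hdis hquad (star_mem (c 1) hx₀)]
    abel
  have hall : ∀ (g : SpecialLinearGroup (Fin 2) F) (c : Fin 2 → F), Φ (g.1 *ᵥ c) = g • Φ c := by
    refine sl_induction (fun g => ∀ c : Fin 2 → F, Φ (g.1 *ᵥ c) = g • Φ c) hu hw ?_
    intro g h hg hh c
    have e : (g * h).1 = g.1 * h.1 := rfl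
    rw [e, ← Matrix.mulVec_mulVec, hg, hh, mul_smul]
  have hinj : Function.Injective Φ := by
    rw [injective_iff_map_eq_zero]
    intro c hc
    rw [hΦapp] at hc
    have h1 : star (c 0) x₀ = (wM : SpecialLinearGroup (Fin 2) F) • star (c 1) x₀ :=
      sub_eq_zero.mp hc
    have h2 : star (c 0) x₀ = 0 :=
      hdis _ (star_mem _ hx₀) (by rw [h1]; exact w_fixU (star_mem _ hx₀))
    have h3 : star (c 1) x₀ = 0 := by
      rw [h2] at h1
      exact (smul_eq_zero_iff_eq _).mp h1.symm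
    funext i
    fin_cases i
    · exact star_eq_zero h2 hne
    · exact star_eq_zero h3 hne
  have hsurj : Function.Surjective Φ := by
    have hr : Φ.range = ⊤ := by
      rcases hirr Φ.range (by rintro g _ ⟨c, rfl⟩; exact ⟨g.1 *ᵥ c, hall g c⟩) with h | h
      · exfalso
        have h0 : Φ ![1, 0] ∈ Φ.range := ⟨_, rfl⟩
        rw [h, AddSubgroup.mem_bot, hΦapp] at h0
        simp only [Matrix.cons_val_zero, Matrix.cons_val_one] at h0
        rw [star_one, star_zero', smul_zero, sub_zero] at h0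
        exact hne h0
      · exact h
    exact AddMonoidHom.range_eq_top.mp hr
  exact ⟨AddEquiv.ofBijective Φ ⟨hinj, hsurj⟩, hall⟩

/-- a `p`-group acting on a `p`-group has a fixed point modulo a proper invariant subgroup -/
theorem exists_fixed_mod {p : ℕ} [Fact p.Prime] {K : Type*} [Group K] (hK : IsPGroup p K)
    {N : Type*} [AddCommGroup N] [Finite N] [DistribMulAction K N] (hp : ∀ v : N, p • v = 0)
    (B : AddSubgroup N) (hB : ∀ k : K, ∀ v ∈ B, k • v ∈ B) (hne : B ≠ ⊤) :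
    ∃ v, v ∉ B ∧ ∀ k : K, k • v - v ∈ B := by
  classical
  have hcomap : ∀ k : K, B ≤ B.comap (DistribSMul.toAddMonoidHom N k) := fun k v hv => hB k v hv
  obtain ⟨f, hf⟩ : ∃ f : K → (N ⧸ B) → (N ⧸ B),
      ∀ (k : K) (v : N), f k (v : N ⧸ B) = ((k • v : N) : N ⧸ B) :=
    ⟨fun k => QuotientAddGroup.map B B (DistribSMul.toAddMonoidHom N k) (hcomap k),
      fun k v => rfl⟩
  letI act : MulAction K (N ⧸ B) :=
    { smul := f
      one_smul := by
        intro x
        induction x using QuotientAddGroup.induction_on with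
        | H v =>
          show f 1 (v : N ⧸ B) = v
          rw [hf, one_smul]
      mul_smul := by
        intro k k' x
        induction x using QuotientAddGroup.induction_on with
        | H v =>
          show f (k * k') (v : N ⧸ B) = f k (f k' (v : N ⧸ B))
          rw [hf, hf, hf, mul_smul] }
  have hsm : ∀ (k : K) (v : N), k • (v : N ⧸ B) = ((k • v : N) : N ⧸ B) := fun k v => hf k v
  obtain ⟨v₀, hv₀⟩ : ∃ v₀ : N, v₀ ∉ B := by
    by_contra h
    push Not at h
    exact hne (eq_top_iff.mpr fun v _ => h v)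
  have hx0 : (v₀ : N ⧸ B) ≠ 0 := fun h => hv₀ ((QuotientAddGroup.eq_zero_iff v₀).mp h)
  have hdvd : p ∣ Nat.card (N ⧸ B) := by
    have h1 : addOrderOf (v₀ : N ⧸ B) ∣ p := by
      apply addOrderOf_dvd_of_nsmul_eq_zero
      rw [← QuotientAddGroup.mk_nsmul, hp]; rfl
    have h2 : addOrderOf (v₀ : N ⧸ B) = p := by
      rcases (Nat.dvd_prime (Fact.out : p.Prime)).mp h1 with h | h
      · exact absurd (AddMonoid.addOrderOf_eq_one_iff.mp h) hx0
      · exact h
    rw [← h2]; exact addOrderOf_dvd_natCard _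
  have h0 : (0 : N ⧸ B) ∈ MulAction.fixedPoints K (N ⧸ B) := by
    intro k
    have := hsm k 0
    rw [smul_zero] at this
    exact this
  obtain ⟨b, hb, hb0⟩ := hK.exists_fixed_point_of_prime_dvd_card_of_fixed_point (N ⧸ B) hdvd h0
  induction b using QuotientAddGroup.induction_on with
  | H v =>
    refine ⟨v, fun hv => hb0 ?_, fun k => ?_⟩
    · exact ((QuotientAddGroup.eq_zero_iff v).mpr hv).symm
    · have := hb k
      rw [hsm] at this
      have h3 : ((k • v - v : N) : N ⧸ B) = 0 := by rw [QuotientAddGroup.mk_sub, this, sub_self]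
      exact (QuotientAddGroup.eq_zero_iff _).mp h3

variable (F M) in
/-- the part of `fixL` on which the upper unitriangular group acts quadratically -/
def quadL : AddSubgroup M where
  carrier := {y | y ∈ fixL F M ∧ ∀ a : F, uM a • y - y ∈ fixU F M}
  zero_mem' := ⟨zero_mem _, fun a => by rw [smul_zero, sub_zero]; exact zero_mem _⟩
  add_mem' := fun {y y'} h h' => ⟨add_mem h.1 h'.1, fun a => by
    have e : uM a • (y + y') - (y + y') = (uM a • y - y) + (uM a • y' - y') := by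
      rw [smul_add]; abel
    rw [e]; exact add_mem (h.2 a) (h'.2 a)⟩
  neg_mem' := fun {y} h => ⟨neg_mem h.1, fun a => by
    have e : uM a • (-y) - (-y) = -(uM a • y - y) := by rw [smul_neg]; abel
    rw [e]; exact neg_mem (h.2 a)⟩

theorem h_quadL {c : F} (hc : c ≠ 0) {y : M} (hy : y ∈ quadL F M) : hM c • y ∈ quadL F M := by
  refine ⟨h_fixL hc hy.1, fun a => ?_⟩
  have e : uM a • hM c • y - hM c • y = hM c • (uM (c⁻¹ * c⁻¹ * a) • y - y) := by
    rw [smul_sub, ← mul_smul, ← mul_smul, uM_mul_hM hc]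
  rw [e]; exact h_fixU hc (hy.2 _)

theorem W_inv (hdis : ∀ v : M, v ∈ fixU F M → v ∈ fixL F M → v = 0) :
    ∀ g : SpecialLinearGroup (Fin 2) F, ∀ v ∈ quadL F M ⊔ (quadL F M).map
      (DistribSMul.toAddMonoidHom M (wM : SpecialLinearGroup (Fin 2) F)), g • v ∈
      quadL F M ⊔ (quadL F M).map
        (DistribSMul.toAddMonoidHom M (wM : SpecialLinearGroup (Fin 2) F)) := by
  refine sl_induction (fun g => ∀ v ∈ quadL F M ⊔ (quadL F M).map
      (DistribSMul.toAddMonoidHom M (wM : SpecialLinearGroup (Fin 2) F)), g • v ∈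
      quadL F M ⊔ (quadL F M).map
        (DistribSMul.toAddMonoidHom M (wM : SpecialLinearGroup (Fin 2) F))) ?_ ?_ ?_
  · intro a v hv
    obtain ⟨y, hy, z, hz, rfl⟩ := AddSubgroup.mem_sup.mp hv
    obtain ⟨y', hy', rfl⟩ := AddSubgroup.mem_map.mp hz
    simp only [DistribSMul.toAddMonoidHom_apply]
    rw [smul_add, w_fixL hy'.1 a]
    by_cases ha : a = 0
    · rw [ha, uM_zero, one_smul]
      exact AddSubgroup.mem_sup.mpr ⟨y, hy, _, AddSubgroup.mem_map.mpr ⟨y', hy', rfl⟩, rfl⟩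
    · rw [key hdis hy.1 hy.2 ha, ← mul_smul, hM_mul_wM ha, mul_smul, add_assoc, ← smul_add]
      exact AddSubgroup.mem_sup.mpr ⟨y, hy, _, AddSubgroup.mem_map.mpr
        ⟨hM a⁻¹ • y + y', add_mem (h_quadL (inv_ne_zero ha) hy) hy', rfl⟩, rfl⟩
  · intro v hv
    obtain ⟨y, hy, z, hz, rfl⟩ := AddSubgroup.mem_sup.mp hv
    obtain ⟨y', hy', rfl⟩ := AddSubgroup.mem_map.mp hz
    simp only [DistribSMul.toAddMonoidHom_apply]
    rw [smul_add, ← mul_smul, wM_mul_wM, add_comm]
    exact AddSubgroup.mem_sup.mpr ⟨hM (-1) • y', h_quadL (neg_ne_zero.mpr one_ne_zero) hy', _,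
      AddSubgroup.mem_map.mpr ⟨y, hy, rfl⟩, rfl⟩
  · intro g h hg hh v hv
    rw [mul_smul]; exact hg _ (hh _ hv)

theorem quad_of_card {p : ℕ} [Fact p.Prime] [Finite M] (hpF : (p : F) = 0)
    (hp : ∀ v : M, p • v = 0)
    (hirr : ∀ U : AddSubgroup M,
      (∀ g : SpecialLinearGroup (Fin 2) F, ∀ v ∈ U, g • v ∈ U) → U = ⊥ ∨ U = ⊤)
    (hdis : ∀ v : M, v ∈ fixU F M → v ∈ fixL F M → v = 0)
    (hcard : Nat.card M ≤ Nat.card (fixU F M) ^ 2) :
    ∀ (a : F) (v : M), uM a • v - v ∈ fixU F M := by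
  have hLU : Nat.card (fixL F M) ≤ Nat.card (fixU F M) :=
    Nat.card_le_card_of_injective
      (fun y : fixL F M => (⟨(wM : SpecialLinearGroup (Fin 2) F) • y.1, w_fixL y.2⟩ : fixU F M))
      (by
        intro y y' h
        exact Subtype.ext (smul_left_cancel _ (congrArg Subtype.val h)))
  have hUL : Nat.card (fixU F M) ≤ Nat.card (fixL F M) :=
    Nat.card_le_card_of_injective
      (fun y : fixU F M => (⟨(wM : SpecialLinearGroup (Fin 2) F) • y.1, w_fixU y.2⟩ : fixL F M))
      (by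
        intro y y' h
        exact Subtype.ext (smul_left_cancel _ (congrArg Subtype.val h)))
  have hinj : Function.Injective (fun q : fixU F M × fixL F M => q.1.1 + q.2.1) := by
    rintro ⟨x, y⟩ ⟨x', y'⟩ h
    simp only at h
    have h1 : x.1 - x'.1 = y'.1 - y.1 := by
      rw [sub_eq_sub_iff_add_eq_add, h, add_comm]
    have h2 : x.1 - x'.1 = 0 := hdis _ (sub_mem x.2 x'.2) (by rw [h1]; exact sub_mem y'.2 y.2)
    have h3 : y'.1 - y.1 = 0 := by rw [← h1, h2]
    exact Prod.ext (Subtype.ext (sub_eq_zero.mp h2)) (Subtype.ext (sub_eq_zero.mp h3).symm)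
  have hbij := hinj.bijective_of_nat_card_le (by
      rw [Nat.card_prod]
      calc Nat.card M ≤ Nat.card (fixU F M) ^ 2 := hcard
        _ = Nat.card (fixU F M) * Nat.card (fixU F M) := sq _
        _ = Nat.card (fixU F M) * Nat.card (fixL F M) := by rw [le_antisymm hLU hUL])
  have hsum : ∀ v : M, ∃ x ∈ fixU F M, ∃ y ∈ fixL F M, v = x + y := by
    intro v
    obtain ⟨⟨x, y⟩, h⟩ := hbij.2 v
    exact ⟨x.1, x.2, y.1, y.2, h.symm⟩
  by_cases htop : fixU F M = ⊤
  · intro a v
    have hv : v ∈ fixU F M := htop ▸ AddSubgroup.mem_top v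
    rw [hv a, sub_self]; exact zero_mem _
  obtain ⟨v, hvU, hv⟩ : ∃ v, v ∉ fixU F M ∧ ∀ a : F, uM a • v - v ∈ fixU F M := by
    obtain ⟨v, hvU, hv⟩ := exists_fixed_mod (K := (uHom F).range) (isPGroup_uHom_range hpF) hp
      (fixU F M) (by
        rintro ⟨k, a, rfl⟩ v hv
        have e : (uHom F a) • v = v := hv _
        show (uHom F a) • v ∈ fixU F M
        rw [e]; exact hv) htop
    exact ⟨v, hvU, fun a => hv ⟨uM a, ⟨Multiplicative.ofAdd a, rfl⟩⟩⟩
  obtain ⟨x, hx, y, hy, rfl⟩ := hsum v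
  have hy0 : y ≠ 0 := by
    rintro rfl
    exact hvU (by rw [add_zero]; exact hx)
  have hyq : ∀ a : F, uM a • y - y ∈ fixU F M := by
    intro a
    have h := hv a
    rw [smul_add, hx a] at h
    have e : x + uM a • y - (x + y) = uM a • y - y := by abel
    rwa [e] at h
  have hyD : y ∈ quadL F M := ⟨hy, hyq⟩
  rcases hirr _ (W_inv hdis) with hW | hW
  · exfalso
    have h : y ∈ quadL F M ⊔ (quadL F M).map
      (DistribSMul.toAddMonoidHom M (wM : SpecialLinearGroup (Fin 2) F)) :=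
      AddSubgroup.mem_sup_left hyD
    rw [hW] at h
    exact hy0 (AddSubgroup.mem_bot.mp h)
  · have hall : ∀ y' ∈ fixL F M, y' ∈ quadL F M := by
      intro y' hy'
      have h : y' ∈ quadL F M ⊔ (quadL F M).map
        (DistribSMul.toAddMonoidHom M (wM : SpecialLinearGroup (Fin 2) F)) :=
        hW ▸ AddSubgroup.mem_top y'
      obtain ⟨d, hd, z, hz, hsum'⟩ := AddSubgroup.mem_sup.mp h
      obtain ⟨d', hd', rfl⟩ := AddSubgroup.mem_map.mp hz
      simp only [DistribSMul.toAddMonoidHom_apply] at hsum'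
      have h1 : (wM : SpecialLinearGroup (Fin 2) F) • d' = y' - d := by rw [← hsum']; abel
      have h2 : (wM : SpecialLinearGroup (Fin 2) F) • d' = 0 :=
        hdis _ (w_fixL hd'.1) (by rw [h1]; exact sub_mem hy' hd.1)
      rw [h2, add_zero] at hsum'
      rw [← hsum']; exact hd
    intro a v'
    obtain ⟨x', hx', y', hy', rfl⟩ := hsum v'
    have e : uM a • (x' + y') - (x' + y') = uM a • y' - y' := by rw [smul_add, hx' a]; abel
    rw [e]; exact (hall y' hy').2 a

variable (F M) in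
/-- fixed points of the whole group -/
def fixAll : AddSubgroup M where
  carrier := {v | ∀ g : SpecialLinearGroup (Fin 2) F, g • v = v}
  zero_mem' := fun g => smul_zero _
  add_mem' := fun {x y} hx hy g => by rw [smul_add, hx g, hy g]
  neg_mem' := fun {x} hx g => by rw [smul_neg, hx g]

/-- The main abstract theorem. -/
theorem natural_module {p : ℕ} [Fact p.Prime] [Finite M] (hpF : (p : F) = 0)
    (hp : ∀ v : M, p • v = 0)
    (hirr : ∀ U : AddSubgroup M,
      (∀ g : SpecialLinearGroup (Fin 2) F, ∀ v ∈ U, g • v ∈ U) → U = ⊥ ∨ U = ⊤)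
    (hnt : ∃ (g : SpecialLinearGroup (Fin 2) F) (v : M), g • v ≠ v)
    (g₀ : SpecialLinearGroup (Fin 2) F)
    (hyp : (∀ (a b : F) (v : M), (g₀ * uM b * g₀⁻¹) • (v - (g₀ * uM a * g₀⁻¹) • v)
        = v - (g₀ * uM a * g₀⁻¹) • v) ∨
      Nat.card M ≤ Nat.card {v : M // ∀ a : F, (g₀ * uM a * g₀⁻¹) • v = v} ^ 2) :
    ∃ Φ : (Fin 2 → F) ≃+ M, ∀ (g : SpecialLinearGroup (Fin 2) F) (c : Fin 2 → F),
      Φ (g.1 *ᵥ c) = g • Φ c := by
  have hdis : ∀ v : M, v ∈ fixU F M → v ∈ fixL F M → v = 0 := by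
    intro v hU hL
    have hfix : v ∈ fixAll F M := by
      refine sl_induction (fun g => g • v = v) hU ?_ ?_
      · show (wM : SpecialLinearGroup (Fin 2) F) • v = v
        rw [wM_eq, mul_smul, mul_smul, hU, hL, hU]
      · intro g h hg hh
        show (g * h) • v = v
        rw [mul_smul, hh, hg]
    rcases hirr (fixAll F M) (by
        intro g u hu h
        have e : h • g • u = g • (g⁻¹ * h * g) • u := by
          rw [← mul_smul, ← mul_smul]; congr 1; group
        rw [e, hu]) with h | h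
    · rw [h] at hfix; exact AddSubgroup.mem_bot.mp hfix
    · exfalso
      obtain ⟨g, u, hgu⟩ := hnt
      have hu : u ∈ fixAll F M := h ▸ AddSubgroup.mem_top u
      exact hgu (hu g)
  have hquad : ∀ (a : F) (v : M), uM a • v - v ∈ fixU F M := by
    rcases hyp with hq | hc
    · intro a v b
      have h := hq a b (g₀ • v)
      have e1 : ∀ (c : F) (u : M), (g₀ * uM c * g₀⁻¹) • g₀ • u = g₀ • uM c • u := by
        intro c u; rw [← mul_smul, ← mul_smul]; congr 1; group
      rw [e1 a, ← smul_sub, e1 b, smul_left_cancel_iff] at h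
      have e2 : uM a • v - v = -(v - uM a • v) := by abel
      rw [e2, smul_neg, h]
    · apply quad_of_card hpF hp hirr hdis
      refine hc.trans (Nat.pow_le_pow_left ?_ 2)
      exact Nat.card_le_card_of_injective
        (fun v : {v : M // ∀ a : F, (g₀ * uM a * g₀⁻¹) • v = v} =>
          (⟨g₀⁻¹ • v.1, fun a => by
            have h := v.2 a
            rw [← mul_smul]
            conv_rhs => rw [← h]
            rw [← mul_smul]; congr 1; group⟩ : fixU F M))
        (by
          intro v v' h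
          exact Subtype.ext (smul_left_cancel _ (congrArg Subtype.val h)))
  obtain ⟨x₀, hx₀, hne⟩ : ∃ x₀ ∈ fixU F M, x₀ ≠ 0 := by
    by_contra hcon
    push Not at hcon
    obtain ⟨g, v, hgv⟩ := hnt
    have h0 : ∀ v : M, v = 0 := fun v =>
      hcon v (fun a => sub_eq_zero.mp (hcon _ (hquad a v)))
    exact hgv (by rw [h0 v, smul_zero])
  exact natural_of_quad hirr hdis hquad hx₀ hne

end Module

end Cfsg.Agent.Lib.helper56.SL2Nat
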