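import Mathlib
import Cfsg.Agent.Lib.helper56.SL2Nat
import Cfsg.Agent.Lib.helper56.HigR

set_option autoImplicit false

/-!
Modules for `SL₂(K)`, `K` a perfect field of characteristic two, on which an element of order
three acts fixed point freely (Higman): elementary abelian ones are sums of natural modules,
and equivariant biadditive maps between them vanish.
-/

namespace Cfsg.Agent.Lib.helper56.HigM

open Matrix
open Cfsg.Agent.Lib.helper56.SL2Nat

section Mat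

variable {K : Type*} [Field K] [CharP K 2]

theorem uM_sq (a : K) : uM a * uM a = 1 := by
  rw [uM_mul, CharTwo.add_self_eq_zero, uM_zero]

theorem lM_sq (a : K) : lM a * lM a = 1 := by
  rw [lM_mul, CharTwo.add_self_eq_zero, lM_zero]

theorem wM_sq : (wM : SpecialLinearGroup (Fin 2) K) * wM = 1 := by
  rw [wM_mul_wM, CharTwo.neg_eq, hM_one]

theorem wuw (b : K) : wM * uM b * wM = lM b := by
  rw [lM_eq b, CharTwo.neg_eq, mul_assoc (wM * uM b * wM), wM_sq, mul_one]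

theorem wlw (b : K) : wM * lM b * wM = uM b := by
  rw [← wuw, ← mul_assoc, ← mul_assoc, wM_sq, one_mul, mul_assoc, wM_sq, mul_one]

theorem om_sq {a : K} (ha : a ≠ 0) : (hM a * wM) * (hM a * wM) = 1 := by
  calc (hM a * wM) * (hM a * wM) = (wM * hM a⁻¹) * (hM a * wM) := by rw [hM_mul_wM ha]
    _ = wM * (hM a⁻¹ * hM a) * wM := by group
    _ = 1 := by rw [hM_mul (inv_ne_zero ha) ha, inv_mul_cancel₀ ha, hM_one, mul_one, wM_sq]

theorem y_val {a : K} (ha : a ≠ 0) : (uM a * lM a⁻¹).1 = !![0, a; a⁻¹, 1] := by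
  show (uM a).1 * (lM a⁻¹).1 = _
  rw [uM_val, lM_val]
  ext i j
  fin_cases i <;> fin_cases j <;>
    simp [Matrix.mul_apply, Fin.sum_univ_two, ha, CharTwo.add_self_eq_zero]

theorem ulu {a : K} (ha : a ≠ 0) : uM a * lM a⁻¹ * uM a = hM a * wM := by
  apply sl_ext
  show (uM a * lM a⁻¹).1 * (uM a).1 = (hM a).1 * wM.1
  rw [y_val ha, uM_val, hM_val ha, wM_val]
  ext i j
  fin_cases i <;> fin_cases j <;>
    simp [Matrix.mul_apply, Fin.sum_univ_two, ha, CharTwo.add_self_eq_zero, CharTwo.neg_eq]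

theorem y_cube {a : K} (ha : a ≠ 0) :
    (uM a * lM a⁻¹) * (uM a * lM a⁻¹) * (uM a * lM a⁻¹) = 1 := by
  apply sl_ext
  show (uM a * lM a⁻¹).1 * (uM a * lM a⁻¹).1 * (uM a * lM a⁻¹).1 = 1
  rw [y_val ha]
  have e : (!![0, a; a⁻¹, 1] : Matrix (Fin 2) (Fin 2) K) * !![0, a; a⁻¹, 1] = !![1, a; a⁻¹, 0] := by
    ext i j
    fin_cases i <;> fin_cases j <;>
      simp [Matrix.mul_apply, Fin.sum_univ_two, ha, CharTwo.add_self_eq_zero]
  rw [e]
  ext i j
  fin_cases i <;> fin_cases j <;>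
    simp [Matrix.mul_apply, Fin.sum_univ_two, ha, CharTwo.add_self_eq_zero]

theorem om_l_om {a : K} (ha : a ≠ 0) : (hM a * wM) * lM 1 * (hM a * wM) = uM (a * a) := by
  have e : uM 1 * hM a⁻¹ = hM a⁻¹ * uM (a * a) := by
    rw [uM_mul_hM (inv_ne_zero ha), inv_inv, mul_one]
  calc (hM a * wM) * lM 1 * (hM a * wM) = (hM a * wM) * lM 1 * (wM * hM a⁻¹) := by
        rw [hM_mul_wM ha]
    _ = hM a * (wM * lM 1 * wM) * hM a⁻¹ := by group
    _ = hM a * (uM 1 * hM a⁻¹) := by rw [wlw, mul_assoc]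
    _ = uM (a * a) := by
        rw [e, ← mul_assoc, hM_mul ha (inv_ne_zero ha), mul_inv_cancel₀ ha, hM_one, one_mul]

omit [CharP K 2] in
theorem h_conj_y {c : K} (hc : c ≠ 0) :
    hM c * (uM 1 * lM 1) = (uM (c * c) * lM (c * c)⁻¹) * hM c := by
  have e1 : uM (c * c) * hM c = hM c * uM 1 := by
    rw [uM_mul_hM hc]; congr 2; field_simp
  have e2 : lM (c * c)⁻¹ * hM c = hM c * lM 1 := by
    rw [lM_mul_hM hc]; congr 2; field_simp
  calc hM c * (uM 1 * lM 1) = (hM c * uM 1) * lM 1 := by group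
    _ = uM (c * c) * (hM c * lM 1) := by rw [← e1]; group
    _ = (uM (c * c) * lM (c * c)⁻¹) * hM c := by rw [← e2]; group

end Mat

/-- arithmetic in an abelian group of exponent two -/
theorem char2 {R : Type*} [AddCommGroup R] (h2 : ∀ r : R, r + r = 0) :
    (∀ r : R, (2 : ℤ) • r = 0) ∧ (∀ r : R, (3 : ℤ) • r = r) ∧ (∀ r : R, (4 : ℤ) • r = 0) ∧
      (∀ r : R, (5 : ℤ) • r = r) ∧ (∀ r : R, (6 : ℤ) • r = 0) ∧ (∀ r : R, -r = r) ∧
      (∀ r s : R, r - s = r + s) := by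
  have hn2 : ∀ r : R, (2 : ℤ) • r = 0 := fun r => by rw [two_zsmul, h2]
  have hn3 : ∀ r : R, (3 : ℤ) • r = r := fun r => by
    have : (3 : ℤ) = 2 + 1 := by norm_num
    rw [this, add_zsmul, hn2, one_zsmul, zero_add]
  have hn4 : ∀ r : R, (4 : ℤ) • r = 0 := fun r => by
    have : (4 : ℤ) = 2 + 2 := by norm_num
    rw [this, add_zsmul, hn2, zero_add]
  have hn5 : ∀ r : R, (5 : ℤ) • r = r := fun r => by
    have : (5 : ℤ) = 4 + 1 := by norm_num
    rw [this, add_zsmul, hn4, one_zsmul, zero_add]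
  have hn6 : ∀ r : R, (6 : ℤ) • r = 0 := fun r => by
    have : (6 : ℤ) = 4 + 2 := by norm_num
    rw [this, add_zsmul, hn4, hn2, zero_add]
  have hneg : ∀ r : R, -r = r := fun r => neg_eq_of_add_eq_zero_left (h2 r)
  exact ⟨hn2, hn3, hn4, hn5, hn6, hneg, fun r s => by rw [sub_eq_add_neg, hneg]⟩

section Module

variable {K : Type*} [Field K] [CharP K 2]
variable {V : Type*} [AddCommGroup V] [DistribMulAction (SpecialLinearGroup (Fin 2) K) V]

/-- all the conjugates `u(a) l(a⁻¹)` act fixed point freely -/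
theorem fpf_all (hsq : ∀ a : K, ∃ b, b * b = a)
    (hfpf : ∀ v : V, (uM (1 : K) * lM 1) • v = v → v = 0) {a : K} (ha : a ≠ 0) (v : V)
    (h : (uM a * lM a⁻¹) • v = v) : v = 0 := by
  obtain ⟨c, rfl⟩ := hsq a
  have hc : c ≠ 0 := fun h0 => ha (by rw [h0, mul_zero])
  have e := h_conj_y hc
  have h1 : (uM (1 : K) * lM 1) • ((hM c)⁻¹ • v) = (hM c)⁻¹ • v := by
    have e' : (uM (1 : K) * lM 1) * (hM c)⁻¹ = (hM c)⁻¹ * (uM (c * c) * lM (c * c)⁻¹) := by
      rw [eq_inv_mul_iff_mul_eq, ← mul_assoc, e, mul_assoc, mul_inv_cancel, mul_one]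
    rw [← mul_smul, e', mul_smul, h]
  have h2 := hfpf _ h1
  exact (smul_eq_zero_iff_eq _).mp h2

/-- the `S₃`-relation -/
theorem s3rel (hsq : ∀ a : K, ∃ b, b * b = a)
    (hfpf : ∀ v : V, (uM (1 : K) * lM 1) • v = v → v = 0) {a : K} (ha : a ≠ 0) (v : V) :
    uM a • v + lM a⁻¹ • v + (hM a * wM) • v = 0 := by
  obtain ⟨y, hy⟩ : ∃ y, y = uM a * lM a⁻¹ := ⟨_, rfl⟩
  have hy3 : y * y * y = 1 := by rw [hy]; exact y_cube ha
  obtain ⟨t, ht⟩ : ∃ t, t = lM a⁻¹ • v + y • lM a⁻¹ • v + y • y • lM a⁻¹ • v := ⟨_, rfl⟩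
  have hfix : y • t = t := by
    rw [ht, smul_add, smul_add]
    have e : y • y • y • lM a⁻¹ • v = lM a⁻¹ • v := by
      rw [← mul_smul, ← mul_smul, hy3, one_smul]
    rw [e]; abel
  have ht0 : t = 0 := fpf_all hsq hfpf ha t (hy ▸ hfix)
  have e1 : y • lM a⁻¹ • v = uM a • v := by
    rw [hy, ← mul_smul, mul_assoc, lM_sq, mul_one]
  have e2 : y • uM a • v = (hM a * wM) • v := by
    rw [hy, ← mul_smul, ulu ha]
  rw [e1, e2] at ht
  rw [← ht0, ht]; abel

/-- the `S₃`-relation in characteristic two -/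
theorem s3rel2 (hsq : ∀ a : K, ∃ b, b * b = a) (h2 : ∀ v : V, v + v = 0)
    (hfpf : ∀ v : V, (uM (1 : K) * lM 1) • v = v → v = 0) {a : K} (ha : a ≠ 0) (v : V) :
    (hM a * wM) • v = uM a • v + lM a⁻¹ • v := by
  have h := s3rel hsq hfpf ha v
  have h' := eq_neg_of_add_eq_zero_right h
  rw [h', neg_eq_of_add_eq_zero_left (h2 _)]

/-- quadratic action, first form (from Lemma R) -/
theorem quadX (hsq : ∀ a : K, ∃ b, b * b = a) (h2 : ∀ v : V, v + v = 0)
    (hfpf : ∀ v : V, (uM (1 : K) * lM 1) • v = v → v = 0) {a : K} (ha : a ≠ 0) (v : V) :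
    uM a • (uM (1 : K) • v + v) = uM (1 : K) • v + v := by
  obtain ⟨Θ, hΘ⟩ : ∃ Θ : SpecialLinearGroup (Fin 2) K →* AddMonoid.End V, ∀ g v, Θ g v = g • v :=
    ⟨DistribMulAction.toAddMonoidEnd _ V, fun g v => rfl⟩
  have h2R : ∀ r : AddMonoid.End V, r + r = 0 := fun r => by
    ext v; exact h2 (r v)
  obtain ⟨z2, z3, z4, z5, z6, zn, zs⟩ := char2 h2R
  have hS3 : ∀ a : K, a ≠ 0 → Θ (hM a * wM) = Θ (uM a) + Θ (lM a⁻¹) := by
    intro a ha
    ext v
    show Θ (hM a * wM) v = Θ (uM a) v + Θ (lM a⁻¹) v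
    rw [hΘ, hΘ, hΘ]
    exact s3rel2 hsq h2 hfpf ha v
  have hJ : Θ wM = Θ (uM 1) + Θ (lM 1) := by
    have := hS3 1 one_ne_zero
    rwa [hM_one, one_mul, inv_one] at this
  have hXY' : Θ (uM 1) + 1 + (Θ (lM 1) + 1) = Θ wM := by
    rw [hJ]
    abel_nf
    simp only [z2, z3, z4, z5, z6, add_zero, zero_add]
  have hWa : ∀ a : K, a ≠ 0 →
      Θ (uM a) + 1 + Θ wM * (Θ (uM a⁻¹) + 1) * Θ wM = Θ (hM a * wM) := by
    intro a ha
    rw [hS3 a ha]
    simp only [mul_add, add_mul, mul_one, ← map_mul, wuw, wM_sq, map_one]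
    abel_nf
    simp only [z2, z3, z4, z5, z6, add_zero, zero_add]
  have key := HigR.lemmaR (K := K) (R := AddMonoid.End V) (CharTwo.add_self_eq_zero 1) hsq h2R
    (fun a => Θ (uM a) + 1) (Θ (lM 1) + 1) ?_ ?_ ?_ ?_ ?_ ?_ ?_
  · have h' : Θ (uM a) (Θ (uM 1) v + v) + (Θ (uM 1) v + v) = 0 :=
      DFunLike.congr_fun (key a ha) v
    rw [hΘ, hΘ] at h'
    have h'' := eq_neg_of_add_eq_zero_left h'
    rw [h'', neg_eq_of_add_eq_zero_left (h2 _)]
  · simp only [add_mul, mul_add, mul_one, one_mul, ← map_mul, lM_sq, map_one]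
    abel_nf
    simp only [z2, z3, z4, z5, z6, add_zero, zero_add]
  · beta_reduce
    have e : Θ (uM 1 * lM 1) = 1 + Θ (lM 1 * uM 1) := by
      have h1 : uM (1 : K) * lM 1 = wM * uM 1 := by
        have := ulu (K := K) one_ne_zero
        rw [inv_one, hM_one, one_mul] at this
        rw [← this, mul_assoc, uM_sq, mul_one]
      rw [h1, map_mul, hJ, add_mul, ← map_mul, ← map_mul, uM_sq, map_one]
    simp only [add_mul, mul_add, mul_one, one_mul, ← map_mul, e]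
    abel_nf
    simp only [z2, z3, z4, z5, z6, add_zero, zero_add]
  · intro a
    beta_reduce
    simp only [add_mul, mul_add, mul_one, one_mul, ← map_mul, uM_mul, add_comm 1 a]
    abel
  · intro a
    beta_reduce
    simp only [add_mul, mul_add, mul_one, one_mul, ← map_mul, uM_sq, map_one]
    abel_nf
    simp only [z2, z3, z4, z5, z6, add_zero, zero_add]
  · intro a
    beta_reduce
    simp only [add_mul, mul_add, mul_one, one_mul, ← map_mul, uM_mul]
    abel_nf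
    simp only [z2, z3, z4, z5, z6, add_zero, zero_add]
  · intro a ha
    beta_reduce
    rw [hXY', hWa a ha, ← map_mul, om_sq ha, map_one]
  · intro a ha
    beta_reduce
    rw [hXY', hWa a ha]
    simp only [mul_add, add_mul, mul_one, ← map_mul, om_l_om ha, om_sq ha, map_one]

/-- `X Y + Y X = 1` at the level of vectors -/
theorem xy_decomp (hsq : ∀ a : K, ∃ b, b * b = a) (h2 : ∀ v : V, v + v = 0)
    (hfpf : ∀ v : V, (uM (1 : K) * lM 1) • v = v → v = 0) (v : V) :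
    v = (uM (1 : K) • (lM (1 : K) • v + v) + (lM (1 : K) • v + v))
      + (lM (1 : K) • (uM (1 : K) • v + v) + (uM (1 : K) • v + v)) := by
  obtain ⟨z2, z3, z4, z5, z6, zn, zs⟩ := char2 h2
  have h1 := s3rel2 hsq h2 hfpf (a := (1 : K)) one_ne_zero (uM (1 : K) • v)
  rw [hM_one, one_mul, inv_one] at h1
  have h3 : (wM : SpecialLinearGroup (Fin 2) K) • uM (1 : K) • v
      = uM (1 : K) • lM (1 : K) • v := by
    have e0 := ulu (K := K) one_ne_zero
    rw [inv_one, hM_one, one_mul] at e0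
    have e : uM (1 : K) * lM 1 * uM 1 * uM 1 = uM 1 * lM 1 := by
      rw [mul_assoc (uM 1 * lM 1), uM_sq, mul_one]
    rw [← e0, ← mul_smul, e, mul_smul]
  rw [h3, ← mul_smul (uM 1) (uM 1), uM_sq, one_smul] at h1
  simp only [smul_add]
  rw [h1]
  abel_nf
  simp only [z2, z3, z4, z5, z6, add_zero, zero_add]

/-- **Theorem M**: the fixed points of `u(1)` are fixed by all `u(a)`. -/
theorem theoremM1 (hsq : ∀ a : K, ∃ b, b * b = a) (h2 : ∀ v : V, v + v = 0)
    (hfpf : ∀ v : V, (uM (1 : K) * lM 1) • v = v → v = 0) {v : V}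
    (hv : uM (1 : K) • v = v) : v ∈ fixU K V := by
  intro a
  by_cases ha : a = 0
  · rw [ha, uM_zero, one_smul]
  have e := xy_decomp hsq h2 hfpf v
  rw [hv, h2 v, smul_zero, add_zero, add_zero] at e
  rw [e, quadX hsq h2 hfpf ha]

theorem hquad (hsq : ∀ a : K, ∃ b, b * b = a) (h2 : ∀ v : V, v + v = 0)
    (hfpf : ∀ v : V, (uM (1 : K) * lM 1) • v = v → v = 0) :
    ∀ (a : K) (v : V), uM a • v - v ∈ fixU K V := by
  intro a v
  obtain ⟨z2, z3, z4, z5, z6, zn, zs⟩ := char2 h2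
  rw [zs]
  apply theoremM1 hsq h2 hfpf
  by_cases ha : a = 0
  · rw [ha, uM_zero, one_smul, h2, smul_zero]
  have h := quadX hsq h2 hfpf ha v
  rw [smul_add] at h
  have e : uM (1 : K) • uM a • v = uM a • uM (1 : K) • v := by
    rw [← mul_smul, ← mul_smul, uM_mul, uM_mul, add_comm]
  have h' : uM a • uM (1 : K) • v = uM (1 : K) • v + v + uM a • v := by
    have := eq_sub_of_add_eq h
    rw [this, zs]
  rw [smul_add, e, h']
  abel_nf
  simp only [z2, z3, z4, z5, z6, add_zero, zero_add]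

omit [CharP K 2] in
theorem hdis (hfpf : ∀ v : V, (uM (1 : K) * lM 1) • v = v → v = 0) :
    ∀ v : V, v ∈ fixU K V → v ∈ fixL K V → v = 0 :=
  fun v hU hL => hfpf v (by rw [mul_smul, hL 1, hU 1])

theorem wM_smul_wM (v : V) : (wM : SpecialLinearGroup (Fin 2) K)
    • (wM : SpecialLinearGroup (Fin 2) K) • v = v := by
  rw [← mul_smul, wM_sq, one_smul]

theorem u_w_star2 (hsq : ∀ a : K, ∃ b, b * b = a) (h2 : ∀ v : V, v + v = 0)
    (hfpf : ∀ v : V, (uM (1 : K) * lM 1) • v = v → v = 0) {x : V} (hx : x ∈ fixU K V) (a : K) :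
    uM a • (wM : SpecialLinearGroup (Fin 2) K) • x
      = (wM : SpecialLinearGroup (Fin 2) K) • x + star a x := by
  rw [u_w_star (hdis hfpf) (hquad hsq h2 hfpf) hx, (char2 h2).2.2.2.2.2.2]

omit [CharP K 2] in
theorem star_vadd (a : K) (x y : V) : star a (x + y) = star a x + star a y := by
  by_cases ha : a = 0
  · rw [ha, star_zero', star_zero', star_zero', add_zero]
  · rw [star_of_ne ha, star_of_ne ha, star_of_ne ha, smul_add]

omit [CharP K 2] in
theorem star_v0 (a : K) : star a (0 : V) = 0 := by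
  by_cases ha : a = 0
  · rw [ha, star_zero']
  · rw [star_of_ne ha, smul_zero]

theorem decomp (hsq : ∀ a : K, ∃ b, b * b = a) (h2 : ∀ v : V, v + v = 0)
    (hfpf : ∀ v : V, (uM (1 : K) * lM 1) • v = v → v = 0) (v : V) :
    ∃ α ∈ fixU K V, ∃ α' ∈ fixU K V,
      v = α + (wM : SpecialLinearGroup (Fin 2) K) • α' := by
  have e := xy_decomp hsq h2 hfpf v
  obtain ⟨z2, z3, z4, z5, z6, zn, zs⟩ := char2 h2
  refine ⟨uM (1 : K) • (lM (1 : K) • v + v) + (lM (1 : K) • v + v), ?_,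
    uM (1 : K) • (wM : SpecialLinearGroup (Fin 2) K) • (uM (1 : K) • v + v)
      + (wM : SpecialLinearGroup (Fin 2) K) • (uM (1 : K) • v + v), ?_, ?_⟩
  · have := hquad hsq h2 hfpf 1 (lM (1 : K) • v + v)
    rwa [zs] at this
  · have := hquad hsq h2 hfpf 1 ((wM : SpecialLinearGroup (Fin 2) K) • (uM (1 : K) • v + v))
    rwa [zs] at this
  · have e3 : ∀ w' : V, (wM : SpecialLinearGroup (Fin 2) K)
        • (uM (1 : K) • (wM : SpecialLinearGroup (Fin 2) K) • w'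
          + (wM : SpecialLinearGroup (Fin 2) K) • w') = lM (1 : K) • w' + w' := by
      intro w'
      rw [smul_add, wM_smul_wM, ← mul_smul, ← mul_smul, wuw]
    rw [e3]
    exact e

/-- the `K`-vector space structure on the fixed points of the unipotent group -/
noncomputable def modA (hsq : ∀ a : K, ∃ b, b * b = a) (h2 : ∀ v : V, v + v = 0)
    (hfpf : ∀ v : V, (uM (1 : K) * lM 1) • v = v → v = 0) : Module K ↥(fixU K V) where
  smul a x := ⟨star a x.1, star_mem a x.2⟩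
  one_smul x := Subtype.ext (star_one x.1)
  mul_smul a b x := Subtype.ext (star_star a b x.1).symm
  smul_zero a := Subtype.ext (star_v0 a)
  smul_add a x y := Subtype.ext (star_vadd a x.1 y.1)
  add_smul a b x := Subtype.ext (star_add (hdis hfpf) (hquad hsq h2 hfpf) x.2 a b)
  zero_smul x := Subtype.ext (star_zero' x.1)

/-- **Theorem D**: an elementary abelian module with a fixed-point-free element of order three
is a direct sum of natural modules. -/
theorem natural_sum [Finite V] (hsq : ∀ a : K, ∃ b, b * b = a) (h2 : ∀ v : V, v + v = 0)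
    (hfpf : ∀ v : V, (uM (1 : K) * lM 1) • v = v → v = 0) :
    ∃ (k : ℕ) (Ψ : (Fin k → Fin 2 → K) ≃+ V),
      ∀ (g : SpecialLinearGroup (Fin 2) K) (c : Fin k → Fin 2 → K),
        Ψ (fun i => g.1 *ᵥ c i) = g • Ψ c := by
  obtain ⟨z2, z3, z4, z5, z6, zn, zs⟩ := char2 h2
  letI := modA hsq h2 hfpf
  haveI : Module.Finite K ↥(fixU K V) := Module.Finite.of_finite
  obtain ⟨k, hk⟩ : ∃ k, k = Module.finrank K ↥(fixU K V) := ⟨_, rfl⟩
  obtain ⟨L₀⟩ : Nonempty ((Fin k → K) ≃ₗ[K] ↥(fixU K V)) := by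
    subst hk
    exact ⟨(Module.finBasis K ↥(fixU K V)).equivFun.symm⟩
  have hsm : ∀ (t : K) (α : ↥(fixU K V)), ((t • α : ↥(fixU K V)) : V) = star t α.1 :=
    fun t α => rfl
  obtain ⟨Ψ₀, hΨ₀⟩ : ∃ Ψ₀ : (Fin k → Fin 2 → K) →+ V, ∀ c, Ψ₀ c
      = (L₀ (fun i => c i 0)).1
        + (wM : SpecialLinearGroup (Fin 2) K) • (L₀ (fun i => c i 1)).1 := by
    refine ⟨{ toFun := fun c => (L₀ (fun i => c i 0)).1
                + (wM : SpecialLinearGroup (Fin 2) K) • (L₀ (fun i => c i 1)).1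
              map_zero' := ?_
              map_add' := ?_ }, fun c => rfl⟩
    · have e0 : (fun i : Fin k => (0 : Fin k → Fin 2 → K) i 0) = 0 := rfl
      have e1 : (fun i : Fin k => (0 : Fin k → Fin 2 → K) i 1) = 0 := rfl
      rw [e0, e1, map_zero]
      simp
    · intro c d
      have e0 : (fun i => (c + d) i 0) = (fun i => c i 0) + (fun i => d i 0) := rfl
      have e1 : (fun i => (c + d) i 1) = (fun i => c i 1) + (fun i => d i 1) := rfl
      rw [e0, e1, map_add, map_add]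
      simp only [AddSubgroup.coe_add, smul_add]
      abel
  have hu : ∀ (t : K) (c : Fin k → Fin 2 → K),
      Ψ₀ (fun i => (uM t).1 *ᵥ c i) = uM t • Ψ₀ c := by
    intro t c
    rw [hΨ₀, hΨ₀]
    have e0 : (fun i => ((uM t).1 *ᵥ c i) 0) = (fun i => c i 0) + t • (fun i => c i 1) := by
      funext i
      rw [uM_mulVec]
      simp
    have e1 : (fun i => ((uM t).1 *ᵥ c i) 1) = (fun i => c i 1) := by
      funext i
      rw [uM_mulVec]
      simp
    rw [e0, e1, map_add, map_smul, AddSubgroup.coe_add, hsm, smul_add,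
      (L₀ (fun i => c i 0)).2 t, u_w_star2 hsq h2 hfpf (L₀ (fun i => c i 1)).2]
    abel
  have hw : ∀ c : Fin k → Fin 2 → K,
      Ψ₀ (fun i => (wM : SpecialLinearGroup (Fin 2) K).1 *ᵥ c i)
        = (wM : SpecialLinearGroup (Fin 2) K) • Ψ₀ c := by
    intro c
    rw [hΨ₀, hΨ₀]
    have e0 : (fun i => ((wM : SpecialLinearGroup (Fin 2) K).1 *ᵥ c i) 0)
        = (fun i => c i 1) := by
      funext i
      rw [wM_mulVec]
      simp
    have e1 : (fun i => ((wM : SpecialLinearGroup (Fin 2) K).1 *ᵥ c i) 1)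
        = (fun i => c i 0) := by
      funext i
      rw [wM_mulVec]
      simp [CharTwo.neg_eq]
    rw [e0, e1, smul_add, wM_smul_wM, add_comm]
  have hall : ∀ (g : SpecialLinearGroup (Fin 2) K) (c : Fin k → Fin 2 → K),
      Ψ₀ (fun i => g.1 *ᵥ c i) = g • Ψ₀ c := by
    refine sl_induction (fun g => ∀ c : Fin k → Fin 2 → K,
      Ψ₀ (fun i => g.1 *ᵥ c i) = g • Ψ₀ c) hu hw ?_
    intro g h hg hh c
    have e : (fun i => (g * h).1 *ᵥ c i) = (fun i => g.1 *ᵥ (h.1 *ᵥ c i)) := by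
      funext i
      have e' : (g * h).1 = g.1 * h.1 := rfl
      rw [e', ← Matrix.mulVec_mulVec]
    rw [e, hg, hh, mul_smul]
  have hinj : Function.Injective Ψ₀ := by
    rw [injective_iff_map_eq_zero]
    intro c hc
    rw [hΨ₀] at hc
    have h1 : (L₀ (fun i => c i 0)).1
        = (wM : SpecialLinearGroup (Fin 2) K) • (L₀ (fun i => c i 1)).1 := by
      have := eq_neg_of_add_eq_zero_left hc
      rw [this, zn]
    have h2' : (L₀ (fun i => c i 0)).1 = 0 :=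
      hdis hfpf _ (L₀ (fun i => c i 0)).2 (by rw [h1]; exact w_fixU (L₀ (fun i => c i 1)).2)
    have h3 : (L₀ (fun i => c i 1)).1 = 0 := by
      rw [h2'] at h1
      exact (smul_eq_zero_iff_eq _).mp h1.symm
    have h4 : (fun i => c i 0) = 0 :=
      L₀.injective (by rw [map_zero]; exact Subtype.ext h2')
    have h5 : (fun i => c i 1) = 0 :=
      L₀.injective (by rw [map_zero]; exact Subtype.ext h3)
    funext i j
    fin_cases j
    · exact congrFun h4 i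
    · exact congrFun h5 i
  have hsurj : Function.Surjective Ψ₀ := by
    intro v
    obtain ⟨α, hα, α', hα', rfl⟩ := decomp hsq h2 hfpf v
    refine ⟨fun i => ![L₀.symm ⟨α, hα⟩ i, L₀.symm ⟨α', hα'⟩ i], ?_⟩
    rw [hΨ₀]
    have e0 : (fun i => (![L₀.symm ⟨α, hα⟩ i, L₀.symm ⟨α', hα'⟩ i] : Fin 2 → K) 0)
        = L₀.symm ⟨α, hα⟩ := by
      funext i; simp
    have e1 : (fun i => (![L₀.symm ⟨α, hα⟩ i, L₀.symm ⟨α', hα'⟩ i] : Fin 2 → K) 1)
        = L₀.symm ⟨α', hα'⟩ := by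
      funext i; simp
    rw [e0, e1, LinearEquiv.apply_symm_apply, LinearEquiv.apply_symm_apply]
  exact ⟨k, AddEquiv.ofBijective Ψ₀ ⟨hinj, hsurj⟩, hall⟩

end Module

section Bilin

variable {K : Type*} [Field K] [CharP K 2]
variable {V₁ V₂ V₃ : Type*} [AddCommGroup V₁] [AddCommGroup V₂] [AddCommGroup V₃]
  [DistribMulAction (SpecialLinearGroup (Fin 2) K) V₁]
  [DistribMulAction (SpecialLinearGroup (Fin 2) K) V₂]
  [DistribMulAction (SpecialLinearGroup (Fin 2) K) V₃]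

/-- linearity in the second variable on the fixed points -/
theorem bilin_lin (hsq : ∀ a : K, ∃ b, b * b = a)
    (h2₂ : ∀ v : V₂, v + v = 0) (h2₃ : ∀ v : V₃, v + v = 0)
    (hfpf₂ : ∀ v : V₂, (uM (1 : K) * lM 1) • v = v → v = 0)
    (hfpf₃ : ∀ v : V₃, (uM (1 : K) * lM 1) • v = v → v = 0)
    (c : V₁ → V₂ → V₃) (hc2 : ∀ v w w', c v (w + w') = c v w + c v w')
    (hceq : ∀ (g : SpecialLinearGroup (Fin 2) K) v w, c (g • v) (g • w) = g • c v w)
    {α₁ : V₁} (h₁ : α₁ ∈ fixU K V₁) {α₂ : V₂} (h₂ : α₂ ∈ fixU K V₂) (a : K) :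
    c α₁ (star a α₂) = star a (c α₁ α₂) := by
  obtain ⟨γ, hγ, γ', hγ', e⟩ := decomp hsq h2₃ hfpf₃
    (c α₁ ((wM : SpecialLinearGroup (Fin 2) K) • α₂))
  have key : ∀ b : K, c α₁ (star b α₂) = star b γ' := by
    intro b
    have h := hceq (uM b) α₁ ((wM : SpecialLinearGroup (Fin 2) K) • α₂)
    rw [h₁ b, u_w_star2 hsq h2₂ hfpf₂ h₂, hc2, e, smul_add, hγ b,
      u_w_star2 hsq h2₃ hfpf₃ hγ'] at h
    have h' : γ + (wM : SpecialLinearGroup (Fin 2) K) • γ' + c α₁ (star b α₂)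
        = γ + (wM : SpecialLinearGroup (Fin 2) K) • γ' + star b γ' := by rw [h]; abel
    exact add_left_cancel h'
  have k1 := key 1
  rw [SL2Nat.star_one, SL2Nat.star_one] at k1
  rw [key a, k1]

/-- **Equivariant biadditive maps vanish.** -/
theorem bilin_zero (hsq : ∀ a : K, ∃ b, b * b = a) (hK : ∃ t : K, t ≠ 0 ∧ t ≠ 1)
    (h2₁ : ∀ v : V₁, v + v = 0) (h2₂ : ∀ v : V₂, v + v = 0) (h2₃ : ∀ v : V₃, v + v = 0)
    (hfpf₁ : ∀ v : V₁, (uM (1 : K) * lM 1) • v = v → v = 0)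
    (hfpf₂ : ∀ v : V₂, (uM (1 : K) * lM 1) • v = v → v = 0)
    (hfpf₃ : ∀ v : V₃, (uM (1 : K) * lM 1) • v = v → v = 0)
    (c : V₁ → V₂ → V₃) (hc1 : ∀ v v' w, c (v + v') w = c v w + c v' w)
    (hc2 : ∀ v w w', c v (w + w') = c v w + c v w')
    (hceq : ∀ (g : SpecialLinearGroup (Fin 2) K) v w, c (g • v) (g • w) = g • c v w) :
    ∀ v w, c v w = 0 := by
  obtain ⟨t, ht0, ht1⟩ := hK
  have hdis₃ := hdis (V := V₃) hfpf₃
  have hA : ∀ α₁ ∈ fixU K V₁, ∀ α₂ ∈ fixU K V₂, c α₁ α₂ = 0 := by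
    intro α₁ h₁ α₂ h₂
    have hφ : c α₁ α₂ ∈ fixU K V₃ := fun a => by rw [← hceq, h₁ a, h₂ a]
    have l2 := bilin_lin hsq h2₂ h2₃ hfpf₂ hfpf₃ c hc2 hceq h₁ h₂ t
    have l1 := bilin_lin hsq h2₁ h2₃ hfpf₁ hfpf₃ (fun w v => c v w)
      (fun v w w' => hc1 w w' v) (fun g v w => hceq g w v) (star_mem t h₂) h₁ t
    have h := hceq (hM t) α₁ α₂
    rw [← star_of_ne ht0, ← star_of_ne ht0, ← star_of_ne ht0] at h
    rw [l1, l2, SL2Nat.star_star] at h
    have h' : star (t * t + t) (c α₁ α₂) = 0 := by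
      rw [star_add hdis₃ (hquad hsq h2₃ hfpf₃) hφ, h, h2₃]
    by_contra hne
    have h0 := star_eq_zero h' hne
    have h1 : t * (t + 1) = 0 := by rw [mul_add, mul_one]; exact h0
    rcases mul_eq_zero.mp h1 with h0 | h0
    · exact ht0 h0
    · exact ht1 (by have := eq_neg_of_add_eq_zero_left h0; rw [this, CharTwo.neg_eq])
  have hB : ∀ α₁ ∈ fixU K V₁, ∀ α₂ ∈ fixU K V₂,
      c α₁ ((wM : SpecialLinearGroup (Fin 2) K) • α₂) = 0 := by
    intro α₁ h₁ α₂ h₂
    apply hdis₃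
    · intro a
      rw [← hceq, h₁ a, u_w_star2 hsq h2₂ hfpf₂ h₂, hc2, hA α₁ h₁ _ (star_mem a h₂), add_zero]
    · intro a
      rw [← hceq]
      have e1 : lM a • (wM : SpecialLinearGroup (Fin 2) K) • α₂
          = (wM : SpecialLinearGroup (Fin 2) K) • α₂ := w_fixU h₂ a
      have e2 : lM a • α₁ = α₁ + (wM : SpecialLinearGroup (Fin 2) K) • star a α₁ := by
        rw [← wuw, mul_smul, mul_smul, u_w_star2 hsq h2₁ hfpf₁ h₁, smul_add, wM_smul_wM]
      rw [e1, e2, hc1, hceq, hA _ (star_mem a h₁) _ h₂, smul_zero, add_zero]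
  have hC : ∀ α₁ ∈ fixU K V₁, ∀ α₂ ∈ fixU K V₂,
      c ((wM : SpecialLinearGroup (Fin 2) K) • α₁) α₂ = 0 := by
    intro α₁ h₁ α₂ h₂
    have h := hceq (wM : SpecialLinearGroup (Fin 2) K) α₁
      ((wM : SpecialLinearGroup (Fin 2) K) • α₂)
    rw [wM_smul_wM, hB α₁ h₁ α₂ h₂, smul_zero] at h
    exact h
  have hD : ∀ α₁ ∈ fixU K V₁, ∀ α₂ ∈ fixU K V₂,
      c ((wM : SpecialLinearGroup (Fin 2) K) • α₁)
        ((wM : SpecialLinearGroup (Fin 2) K) • α₂) = 0 := by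
    intro α₁ h₁ α₂ h₂
    rw [hceq, hA α₁ h₁ α₂ h₂, smul_zero]
  intro v w
  obtain ⟨α₁, h₁, α₁', h₁', rfl⟩ := decomp hsq h2₁ hfpf₁ v
  obtain ⟨α₂, h₂, α₂', h₂', rfl⟩ := decomp hsq h2₂ hfpf₂ w
  rw [hc1, hc2, hc2, hA α₁ h₁ α₂ h₂, hB α₁ h₁ α₂' h₂', hC α₁' h₁' α₂ h₂, hD α₁' h₁' α₂' h₂']
  simp

end Bilin

end Cfsg.Agent.Lib.helper56.HigM
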