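import Mathlib
import Cfsg.Agent.Lib.helper56.SL2Nat
import Cfsg.Agent.Lib.helper56.HigM

set_option autoImplicit false

/-!
An `SL₂(K)`-module (`K` finite of characteristic two, `|K| > 2`) of exponent dividing four on
which an element of order three acts fixed point freely has exponent two.
-/

namespace Cfsg.Agent.Lib.helper56.HigZ4

open Matrix
open Cfsg.Agent.Lib.helper56.SL2Nat
open Cfsg.Agent.Lib.helper56.HigM

/-- the 2-torsion -/
def tor2 (L : Type*) [AddCommGroup L] : AddSubgroup L where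
  carrier := {v | v + v = 0}
  zero_mem' := add_zero 0
  add_mem' := fun {a b} ha hb => by
    show a + b + (a + b) = 0
    have ha' : a + a = 0 := ha
    have hb' : b + b = 0 := hb
    linear_combination (norm := abel) ha' + hb'
  neg_mem' := fun {a} ha => by
    show -a + -a = 0
    have ha' : a + a = 0 := ha
    linear_combination (norm := abel) -ha'

/-- the restricted action -/
def tor2Action (G L : Type*) [Monoid G] [AddCommGroup L] [DistribMulAction G L] :
    DistribMulAction G ↥(tor2 L) where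
  smul g v := ⟨g • v.1, by
    show g • v.1 + g • v.1 = 0
    rw [← smul_add]
    have : v.1 + v.1 = 0 := v.2
    rw [this, smul_zero]⟩
  one_smul v := Subtype.ext (one_smul G v.1)
  mul_smul g h v := Subtype.ext (mul_smul g h v.1)
  smul_zero g := Subtype.ext (smul_zero g)
  smul_add g v w := Subtype.ext (smul_add g v.1 w.1)

section

variable {K : Type*} [Field K] [CharP K 2]
variable {L : Type*} [AddCommGroup L] [DistribMulAction (SpecialLinearGroup (Fin 2) K) L]

theorem T1 (hsq : ∀ a : K, ∃ b, b * b = a)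
    (hfpf : ∀ v : L, (uM (1 : K) * lM 1) • v = v → v = 0) {α : L} (hα : α + α = 0)
    (h : uM (1 : K) • α = α) : α ∈ fixU K L := by
  letI := tor2Action (SpecialLinearGroup (Fin 2) K) L
  have h2T : ∀ v : ↥(tor2 L), v + v = 0 := fun v => Subtype.ext v.2
  have hfpfT : ∀ v : ↥(tor2 L), (uM (1 : K) * lM 1) • v = v → v = 0 :=
    fun v hv => Subtype.ext (hfpf v.1 (congrArg Subtype.val hv))
  have key := theoremM1 hsq h2T hfpfT (v := (⟨α, hα⟩ : ↥(tor2 L))) (Subtype.ext h)
  intro a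
  exact congrArg Subtype.val (key a)

theorem T2 (hsq : ∀ a : K, ∃ b, b * b = a)
    (hfpf : ∀ v : L, (uM (1 : K) * lM 1) • v = v → v = 0) {α : L} (hα : α + α = 0)
    (h : α ∈ fixU K L) (a : K) :
    uM a • (wM : SpecialLinearGroup (Fin 2) K) • α
      = (wM : SpecialLinearGroup (Fin 2) K) • α + star a α := by
  letI := tor2Action (SpecialLinearGroup (Fin 2) K) L
  have h2T : ∀ v : ↥(tor2 L), v + v = 0 := fun v => Subtype.ext v.2
  have hfpfT : ∀ v : ↥(tor2 L), (uM (1 : K) * lM 1) • v = v → v = 0 :=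
    fun v hv => Subtype.ext (hfpf v.1 (congrArg Subtype.val hv))
  have hmem : (⟨α, hα⟩ : ↥(tor2 L)) ∈ fixU K ↥(tor2 L) := fun b => Subtype.ext (h b)
  have key := congrArg Subtype.val (u_w_star2 hsq h2T hfpfT hmem a)
  have hs : (star a (⟨α, hα⟩ : ↥(tor2 L))).1 = star a α := by
    by_cases ha : a = 0
    · rw [ha, star_zero', star_zero']; rfl
    · rw [star_of_ne ha, star_of_ne ha]; rfl
  rw [← hs]
  exact key

theorem T3 (hsq : ∀ a : K, ∃ b, b * b = a)
    (hfpf : ∀ v : L, (uM (1 : K) * lM 1) • v = v → v = 0) {α : L} (hα : α + α = 0)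
    (h : α ∈ fixU K L) (a b : K) :
    star (a + b) α = star a α + star b α := by
  letI := tor2Action (SpecialLinearGroup (Fin 2) K) L
  have h2T : ∀ v : ↥(tor2 L), v + v = 0 := fun v => Subtype.ext v.2
  have hfpfT : ∀ v : ↥(tor2 L), (uM (1 : K) * lM 1) • v = v → v = 0 :=
    fun v hv => Subtype.ext (hfpf v.1 (congrArg Subtype.val hv))
  have hmem : (⟨α, hα⟩ : ↥(tor2 L)) ∈ fixU K ↥(tor2 L) := fun b => Subtype.ext (h b)
  have key := congrArg Subtype.val
    (star_add (hdis hfpfT) (hquad hsq h2T hfpfT) hmem a b)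
  have hs : ∀ a : K, (star a (⟨α, hα⟩ : ↥(tor2 L))).1 = star a α := by
    intro a
    by_cases ha : a = 0
    · rw [ha, star_zero', star_zero']; rfl
    · rw [star_of_ne ha, star_of_ne ha]; rfl
  rw [← hs, ← hs, ← hs]
  exact key

variable (K) in
/-- 2-torsion fixed points of the unipotent group -/
def InA (α : L) : Prop := α + α = 0 ∧ α ∈ fixU K L

omit [CharP K 2] in
theorem star_InA {α : L} (h : InA K α) (a : K) : InA K (star a α) :=
  ⟨by rw [← star_vadd, h.1, star_v0], star_mem a h.2⟩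

/-- one step -/
theorem step (hsq : ∀ a : K, ∃ b, b * b = a)
    (hfpf : ∀ v : L, (uM (1 : K) * lM 1) • v = v → v = 0)
    (h4 : ∀ v : L, v + v + (v + v) = 0) {x : L} (hx : uM (1 : K) • x = x) {c : K}
    (hc : c ≠ 0) :
    ∃ x' : L, uM (1 : K) • x' = x' ∧ x' + x' = star c (x + x) ∧
      uM c • x' - x' = star c (uM c • x - x) + star c (x + x) + star (c * c) (x + x) := by
  have hzA : InA K (x + x) := ⟨h4 x, T1 hsq hfpf (h4 x) (by rw [smul_add, hx])⟩
  have hθ : ∀ a : K, InA K (uM a • x - x) := by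
    intro a
    have t : (uM a • x - x) + (uM a • x - x) = 0 := by
      have := hzA.2 a
      rw [smul_add] at this
      linear_combination (norm := abel) this
    refine ⟨t, T1 hsq hfpf t ?_⟩
    rw [smul_sub, hx, ← mul_smul, uM_mul, add_comm, ← uM_mul, mul_smul, hx]
  obtain ⟨r, hr⟩ : ∃ r, r = star c (uM (c⁻¹ * c⁻¹) • x - x) := ⟨_, rfl⟩
  have hrA : InA K r := hr ▸ star_InA (hθ _) c
  obtain ⟨p, hp⟩ : ∃ p, p = hM c • x - (wM : SpecialLinearGroup (Fin 2) K) • r := ⟨_, rfl⟩
  obtain ⟨θ', hθ'⟩ : ∃ θ', θ' = uM c⁻¹ • x - x := ⟨_, rfl⟩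
  have hθ'A : InA K θ' := hθ' ▸ hθ c⁻¹
  have tJr : (wM : SpecialLinearGroup (Fin 2) K) • r
      + (wM : SpecialLinearGroup (Fin 2) K) • r = 0 := by rw [← smul_add, hrA.1, smul_zero]
  have e1 : uM (1 : K) • hM c • x = hM c • x + r := by
    rw [← mul_smul, uM_mul_hM hc, mul_smul, mul_one, hr, star_of_ne hc, smul_sub]; abel
  have e2 : uM (1 : K) • (wM : SpecialLinearGroup (Fin 2) K) • r
      = (wM : SpecialLinearGroup (Fin 2) K) • r + r := by
    rw [T2 hsq hfpf hrA.1 hrA.2, SL2Nat.star_one]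
  have hp1 : uM (1 : K) • p = p := by
    rw [hp, smul_sub, e1, e2]; abel
  have hpp : p + p = star c (x + x) := by
    rw [hp, star_of_ne hc, smul_add]
    linear_combination (norm := abel) -tJr
  have e3 : uM c • hM c • x = hM c • x + star c θ' := by
    have e : c⁻¹ * c⁻¹ * c = c⁻¹ := by field_simp
    rw [← mul_smul, uM_mul_hM hc, e, mul_smul, hθ', star_of_ne hc, smul_sub]; abel
  have e4 : uM c • (wM : SpecialLinearGroup (Fin 2) K) • r
      = (wM : SpecialLinearGroup (Fin 2) K) • r + star c r := T2 hsq hfpf hrA.1 hrA.2 c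
  have hscr : star c r + star c r = 0 := (star_InA hrA c).1
  have hθp : uM c • p - p = star c θ' + star c r := by
    rw [hp, smul_sub, e3, e4]
    linear_combination (norm := abel) -hscr
  have S1 : uM (1 : K) • (wM : SpecialLinearGroup (Fin 2) K) • x
      = -((wM : SpecialLinearGroup (Fin 2) K) • x) - x := by
    have h := s3rel hsq hfpf (a := (1 : K)) one_ne_zero
      ((wM : SpecialLinearGroup (Fin 2) K) • x)
    rw [inv_one, hM_one, one_mul, wM_smul_wM] at h
    have e : lM (1 : K) • (wM : SpecialLinearGroup (Fin 2) K) • x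
        = (wM : SpecialLinearGroup (Fin 2) K) • x := by
      rw [← mul_smul, lM_mul_wM, CharTwo.neg_eq, mul_smul, hx]
    rw [e] at h
    linear_combination (norm := abel) h
  have Sc : uM c • (wM : SpecialLinearGroup (Fin 2) K) • x
      = -((wM : SpecialLinearGroup (Fin 2) K) • x)
        - (wM : SpecialLinearGroup (Fin 2) K) • θ' - p
        - (wM : SpecialLinearGroup (Fin 2) K) • r := by
    have h := s3rel hsq hfpf hc ((wM : SpecialLinearGroup (Fin 2) K) • x)
    have e : lM c⁻¹ • (wM : SpecialLinearGroup (Fin 2) K) • x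
        = (wM : SpecialLinearGroup (Fin 2) K) • x
          + (wM : SpecialLinearGroup (Fin 2) K) • θ' := by
      rw [← mul_smul, lM_mul_wM, CharTwo.neg_eq, mul_smul, hθ', smul_sub]; abel
    have e' : (hM c * wM) • (wM : SpecialLinearGroup (Fin 2) K) • x
        = p + (wM : SpecialLinearGroup (Fin 2) K) • r := by
      rw [mul_smul, wM_smul_wM, hp]; abel
    rw [e, e'] at h
    linear_combination (norm := abel) h
  have comm' : ∀ v : L, uM (1 : K) • uM c • v = uM c • uM (1 : K) • v := fun v => by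
    rw [← mul_smul, ← mul_smul, uM_mul, uM_mul, add_comm]
  have comm := comm' ((wM : SpecialLinearGroup (Fin 2) K) • x)
  have e5 : uM (1 : K) • (wM : SpecialLinearGroup (Fin 2) K) • θ'
      = (wM : SpecialLinearGroup (Fin 2) K) • θ' + θ' := by
    rw [T2 hsq hfpf hθ'A.1 hθ'A.2, SL2Nat.star_one]
  have tJθ : (wM : SpecialLinearGroup (Fin 2) K) • θ'
      + (wM : SpecialLinearGroup (Fin 2) K) • θ' = 0 := by
    rw [← smul_add, hθ'A.1, smul_zero]
  have hstz : star c (x + x) + star c (x + x) = 0 := (star_InA hzA c).1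
  have hf : θ' + r = (uM c • x - x) + (x + x) + star c (x + x) := by
    rw [Sc, S1] at comm
    simp only [smul_sub, smul_neg] at comm
    rw [S1, e5, hp1, e2, Sc] at comm
    linear_combination (norm := abel) -comm - tJθ - tJr - hpp - hstz
  refine ⟨p, hp1, hpp, ?_⟩
  have hfin : star c (θ' + r)
      = star c (uM c • x - x) + star c (x + x) + star (c * c) (x + x) := by
    rw [hf, star_vadd c ((uM c • x - x) + (x + x)) (star c (x + x)),
      star_vadd c (uM c • x - x) (x + x), SL2Nat.star_star]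
  rw [hθp, ← star_vadd c θ' r, hfin]

/-- two steps -/
theorem step2 (hsq : ∀ a : K, ∃ b, b * b = a)
    (hfpf : ∀ v : L, (uM (1 : K) * lM 1) • v = v → v = 0)
    (h4 : ∀ v : L, v + v + (v + v) = 0) {x : L} (hx : uM (1 : K) • x = x) {c : K}
    (hc : c ≠ 0) :
    ∃ x' : L, uM (1 : K) • x' = x' ∧ x' + x' = star (c * c) (x + x) ∧
      uM c • x' - x' = star (c * c) (uM c • x - x) := by
  have hzA : InA K (x + x) := ⟨h4 x, T1 hsq hfpf (h4 x) (by rw [smul_add, hx])⟩
  obtain ⟨x', h1, h2, h3⟩ := step hsq hfpf h4 hx hc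
  obtain ⟨x₂, k1, k2, k3⟩ := step hsq hfpf h4 h1 hc
  obtain ⟨z, hz⟩ : ∃ z, z = x + x := ⟨_, rfl⟩
  obtain ⟨θ, hθ⟩ : ∃ θ, θ = uM c • x - x := ⟨_, rfl⟩
  rw [← hz] at h2 h3 hzA ⊢
  rw [← hθ] at h3 ⊢
  refine ⟨x₂, k1, ?_, ?_⟩
  · rw [k2, h2, SL2Nat.star_star]
  · rw [k3, h3, h2]
    simp only [star_vadd, SL2Nat.star_star]
    have t1 : star (c * c) z + star (c * c) z = 0 := (star_InA hzA _).1
    have t2 : star (c * (c * c)) z + star (c * c * c) z = 0 := by
      rw [mul_assoc]; exact (star_InA hzA _).1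
    linear_combination (norm := abel) t1 + t2

theorem even_iter (hsq : ∀ a : K, ∃ b, b * b = a)
    (hfpf : ∀ v : L, (uM (1 : K) * lM 1) • v = v → v = 0)
    (h4 : ∀ v : L, v + v + (v + v) = 0) {x : L} (hx : uM (1 : K) • x = x) {c : K}
    (hc : c ≠ 0) (m : ℕ) :
    ∃ y : L, uM (1 : K) • y = y ∧ y + y = star (c ^ (2 * m)) (x + x) ∧
      uM c • y - y = star (c ^ (2 * m)) (uM c • x - x) := by
  induction m with
  | zero =>
    refine ⟨x, hx, ?_, ?_⟩
    · rw [mul_zero, pow_zero, SL2Nat.star_one]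
    · rw [mul_zero, pow_zero, SL2Nat.star_one]
  | succ m ih =>
    obtain ⟨y, hy1, hy2, hy3⟩ := ih
    obtain ⟨y', h1, h2, h3⟩ := step2 hsq hfpf h4 hy1 hc
    have e : c * c * c ^ (2 * m) = c ^ (2 * (m + 1)) := by ring
    refine ⟨y', h1, ?_, ?_⟩
    · rw [h2, hy2, SL2Nat.star_star, e]
    · rw [h3, hy3, SL2Nat.star_star, e]

/-- fixed points of `u(1)` have order two -/
theorem fix1_tor (hsq : ∀ a : K, ∃ b, b * b = a)
    (hodd : ∀ a : K, a ≠ 0 → ∃ k : ℕ, Odd k ∧ a ^ k = 1) (hK : ∃ t : K, t ≠ 0 ∧ t ≠ 1)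
    (hfpf : ∀ v : L, (uM (1 : K) * lM 1) • v = v → v = 0)
    (h4 : ∀ v : L, v + v + (v + v) = 0) {x : L} (hx : uM (1 : K) • x = x) : x + x = 0 := by
  obtain ⟨c, hc0, hc1⟩ := hK
  obtain ⟨k, hkodd, hk⟩ := hodd c hc0
  obtain ⟨m, rfl⟩ := hkodd
  have hzA : InA K (x + x) := ⟨h4 x, T1 hsq hfpf (h4 x) (by rw [smul_add, hx])⟩
  obtain ⟨y, hy1, hy2, hy3⟩ := even_iter hsq hfpf h4 hx hc0 m
  obtain ⟨x'', h1, h2, h3⟩ := step hsq hfpf h4 hy1 hc0
  have e : c * c ^ (2 * m) = 1 := by rw [← pow_succ']; exact hk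
  have hz'' : x'' + x'' = x + x := by rw [h2, hy2, SL2Nat.star_star, e, SL2Nat.star_one]
  rw [hy3, hy2, SL2Nat.star_star, SL2Nat.star_star, SL2Nat.star_star, e, SL2Nat.star_one,
    SL2Nat.star_one, mul_assoc, e, mul_one] at h3
  have hδ : InA K (x'' - x) := by
    have t : (x'' - x) + (x'' - x) = 0 := by linear_combination (norm := abel) hz''
    exact ⟨t, T1 hsq hfpf t (by rw [smul_sub, h1, hx])⟩
  have hδc := hδ.2 c
  rw [smul_sub] at hδc
  have h5 : (x + x) + star c (x + x) = 0 := by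
    linear_combination (norm := abel) hδc - h3
  have h6 : star (1 + c) (x + x) = 0 := by
    rw [T3 hsq hfpf hzA.1 hzA.2, SL2Nat.star_one]; exact h5
  by_contra hne
  have h7 := star_eq_zero h6 hne
  apply hc1
  have := eq_neg_of_add_eq_zero_right h7
  rw [this, CharTwo.neg_eq]

/-- **The module has exponent two.** -/
theorem exp_two (hsq : ∀ a : K, ∃ b, b * b = a)
    (hodd : ∀ a : K, a ≠ 0 → ∃ k : ℕ, Odd k ∧ a ^ k = 1) (hK : ∃ t : K, t ≠ 0 ∧ t ≠ 1)
    (hfpf : ∀ v : L, (uM (1 : K) * lM 1) • v = v → v = 0)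
    (h4 : ∀ v : L, v + v + (v + v) = 0) : ∀ v : L, v + v = 0 := by
  have hAll : ∀ v : L, v + v ∈ fixU K L := by
    intro v
    have hw := fix1_tor hsq hodd hK hfpf h4 (x := uM (1 : K) • v + v)
      (by rw [smul_add, ← mul_smul, uM_sq, one_smul, add_comm])
    have h1 : uM (1 : K) • (v + v) = v + v := by
      rw [smul_add]
      linear_combination (norm := abel) hw - h4 v
    exact T1 hsq hfpf (h4 v) h1
  intro v
  have hB : v + v ∈ fixL K L := by
    have h' := hAll ((wM : SpecialLinearGroup (Fin 2) K) • v)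
    rw [← smul_add] at h'
    have := w_fixU h'
    rwa [wM_smul_wM] at this
  exact hdis hfpf _ (hAll v) hB

end

end Cfsg.Agent.Lib.helper56.HigZ4
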