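import Mathlib
import Cfsg.Agent.Lib.helper56.SL2Nat
import Cfsg.Agent.Lib.helper56.HigM
import Cfsg.Agent.Lib.helper56.HigZ4

set_option autoImplicit false

/-!
Higman's theorem, group-theoretic part: a 2-group `Q` extended by `SL₂(K)` (`K` finite of
characteristic two, `|K| > 2`) with an element of order three acting fixed point freely on `Q`
is elementary abelian.
-/

namespace Cfsg.Agent.Lib.helper56.HigG

open Matrix
open Cfsg.Agent.Lib.helper56.SL2Nat
open Cfsg.Agent.Lib.helper56.HigM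
open scoped IsMulCommutative

universe u v

section Conj

variable {K : Type*} [Field K] [CharP K 2]

omit [CharP K 2] in
theorem mk2_ext {a b c d a' b' c' d' : K} (h1 : a = a') (h2 : b = b') (h3 : c = c')
    (h4 : d = d') : (!![a, b; c, d] : Matrix (Fin 2) (Fin 2) K) = !![a', b'; c', d'] := by
  subst h1 h2 h3 h4; rfl

/-- an element of order three of `SL₂(K)` is conjugate to `u(1) l(1)` -/
theorem conj_y1 (hsq : ∀ a : K, ∃ b, b * b = a) (m : SpecialLinearGroup (Fin 2) K) (hm1 : m ≠ 1)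
    (hm3 : m * m * m = 1) : ∃ s : SpecialLinearGroup (Fin 2) K, s * m = (uM 1 * lM 1) * s := by
  obtain ⟨p, hp⟩ : ∃ p, p = m.1 0 0 := ⟨_, rfl⟩
  obtain ⟨q, hq⟩ : ∃ q, q = m.1 0 1 := ⟨_, rfl⟩
  obtain ⟨r, hr⟩ : ∃ r, r = m.1 1 0 := ⟨_, rfl⟩
  obtain ⟨t, ht⟩ : ∃ t, t = m.1 1 1 := ⟨_, rfl⟩
  have hm : m.1 = !![p, q; r, t] := by rw [hp, hq, hr, ht]; exact Matrix.eta_fin_two m.1
  have h2 : (2 : K) = 0 := CharTwo.two_eq_zero
  have hdet : p * t - q * r = 1 := by
    have := m.2
    rw [hm, Matrix.det_fin_two_of] at this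
    exact this
  have h3m : (!![p, q; r, t] : Matrix (Fin 2) (Fin 2) K) * !![p, q; r, t] * !![p, q; r, t] = 1 := by
    rw [← hm]; exact congrArg Subtype.val hm3
  rw [Matrix.mul_fin_two, Matrix.mul_fin_two] at h3m
  have E00 := congrFun (congrFun h3m 0) 0
  have E01 := congrFun (congrFun h3m 0) 1
  have E10 := congrFun (congrFun h3m 1) 0
  simp at E00 E01 E10
  have htr : p + t = 1 := by
    by_contra hτ
    have hδ : p + t + 1 ≠ 0 := by
      intro h
      apply hτ
      have := eq_neg_of_add_eq_zero_left h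
      rw [this, CharTwo.neg_eq]
    have hq0 : q = 0 := by
      have e : q * ((p + t + 1) * (p + t + 1)) = 0 := by
        linear_combination E01 + q * hdet + (q * (1 + p + t)) * h2
      rcases mul_eq_zero.mp e with h | h
      · exact h
      · exact absurd (mul_self_eq_zero.mp h) hδ
    have hr0 : r = 0 := by
      have e : r * ((p + t + 1) * (p + t + 1)) = 0 := by
        linear_combination E10 + r * hdet + (r * (1 + p + t)) * h2
      rcases mul_eq_zero.mp e with h | h
      · exact h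
      · exact absurd (mul_self_eq_zero.mp h) hδ
    rw [hq0, hr0] at hdet E00 hm
    have hpt : p * t = 1 := by linear_combination hdet
    have hp3 : p * p * p = 1 := by linear_combination E00
    by_cases hp1 : p = 1
    · have ht1 : t = 1 := by rw [hp1, one_mul] at hpt; exact hpt
      apply hm1
      apply sl_ext
      rw [hm, hp1, ht1]
      ext i j
      fin_cases i <;> fin_cases j <;> simp
    · have h1 : (p - 1) * (p * p + p + 1) = 0 := by linear_combination hp3
      have h2' : p * p + p + 1 = 0 := by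
        rcases mul_eq_zero.mp h1 with h | h
        · exact absurd (sub_eq_zero.mp h) hp1
        · exact h
      have ht' : t = p * p := by
        linear_combination (p * p) * hpt - t * hp3
      apply hτ
      rw [ht']
      linear_combination h2' - h2
  have y1 : (uM (1 : K) * lM 1).1 = !![0, 1; 1, 1] := by
    have := y_val (K := K) one_ne_zero
    rwa [inv_one] at this
  by_cases hr0 : r = 0
  · rw [hr0] at hdet hm
    by_cases hq0 : q = 0
    · rw [hq0] at hdet hm
      refine ⟨⟨!![t, p; 1, 1], by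
        rw [Matrix.det_fin_two_of]; linear_combination htr - p * h2⟩, ?_⟩
      apply sl_ext
      show (!![t, p; 1, 1] : Matrix (Fin 2) (Fin 2) K) * m.1
        = (uM (1 : K) * lM 1).1 * !![t, p; 1, 1]
      rw [hm, y1, Matrix.mul_fin_two, Matrix.mul_fin_two]
      refine mk2_ext ?_ ?_ ?_ ?_
      · linear_combination hdet
      · linear_combination hdet
      · linear_combination htr - t * h2
      · linear_combination htr - p * h2
    · obtain ⟨σ, hσ⟩ := hsq q
      have hσ0 : σ ≠ 0 := fun h => hq0 (by rw [← hσ, h, mul_zero])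
      refine ⟨⟨!![t / σ, σ; 1 / σ, 0], by
        rw [Matrix.det_fin_two_of, mul_zero, zero_sub, mul_one_div_cancel hσ0,
          CharTwo.neg_eq]⟩, ?_⟩
      apply sl_ext
      show (!![t / σ, σ; 1 / σ, 0] : Matrix (Fin 2) (Fin 2) K) * m.1
        = (uM (1 : K) * lM 1).1 * !![t / σ, σ; 1 / σ, 0]
      rw [hm, y1, Matrix.mul_fin_two, Matrix.mul_fin_two]
      refine mk2_ext ?_ ?_ ?_ ?_
      · field_simp
        linear_combination hdet
      · rw [← hσ]
        field_simp
        linear_combination (σ * t) * h2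
      · field_simp
        linear_combination htr - t * h2
      · rw [← hσ]
        field_simp
        ring
  · obtain ⟨ρ, hρ⟩ := hsq r
    have hρ0 : ρ ≠ 0 := fun h => hr0 (by rw [← hρ, h, mul_zero])
    refine ⟨⟨!![ρ, p / ρ; 0, 1 / ρ], by
      rw [Matrix.det_fin_two_of, mul_zero, sub_zero]; exact mul_one_div_cancel hρ0⟩, ?_⟩
    apply sl_ext
    show (!![ρ, p / ρ; 0, 1 / ρ] : Matrix (Fin 2) (Fin 2) K) * m.1
      = (uM (1 : K) * lM 1).1 * !![ρ, p / ρ; 0, 1 / ρ]
    rw [hm, y1, Matrix.mul_fin_two, Matrix.mul_fin_two]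
    refine mk2_ext ?_ ?_ ?_ ?_
    · rw [← hρ]
      field_simp
      linear_combination (ρ * p) * h2
    · field_simp
      linear_combination hdet + q * hρ + (q * r) * h2
    · rw [← hρ]
      field_simp
      ring
    · field_simp
      linear_combination htr - p * h2

end Conj

section Action

/-- the action of the quotient on an abelian normal subgroup centralized by the kernel -/
theorem exists_action {G : Type*} [Group G] {S : Type*} [Group S] (π : G →* S)
    (hπ : Function.Surjective π) (V : Subgroup G) [hVn : V.Normal] [IsMulCommutative ↥V]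
    (hcent : ∀ g ∈ π.ker, ∀ v ∈ V, g * v = v * g) :
    ∃ inst : DistribMulAction S (Additive ↥V), ∀ (g : G) (v : Additive ↥V),
      ((Additive.toMul (letI := inst; π g • v) : ↥V) : G)
        = g * ((Additive.toMul v : ↥V) : G) * g⁻¹ := by
  classical
  obtain ⟨γ, hγ⟩ : ∃ γ : S → G, ∀ s, π (γ s) = s :=
    ⟨fun s => (hπ s).choose, fun s => (hπ s).choose_spec⟩
  have hwd : ∀ (g g' : G), π g = π g' → ∀ v ∈ V, g * v * g⁻¹ = g' * v * g'⁻¹ := by
    intro g g' h v hv
    have hk : g'⁻¹ * g ∈ π.ker := by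
      rw [MonoidHom.mem_ker, map_mul, map_inv, h, inv_mul_cancel]
    have hc := hcent _ hk v hv
    calc g * v * g⁻¹ = g' * (g'⁻¹ * g * v) * g⁻¹ := by group
      _ = g' * (v * (g'⁻¹ * g)) * g⁻¹ := by rw [hc]
      _ = g' * v * g'⁻¹ := by group
  obtain ⟨cj, hcj⟩ : ∃ cj : S → ↥V → ↥V, ∀ s v, ((cj s v : ↥V) : G) = γ s * v * (γ s)⁻¹ :=
    ⟨fun s v => ⟨_, hVn.conj_mem v.1 v.2 (γ s)⟩, fun _ _ => rfl⟩
  have hcj' : ∀ (g : G) (v : ↥V), ((cj (π g) v : ↥V) : G) = g * v * g⁻¹ := fun g v => by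
    rw [hcj]; exact hwd _ _ (hγ _) v.1 v.2
  refine ⟨{ smul := fun s v => Additive.ofMul (cj s (Additive.toMul v))
            one_smul := fun v => by
              show Additive.ofMul (cj 1 (Additive.toMul v)) = v
              have h1 : cj 1 (Additive.toMul v) = Additive.toMul v := Subtype.ext (by
                have := hcj' 1 (Additive.toMul v)
                rw [map_one] at this
                rw [this]; group)
              rw [h1]; rfl
            mul_smul := fun s s' v => by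
              show Additive.ofMul (cj (s * s') (Additive.toMul v))
                = Additive.ofMul (cj s (cj s' (Additive.toMul v)))
              congr 1
              apply Subtype.ext
              have e1 := hcj' (γ s * γ s') (Additive.toMul v)
              rw [map_mul, hγ, hγ] at e1
              rw [e1, hcj, hcj]; group
            smul_zero := fun s => by
              show Additive.ofMul (cj s 1) = 0
              have h1 : cj s 1 = 1 := Subtype.ext (by rw [hcj]; simp)
              rw [h1]; rfl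
            smul_add := fun s v v' => by
              show Additive.ofMul (cj s (Additive.toMul v * Additive.toMul v'))
                = Additive.ofMul (cj s (Additive.toMul v) * cj s (Additive.toMul v'))
              congr 1
              exact Subtype.ext (by
                rw [Subgroup.coe_mul, hcj, hcj, hcj, Subgroup.coe_mul]; group) }, ?_⟩
  intro g v
  exact hcj' g (Additive.toMul v)

end Action

/-- the setting of Higman's theorem -/
structure HG {G : Type u} [Group G] (K : Type v) [Field K] (Q : Subgroup G)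
    (π : G →* SpecialLinearGroup (Fin 2) K) (x : G) : Prop where
  surj : Function.Surjective π
  ker : π.ker = Q
  pgrp : IsPGroup 2 ↥Q
  px : π x = uM 1 * lM 1
  fpf : ∀ q ∈ Q, x * q * x⁻¹ = q → q = 1

theorem fpf_module {G : Type u} [Group G] {K : Type v} [Field K] {Q : Subgroup G}
    {π : G →* SpecialLinearGroup (Fin 2) K} {x : G} (h : HG K Q π x) (V : Subgroup G)
    [IsMulCommutative ↥V] (hVQ : V ≤ Q)
    [inst : DistribMulAction (SpecialLinearGroup (Fin 2) K) (Additive ↥V)]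
    (hsm : ∀ (g : G) (v : Additive ↥V), ((Additive.toMul (π g • v) : ↥V) : G)
      = g * ((Additive.toMul v : ↥V) : G) * g⁻¹) :
    ∀ v : Additive ↥V, (uM (1 : K) * lM 1) • v = v → v = 0 := by
  intro v hv
  rw [← h.px] at hv
  have h1 := hsm x v
  rw [hv] at h1
  have h2 := h.fpf _ (hVQ (Additive.toMul v).2) h1.symm
  apply Additive.toMul.injective
  exact Subtype.ext h2

section Main

theorem comm_left {G : Type*} [Group G] (a b n : G) (hn : n * b = b * n) :
    (a * n) * b * (a * n)⁻¹ * b⁻¹ = a * b * a⁻¹ * b⁻¹ := by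
  calc (a * n) * b * (a * n)⁻¹ * b⁻¹ = a * (n * b) * n⁻¹ * a⁻¹ * b⁻¹ := by group
    _ = a * (b * n) * n⁻¹ * a⁻¹ * b⁻¹ := by rw [hn]
    _ = a * b * a⁻¹ * b⁻¹ := by group

theorem comm_right {G : Type*} [Group G] (a b n : G) (hn : n * a = a * n) :
    a * (b * n) * a⁻¹ * (b * n)⁻¹ = a * b * a⁻¹ * b⁻¹ := by
  have e : n * a⁻¹ = a⁻¹ * n := (Commute.inv_right (show Commute n a from hn)).eq
  calc a * (b * n) * a⁻¹ * (b * n)⁻¹ = a * b * (n * a⁻¹) * n⁻¹ * b⁻¹ := by group
    _ = a * b * (a⁻¹ * n) * n⁻¹ * b⁻¹ := by rw [e]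
    _ = a * b * a⁻¹ * b⁻¹ := by group

theorem comm_mul_left {G : Type*} [Group G] (a a' b : G)
    (hn : (a' * b * a'⁻¹ * b⁻¹) * a = a * (a' * b * a'⁻¹ * b⁻¹)) :
    (a * a') * b * (a * a')⁻¹ * b⁻¹ = (a' * b * a'⁻¹ * b⁻¹) * (a * b * a⁻¹ * b⁻¹) := by
  calc (a * a') * b * (a * a')⁻¹ * b⁻¹
      = a * (a' * b * a'⁻¹ * b⁻¹) * b * a⁻¹ * b⁻¹ := by group
    _ = ((a' * b * a'⁻¹ * b⁻¹) * a) * b * a⁻¹ * b⁻¹ := by rw [hn]
    _ = _ := by group

theorem comm_mul_right {G : Type*} [Group G] (a b b' : G)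
    (hn : (a * b' * a⁻¹ * b'⁻¹) * b = b * (a * b' * a⁻¹ * b'⁻¹)) :
    a * (b * b') * a⁻¹ * (b * b')⁻¹ = (a * b * a⁻¹ * b⁻¹) * (a * b' * a⁻¹ * b'⁻¹) := by
  calc a * (b * b') * a⁻¹ * (b * b')⁻¹
      = (a * b * a⁻¹ * b⁻¹) * (b * (a * b' * a⁻¹ * b'⁻¹)) * b⁻¹ := by group
    _ = (a * b * a⁻¹ * b⁻¹) * ((a * b' * a⁻¹ * b'⁻¹) * b) * b⁻¹ := by rw [hn]
    _ = _ := by group

variable {K : Type v} [Field K] [CharP K 2]

/-- **Higman**: `Q` is abelian of exponent two. -/
theorem abel2 (hsq : ∀ a : K, ∃ b, b * b = a)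
    (hodd : ∀ a : K, a ≠ 0 → ∃ k : ℕ, Odd k ∧ a ^ k = 1) (hK : ∃ t : K, t ≠ 0 ∧ t ≠ 1) :
    ∀ (n : ℕ) (G : Type u) [Group G] [Finite G] (Q : Subgroup G)
      (π : G →* SpecialLinearGroup (Fin 2) K) (x : G), HG K Q π x → Nat.card G ≤ n →
      (∀ a ∈ Q, ∀ b ∈ Q, a * b = b * a) ∧ ∀ a ∈ Q, a * a = 1 := by
  intro n
  induction n with
  | zero =>
    intro G _ _ Q π x h hcard
    exact absurd hcard (by have := Nat.card_pos (α := G); omega)
  | succ n ih =>
    intro G _ _ Q π x h hcard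
    haveI hQn : Q.Normal := h.ker ▸ π.normal_ker
    by_cases hQ : Q = ⊥
    · subst hQ
      refine ⟨fun a ha b hb => ?_, fun a ha => ?_⟩
      · rw [Subgroup.mem_bot.mp ha, Subgroup.mem_bot.mp hb]
      · rw [Subgroup.mem_bot.mp ha, mul_one]
    haveI : Fact (Nat.Prime 2) := ⟨Nat.prime_two⟩
    obtain ⟨N₀, hN₀⟩ : ∃ N₀ : Subgroup G,
        ∀ z, z ∈ N₀ ↔ z ∈ Q ∧ (∀ q ∈ Q, z * q = q * z) ∧ z * z = 1 :=
      ⟨{ carrier := {z | z ∈ Q ∧ (∀ q ∈ Q, z * q = q * z) ∧ z * z = 1}
         one_mem' := ⟨Q.one_mem, fun q _ => by rw [one_mul, mul_one], mul_one 1⟩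
         mul_mem' := by
           rintro a b ⟨ha, hac, ha2⟩ ⟨hb, hbc, hb2⟩
           refine ⟨Q.mul_mem ha hb, fun q hq => ?_, ?_⟩
           · rw [mul_assoc, hbc q hq, ← mul_assoc, hac q hq, mul_assoc]
           · calc a * b * (a * b) = a * (b * a) * b := by group
               _ = a * (a * b) * b := by rw [← hac b hb]
               _ = (a * a) * (b * b) := by group
               _ = 1 := by rw [ha2, hb2, mul_one]
         inv_mem' := by
           rintro a ⟨ha, hac, ha2⟩
           refine ⟨Q.inv_mem ha, fun q hq => ?_, ?_⟩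
           · exact (Commute.inv_left (show Commute a q from hac q hq)).eq
           · rw [← _root_.mul_inv_rev, ha2, inv_one] }, fun z => Iff.rfl⟩
    have hN₀Q : N₀ ≤ Q := fun z hz => ((hN₀ z).mp hz).1
    have hN₀c : ∀ z ∈ N₀, ∀ q ∈ Q, z * q = q * z := fun z hz => ((hN₀ z).mp hz).2.1
    have hN₀2 : ∀ z ∈ N₀, z * z = 1 := fun z hz => ((hN₀ z).mp hz).2.2
    haveI hN₀n : N₀.Normal := ⟨fun z hz g => by
      rw [hN₀]
      refine ⟨hQn.conj_mem z (hN₀Q hz) g, fun q hq => ?_, ?_⟩
      · have hq' : g⁻¹ * q * g ∈ Q := by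
          have := hQn.conj_mem q hq g⁻¹
          rwa [inv_inv] at this
        have e := hN₀c z hz _ hq'
        calc g * z * g⁻¹ * q = g * (z * (g⁻¹ * q * g)) * g⁻¹ := by group
          _ = g * ((g⁻¹ * q * g) * z) * g⁻¹ := by rw [e]
          _ = q * (g * z * g⁻¹) := by group
      · calc g * z * g⁻¹ * (g * z * g⁻¹) = g * (z * z) * g⁻¹ := by group
          _ = 1 := by rw [hN₀2 z hz]; group⟩
    have hN₀ne : N₀ ≠ ⊥ := by
      haveI : Nontrivial ↥Q := (Subgroup.nontrivial_iff_ne_bot Q).mpr hQ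
      haveI := h.pgrp.center_nontrivial
      obtain ⟨z, hz1⟩ := exists_ne (1 : ↥(Subgroup.center ↥Q))
      obtain ⟨k, hk⟩ := (IsPGroup.iff_orderOf.mp h.pgrp) z.1
      have hk0 : k ≠ 0 := by
        rintro rfl
        rw [pow_zero, orderOf_eq_one_iff] at hk
        exact hz1 (Subtype.ext hk)
      obtain ⟨k', rfl⟩ := Nat.exists_eq_succ_of_ne_zero hk0
      intro hbot
      have hmem : ((z.1 : ↥Q) : G) ^ (2 ^ k') ∈ N₀ := by
        rw [hN₀]
        refine ⟨Q.pow_mem z.1.2 _, fun q hq => ?_, ?_⟩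
        · have hc : Commute ((z.1 : ↥Q) : G) q := by
            have := (Subgroup.mem_center_iff.mp z.2) ⟨q, hq⟩
            exact (congrArg Subtype.val this).symm
          exact (hc.pow_left _).eq
        · rw [← pow_add, ← two_mul, ← pow_succ']
          have := pow_orderOf_eq_one z.1
          rw [hk] at this
          have h' := congrArg Subtype.val this
          rw [Subgroup.coe_pow] at h'
          exact h'
      rw [hbot, Subgroup.mem_bot] at hmem
      have h1 : (z.1 : ↥Q) ^ (2 ^ k') = 1 := Subtype.ext (by rw [Subgroup.coe_pow]; exact hmem)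
      have h2 := orderOf_dvd_of_pow_eq_one h1
      rw [hk] at h2
      have h3 := Nat.le_of_dvd (by positivity) h2
      have h4 : 2 ^ k' < 2 ^ (k' + 1) := Nat.pow_lt_pow_right (by norm_num) (Nat.lt_succ_self k')
      omega
    have hle : N₀ ≤ π.ker := by rw [h.ker]; exact hN₀Q
    obtain ⟨π', hπ'⟩ : ∃ π' : G ⧸ N₀ →* SpecialLinearGroup (Fin 2) K,
        ∀ g : G, π' (QuotientGroup.mk g) = π g := ⟨QuotientGroup.lift N₀ π hle, fun g => rfl⟩
    obtain ⟨mk, hmk⟩ : ∃ mk : G →* G ⧸ N₀, ∀ g, mk g = (QuotientGroup.mk g : G ⧸ N₀) :=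
      ⟨QuotientGroup.mk' N₀, fun g => rfl⟩
    have hmk1 : ∀ g, mk g = 1 ↔ g ∈ N₀ := fun g => by
      rw [hmk]; exact QuotientGroup.eq_one_iff g
    have hmks : Function.Surjective mk := fun g' => by
      obtain ⟨g, rfl⟩ := QuotientGroup.mk_surjective g'
      exact ⟨g, hmk g⟩
    have hπ'' : ∀ g, π' (mk g) = π g := fun g => by rw [hmk, hπ']
    have h' : HG K (Q.map mk) π' (mk x) := by
      refine ⟨?_, ?_, h.pgrp.map mk, ?_, ?_⟩
      · intro s
        obtain ⟨g, rfl⟩ := h.surj s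
        exact ⟨mk g, hπ'' g⟩
      · ext g'
        obtain ⟨g, rfl⟩ := hmks g'
        rw [MonoidHom.mem_ker, hπ'']
        constructor
        · intro hg
          exact Subgroup.mem_map_of_mem mk (by rw [← h.ker]; exact hg)
        · rintro ⟨q, hq, hqg⟩
          have hq1 : π q = 1 := by rw [← MonoidHom.mem_ker, h.ker]; exact hq
          rw [← hπ'' g, ← hqg, hπ'', hq1]
      · rw [hπ'', h.px]
      · rintro q' ⟨q, hq, rfl⟩ hfix
        have hn : q⁻¹ * (x * q * x⁻¹) ∈ N₀ := by
          rw [← hmk1, map_mul, map_inv, map_mul, map_mul, map_inv, hfix, inv_mul_cancel]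
        obtain ⟨n₁, hn₁⟩ : ∃ n₁, n₁ = q⁻¹ * (x * q * x⁻¹) := ⟨_, rfl⟩
        rw [← hn₁] at hn
        have hxq : x * q * x⁻¹ = q * n₁ := by rw [hn₁]; group
        have hx3 : x * x * x ∈ Q := by
          rw [← h.ker, MonoidHom.mem_ker, map_mul, map_mul, h.px]
          have := y_cube (K := K) one_ne_zero
          rwa [inv_one] at this
        have hσN : ∀ z ∈ N₀, x * z * x⁻¹ ∈ N₀ := fun z hz => hN₀n.conj_mem z hz x
        obtain ⟨s1, hs1⟩ : ∃ s1, s1 = x * n₁ * x⁻¹ := ⟨_, rfl⟩
        obtain ⟨s2, hs2⟩ : ∃ s2, s2 = x * s1 * x⁻¹ := ⟨_, rfl⟩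
        have hs1N : s1 ∈ N₀ := hs1 ▸ hσN _ hn
        have hs2N : s2 ∈ N₀ := hs2 ▸ hσN _ hs1N
        have hs3 : x * s2 * x⁻¹ = n₁ := by
          have e := hN₀c n₁ hn _ hx3
          calc x * s2 * x⁻¹ = (x * x * x) * n₁ * (x * x * x)⁻¹ := by rw [hs2, hs1]; group
            _ = n₁ * (x * x * x) * (x * x * x)⁻¹ := by rw [e]
            _ = n₁ := by group
        have ht : n₁ * s1 * s2 = 1 := by
          apply h.fpf _ (hN₀Q (N₀.mul_mem (N₀.mul_mem hn hs1N) hs2N))
          calc x * (n₁ * s1 * s2) * x⁻¹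
              = (x * n₁ * x⁻¹) * (x * s1 * x⁻¹) * (x * s2 * x⁻¹) := by group
            _ = s1 * s2 * n₁ := by rw [← hs1, ← hs2, hs3]
            _ = n₁ * (s1 * s2) := (hN₀c n₁ hn _ (hN₀Q (N₀.mul_mem hs1N hs2N))).symm
            _ = n₁ * s1 * s2 := by group
        have hfix2 : x * (q * s1) * x⁻¹ = q * s1 := by
          have e1 : s2 * s1 = s1 * s2 := hN₀c s2 hs2N s1 (hN₀Q hs1N)
          have e2 : n₁ * s2 = s1 := by
            calc n₁ * s2 = n₁ * s2 * (s1 * s1) := by rw [hN₀2 s1 hs1N, mul_one]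
              _ = n₁ * (s2 * s1) * s1 := by group
              _ = n₁ * (s1 * s2) * s1 := by rw [e1]
              _ = (n₁ * s1 * s2) * s1 := by group
              _ = s1 := by rw [ht, one_mul]
          calc x * (q * s1) * x⁻¹ = (x * q * x⁻¹) * (x * s1 * x⁻¹) := by group
            _ = q * n₁ * s2 := by rw [hxq, ← hs2]
            _ = q * s1 := by rw [mul_assoc, e2]
        have hqs := h.fpf _ (Q.mul_mem hq (hN₀Q hs1N)) hfix2
        have hqN : q ∈ N₀ := by
          have e : q = s1⁻¹ := eq_inv_of_mul_eq_one_left hqs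
          rw [e]; exact N₀.inv_mem hs1N
        exact (hmk1 q).mpr hqN
    have hcard' : Nat.card (G ⧸ N₀) ≤ n := by
      have e := Subgroup.card_eq_card_quotient_mul_card_subgroup N₀
      have h2 : 2 ≤ Nat.card N₀ := by
        haveI : Nontrivial ↥N₀ := (Subgroup.nontrivial_iff_ne_bot N₀).mpr hN₀ne
        exact Finite.one_lt_card
      have hpos : 0 < Nat.card (G ⧸ N₀) := Nat.card_pos
      nlinarith
    obtain ⟨hab', hexp'⟩ := ih (G ⧸ N₀) (Q.map mk) π' (mk x) h' hcard'
    have hcomm : ∀ a ∈ Q, ∀ b ∈ Q, a * b * a⁻¹ * b⁻¹ ∈ N₀ := by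
      intro a ha b hb
      rw [← hmk1, map_mul, map_mul, map_mul, map_inv, map_inv,
        hab' _ (Subgroup.mem_map_of_mem mk ha) _ (Subgroup.mem_map_of_mem mk hb)]
      group
    have hsqN : ∀ a ∈ Q, a * a ∈ N₀ := fun a ha => by
      rw [← hmk1, map_mul]; exact hexp' _ (Subgroup.mem_map_of_mem mk ha)
    have habel : ∀ a ∈ Q, ∀ b ∈ Q, a * b = b * a := by
      haveI : IsMulCommutative ↥N₀ :=
        ⟨⟨fun a b => Subtype.ext (hN₀c a.1 a.2 b.1 (hN₀Q b.2))⟩⟩
      haveI : IsMulCommutative ↥(Q.map mk) :=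
        ⟨⟨fun a b => Subtype.ext (hab' a.1 a.2 b.1 b.2)⟩⟩
      haveI : (Q.map mk).Normal := h'.ker ▸ π'.normal_ker
      obtain ⟨inst₃, hsm₃⟩ := exists_action π h.surj N₀
        (fun g hg v hv => by rw [h.ker] at hg; exact (hN₀c v hv g hg).symm)
      obtain ⟨inst₁, hsm₁⟩ := exists_action π' h'.surj (Q.map mk)
        (fun g hg v hv => by rw [h'.ker] at hg; exact hab' g hg v hv)
      have h2₃ : ∀ v : Additive ↥N₀, v + v = 0 := fun v =>
        Additive.toMul.injective (Subtype.ext (hN₀2 _ (Additive.toMul v).2))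
      have h2₁ : ∀ v : Additive ↥(Q.map mk), v + v = 0 := fun v =>
        Additive.toMul.injective (Subtype.ext (hexp' _ (Additive.toMul v).2))
      have hfpf₃ := fpf_module h N₀ hN₀Q hsm₃
      have hfpf₁ := fpf_module h' (Q.map mk) le_rfl hsm₁
      obtain ⟨rep, hrep⟩ : ∃ rep : Additive ↥(Q.map mk) → G, ∀ v, rep v ∈ Q ∧
          mk (rep v) = ((Additive.toMul v : ↥(Q.map mk)) : G ⧸ N₀) :=
        ⟨fun v => (Subgroup.mem_map.mp (Additive.toMul v).2).choose,
          fun v => (Subgroup.mem_map.mp (Additive.toMul v).2).choose_spec⟩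
      have hwd : ∀ a ∈ Q, ∀ a' ∈ Q, ∀ b ∈ Q, ∀ b' ∈ Q, mk a = mk a' → mk b = mk b' →
          a * b * a⁻¹ * b⁻¹ = a' * b' * a'⁻¹ * b'⁻¹ := by
        intro a ha a' ha' b hb b' hb' hab hbb
        obtain ⟨n, hn_def⟩ : ∃ n, n = a'⁻¹ * a := ⟨_, rfl⟩
        obtain ⟨n', hn'_def⟩ : ∃ n', n' = b'⁻¹ * b := ⟨_, rfl⟩
        have hn : n ∈ N₀ := by
          rw [hn_def, ← hmk1, map_mul, map_inv, hab, inv_mul_cancel]
        have hn' : n' ∈ N₀ := by
          rw [hn'_def, ← hmk1, map_mul, map_inv, hbb, inv_mul_cancel]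
        have e1 : a = a' * n := by rw [hn_def]; group
        have e2 : b = b' * n' := by rw [hn'_def]; group
        rw [e1, comm_left a' b n (hN₀c n hn b hb), e2, comm_right a' b' n' (hN₀c n' hn' a' ha')]
      obtain ⟨c, hc⟩ : ∃ c : Additive ↥(Q.map mk) → Additive ↥(Q.map mk) → Additive ↥N₀,
          ∀ v w, ((Additive.toMul (c v w) : ↥N₀) : G)
            = rep v * rep w * (rep v)⁻¹ * (rep w)⁻¹ :=
        ⟨fun v w => Additive.ofMul ⟨rep v * rep w * (rep v)⁻¹ * (rep w)⁻¹,
          hcomm _ (hrep v).1 _ (hrep w).1⟩, fun v w => rfl⟩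
      have hcval : ∀ v w, ∀ a ∈ Q, ∀ b ∈ Q,
          mk a = ((Additive.toMul v : ↥(Q.map mk)) : G ⧸ N₀) →
          mk b = ((Additive.toMul w : ↥(Q.map mk)) : G ⧸ N₀) →
          ((Additive.toMul (c v w) : ↥N₀) : G) = a * b * a⁻¹ * b⁻¹ := by
        intro v w a ha b hb hav hbw
        rw [hc]
        exact hwd _ (hrep v).1 _ ha _ (hrep w).1 _ hb ((hrep v).2.trans hav.symm)
          ((hrep w).2.trans hbw.symm)
      have hc1 : ∀ v v' w, c (v + v') w = c v w + c v' w := by
        intro v v' w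
        apply Additive.toMul.injective
        apply Subtype.ext
        have e := hcval (v + v') w (rep v * rep v') (Q.mul_mem (hrep v).1 (hrep v').1)
          (rep w) (hrep w).1 (by rw [map_mul, (hrep v).2, (hrep v').2]; rfl) (hrep w).2
        rw [e, toMul_add, Subgroup.coe_mul, hc, hc]
        have hn := hcomm _ (hrep v').1 _ (hrep w).1
        rw [comm_mul_left (rep v) (rep v') (rep w) (hN₀c _ hn _ (hrep v).1)]
        exact hN₀c _ hn _ (hN₀Q (hcomm _ (hrep v).1 _ (hrep w).1))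
      have hc2 : ∀ v w w', c v (w + w') = c v w + c v w' := by
        intro v w w'
        apply Additive.toMul.injective
        apply Subtype.ext
        have e := hcval v (w + w') (rep v) (hrep v).1 (rep w * rep w')
          (Q.mul_mem (hrep w).1 (hrep w').1) (hrep v).2
          (by rw [map_mul, (hrep w).2, (hrep w').2]; rfl)
        rw [e, toMul_add, Subgroup.coe_mul, hc, hc]
        have hn := hcomm _ (hrep v).1 _ (hrep w').1
        exact comm_mul_right (rep v) (rep w) (rep w') (hN₀c _ hn _ (hrep w).1)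
      have hceq : ∀ (g : SpecialLinearGroup (Fin 2) K) v w, c (g • v) (g • w) = g • c v w := by
        intro g v w
        obtain ⟨ĝ, rfl⟩ := h.surj g
        apply Additive.toMul.injective
        apply Subtype.ext
        have e1 : ∀ u : Additive ↥(Q.map mk), mk (ĝ * rep u * ĝ⁻¹)
            = ((Additive.toMul (π ĝ • u) : ↥(Q.map mk)) : G ⧸ N₀) := by
          intro u
          have := hsm₁ (mk ĝ) u
          rw [hπ''] at this
          rw [this, map_mul, map_mul, map_inv, (hrep u).2]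
        have e := hcval (π ĝ • v) (π ĝ • w) (ĝ * rep v * ĝ⁻¹) (hQn.conj_mem _ (hrep v).1 ĝ)
          (ĝ * rep w * ĝ⁻¹) (hQn.conj_mem _ (hrep w).1 ĝ) (e1 v) (e1 w)
        rw [e, hsm₃, hc]
        group
      have hzero := bilin_zero hsq hK h2₁ h2₁ h2₃ hfpf₁ hfpf₁ hfpf₃ c hc1 hc2 hceq
      intro a ha b hb
      have e := hcval (Additive.ofMul ⟨mk a, Subgroup.mem_map_of_mem mk ha⟩)
        (Additive.ofMul ⟨mk b, Subgroup.mem_map_of_mem mk hb⟩) a ha b hb rfl rfl
      rw [hzero] at e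
      have e' : a * b * a⁻¹ * b⁻¹ = 1 := e.symm
      calc a * b = (a * b * a⁻¹ * b⁻¹) * (b * a) := by group
        _ = b * a := by rw [e', one_mul]
    refine ⟨habel, ?_⟩
    haveI : IsMulCommutative ↥Q := ⟨⟨fun a b => Subtype.ext (habel a.1 a.2 b.1 b.2)⟩⟩
    obtain ⟨instQ, hsmQ⟩ := exists_action π h.surj Q
      (fun g hg v hv => by rw [h.ker] at hg; exact habel g hg v hv)
    have hfpfQ := fpf_module h Q le_rfl hsmQ
    have h4 : ∀ v : Additive ↥Q, v + v + (v + v) = 0 := fun v =>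
      Additive.toMul.injective (Subtype.ext (hN₀2 _ (hsqN _ (Additive.toMul v).2)))
    have hexp := HigZ4.exp_two hsq hodd hK hfpfQ h4
    intro a ha
    have e := congrArg (fun v => ((Additive.toMul v : ↥Q) : G)) (hexp (Additive.ofMul ⟨a, ha⟩))
    exact e

end Main

end Cfsg.Agent.Lib.helper56.HigG
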