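import Mathlib
import Cfsg.Prelude.Def_Local
import Cfsg.Agent.Lib.helper53.Comm
import Cfsg.Agent.Lib.helper53.SylowExtra
import Cfsg.Agent.Lib.helper27.Radical
import Cfsg.Agent.Lib.helper28.Components
import Cfsg.Agent.Lib.helper54.CoprimeMaxInv
import Cfsg.Agent.Lib.helper52.SupTools

set_option autoImplicit false

namespace Cfsg.Agent.Lib.helper56

open Cfsg
open scoped commutatorElement

section IsoPMin

variable {G : Type*} [Group G] [Finite G] {p : ℕ} [Fact p.Prime]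

/-- A `p`-subgroup of a normal subgroup `N` that is normalized by `N` lies in `O_p(G)`. -/
theorem le_pCore_of_normal_of_le_normalizer {N X : Subgroup G} [N.Normal] (hXN : X ≤ N)
    (hn : N ≤ Subgroup.normalizer (X : Set G)) (hX : IsPGroup p X) : X ≤ pCore p G := by
  have h1 := Cfsg.Agent.Lib.helper27.le_map_pCore_of_normal hXN hn hX
  rw [Cfsg.Agent.Lib.helper53.pCore_subgroupOf_normal p N] at h1
  intro x hx
  obtain ⟨y, hy, rfl⟩ := h1 hx
  exact Subgroup.mem_subgroupOf.mp hy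

/-- A group in which all commutators are central is nilpotent of class at most 2. -/
theorem isNilpotent_of_commutator_central {H : Type*} [Group H]
    (h : ∀ a b c : H, ⁅a, b⁆ * c = c * ⁅a, b⁆) :
    ∃ _ : Group.IsNilpotent H, Group.nilpotencyClass H ≤ 2 := by
  have h2 : Subgroup.upperCentralSeries H 2 = ⊤ := by
    rw [eq_top_iff]
    intro x _
    rw [show (2 : ℕ) = 1 + 1 from rfl, Subgroup.mem_upperCentralSeries_succ_iff]
    intro y
    rw [Subgroup.upperCentralSeries_one, Subgroup.mem_center_iff]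
    intro c
    have := h x y c
    rw [commutatorElement_def] at this
    exact this.symm
  haveI : Group.IsNilpotent H := ⟨⟨2, h2⟩⟩
  exact ⟨inferInstance, Subgroup.upperCentralSeries_eq_top_iff_nilpotencyClass_le.mp h2⟩

theorem isNilpotent_subgroup_of_commutator_le_centralizer {Y : Subgroup G}
    (h : ⁅Y, Y⁆ ≤ Subgroup.centralizer (Y : Set G)) :
    ∃ _ : Group.IsNilpotent ↥Y, Group.nilpotencyClass ↥Y ≤ 2 := by
  apply isNilpotent_of_commutator_central
  intro a b c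
  have h1 : ⁅(a : G), (b : G)⁆ ∈ Subgroup.centralizer (Y : Set G) :=
    h (Subgroup.commutator_mem_commutator a.2 b.2)
  rw [commutatorElement_def] at h1
  have h2 := Subgroup.mem_centralizer_iff.mp h1 c c.2
  rw [commutatorElement_def]
  apply Subtype.ext
  simp only [Subgroup.coe_mul, Subgroup.coe_inv]
  exact h2.symm

/-- Core step: the largest normal subgroup `N0` centralized by `Q`. -/
theorem iso_core {S Q R : Subgroup G} (hO : pCore p G = ⊥)
    (hQ : IsPGroup p Q)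
    (hRN : ∀ N : Subgroup G, N.Normal → R ≤ N ⊔ S → R ≤ N)
    (hdich : ∀ K : Subgroup G, S ≤ K → R ≤ K ∨ K ≤ Subgroup.normalizer (Q : Set G))
    (hRQ : ¬ R ≤ Subgroup.normalizer (Q : Set G)) :
    ∃ N0 : Subgroup G, N0.Normal ∧ N0 ≤ Subgroup.centralizer (Q : Set G) ∧
      ¬ Subgroup.normalClosure (R : Set G) ≤ N0 ∧
      (∀ N : Subgroup G, N.Normal → Subgroup.normalClosure (R : Set G) ≤ N ∨ N ≤ N0) ∧
      Subgroup.normalClosure (R : Set G) ⊓ N0 ≤
        Subgroup.centralizer (Subgroup.normalClosure (R : Set G) : Set G) := by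
  set Y := Subgroup.normalClosure (R : Set G) with hY
  have hRY : R ≤ Y := Subgroup.le_normalClosure
  haveI hYn : Y.Normal := Subgroup.normalClosure_normal
  have step1 : ∀ N : Subgroup G, N.Normal → Y ≤ N ∨ N ≤ Subgroup.centralizer (Q : Set G) := by
    intro N hN
    rcases hdich (N ⊔ S) le_sup_right with h | h
    · left
      haveI := hN
      exact Subgroup.normalClosure_le_normal (hRN N hN h)
    · right
      have hNQ : N ≤ Subgroup.normalizer (Q : Set G) := le_sup_left.trans h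
      haveI := hN
      have h1 : N ⊓ Q ≤ pCore p G := by
        refine le_pCore_of_normal_of_le_normalizer (N := N) inf_le_left ?_ (hQ.to_le inf_le_right)
        intro n hn
        rw [Subgroup.mem_normalizer_iff]
        intro x
        have hnQ := Subgroup.mem_normalizer_iff.mp (hNQ hn) x
        simp only [Subgroup.mem_inf]
        constructor
        · rintro ⟨hx1, hx2⟩
          exact ⟨hN.conj_mem x hx1 n, hnQ.mp hx2⟩
        · rintro ⟨hx1, hx2⟩
          refine ⟨?_, hnQ.mpr hx2⟩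
          have := hN.conj_mem _ hx1 n⁻¹
          have e : n⁻¹ * (n * x * n⁻¹) * n⁻¹⁻¹ = x := by group
          rwa [e] at this
      rw [hO] at h1
      rw [← Subgroup.commutator_eq_bot_iff_le_centralizer, eq_bot_iff]
      refine le_trans (le_inf ?_ ?_) h1
      · exact Subgroup.commutator_le_left N Q
      · exact Cfsg.Agent.Lib.helper53.commutator_le_right_of_le_normalizer hNQ
  have step2 : ¬ Y ≤ Subgroup.centralizer (Q : Set G) := fun h =>
    hRQ (hRY.trans (h.trans (Subgroup.centralizer_le_normalizer _)))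
  refine ⟨(Subgroup.centralizer (Q : Set G)).normalCore, Subgroup.normalCore_normal _,
    Subgroup.normalCore_le _, ?_, ?_, ?_⟩
  · exact fun h => step2 (h.trans (Subgroup.normalCore_le _))
  · intro N hN
    rcases step1 N hN with h | h
    · exact Or.inl h
    · right
      haveI := hN
      exact Subgroup.normal_le_normalCore.mpr h
  · set N0 := (Subgroup.centralizer (Q : Set G)).normalCore with hN0
    haveI hN0n : N0.Normal := Subgroup.normalCore_normal _
    haveI hZn : (Y ⊓ N0).Normal := inferInstance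
    have hCn : (Subgroup.centralizer ((Y ⊓ N0 : Subgroup G) : Set G)).Normal :=
      Subgroup.normal_centralizer
    rcases step1 _ hCn with h | h
    · exact Subgroup.le_centralizer_iff.mp h
    · exfalso
      have hQC : Q ≤ Subgroup.centralizer ((Y ⊓ N0 : Subgroup G) : Set G) :=
        Subgroup.le_centralizer_iff.mp (inf_le_right.trans (Subgroup.normalCore_le _))
      haveI := hCn
      have hncl : Subgroup.normalClosure (Q : Set G) ≤
          Subgroup.centralizer ((Y ⊓ N0 : Subgroup G) : Set G) :=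
        Subgroup.normalClosure_le_normal hQC
      have hM1 : Subgroup.normalClosure (Q : Set G) ≤ Subgroup.centralizer (Q : Set G) :=
        hncl.trans h
      have hM2 : Q ≤ Subgroup.centralizer (Subgroup.normalClosure (Q : Set G) : Set G) :=
        Subgroup.le_centralizer_iff.mp hM1
      haveI hMn : (Subgroup.normalClosure (Q : Set G)).Normal := Subgroup.normalClosure_normal
      haveI hCMn : (Subgroup.centralizer (Subgroup.normalClosure (Q : Set G) : Set G)).Normal :=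
        Subgroup.normal_centralizer
      have hM3 : Subgroup.normalClosure (Q : Set G) ≤
          Subgroup.centralizer (Subgroup.normalClosure (Q : Set G) : Set G) :=
        Subgroup.normalClosure_le_normal hM2
      have hMp : IsPGroup p (Subgroup.normalClosure (Q : Set G)) := by
        have := Cfsg.Agent.Lib.helper52.isPGroup_closure_of_commute (p := p)
          (Group.conjugatesOfSet (Q : Set G)) ?_ ?_
        · exact this
        · intro a ha b hb
          exact (Subgroup.mem_centralizer_iff.mp (hM3 ha) b hb).symm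
        · intro s hs
          rw [Group.mem_conjugatesOfSet_iff] at hs
          obtain ⟨q, hq, hconj⟩ := hs
          obtain ⟨c, rfl⟩ := isConj_iff.mp hconj
          obtain ⟨k, hk⟩ := hQ ⟨q, hq⟩
          refine ⟨k, ?_⟩
          have hk' : q ^ p ^ k = 1 := by simpa using congrArg Subtype.val hk
          rw [conj_pow, hk']; simp
      have hMO : Subgroup.normalClosure (Q : Set G) ≤ pCore p G := le_sSup ⟨hMn, hMp⟩
      rw [hO] at hMO
      have hQbot : Q = ⊥ := eq_bot_iff.mpr (Subgroup.le_normalClosure.trans hMO)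
      apply hRQ
      rw [hQbot]
      intro r _
      rw [Subgroup.mem_normalizer_iff]
      intro x
      simp

/-- Part (a): `Y ≤ F*(G)`. -/
theorem iso_le_fstar {Y N0 : Subgroup G} [hYn : Y.Normal]
    (hmax : ∀ N : Subgroup G, N.Normal → Y ≤ N ∨ N ≤ N0)
    (hZ : Y ⊓ N0 ≤ Subgroup.centralizer (Y : Set G)) :
    Y ≤ generalizedFittingSubgroup G := by
  by_cases hperf : ⁅Y, Y⁆ = Y
  · by_contra hcon
    haveI hFn : (generalizedFittingSubgroup G).Normal :=
      Cfsg.Agent.Lib.helper28.generalizedFittingSubgroup_normal G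
    have h1 : Y ⊓ generalizedFittingSubgroup G ≤ N0 := by
      rcases hmax (Y ⊓ generalizedFittingSubgroup G) inferInstance with h | h
      · exact absurd (h.trans inf_le_right) hcon
      · exact h
    have h2 : ⁅Y, generalizedFittingSubgroup G⁆ ≤ Subgroup.centralizer (Y : Set G) :=
      (le_inf (Subgroup.commutator_le_left Y _) (Subgroup.commutator_le_right Y _)).trans
        ((le_inf inf_le_left h1).trans hZ)
    have h3 : ⁅⁅Y, generalizedFittingSubgroup G⁆, Y⁆ = ⊥ :=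
      Subgroup.commutator_eq_bot_iff_le_centralizer.mpr h2
    have h4 : ⁅⁅generalizedFittingSubgroup G, Y⁆, Y⁆ = ⊥ := by
      rw [Subgroup.commutator_comm (generalizedFittingSubgroup G) Y]; exact h3
    have h5 : ⁅⁅Y, Y⁆, generalizedFittingSubgroup G⁆ = ⊥ :=
      Subgroup.commutator_commutator_eq_bot_of_rotate h3 h4
    rw [hperf] at h5
    have h6 : Y ≤ Subgroup.centralizer (generalizedFittingSubgroup G : Set G) :=
      Subgroup.commutator_eq_bot_iff_le_centralizer.mp h5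
    exact hcon (h6.trans (Cfsg.Agent.Lib.helper28.centralizer_generalizedFittingSubgroup_le G))
  · have h1 : ⁅Y, Y⁆ ≤ N0 := by
      rcases hmax ⁅Y, Y⁆ inferInstance with h | h
      · exact absurd (le_antisymm (Subgroup.commutator_le_left Y Y) h) hperf
      · exact h
    have h2 : ⁅Y, Y⁆ ≤ Subgroup.centralizer (Y : Set G) :=
      (le_inf (Subgroup.commutator_le_left Y Y) h1).trans hZ
    obtain ⟨hnil, -⟩ := isNilpotent_subgroup_of_commutator_le_centralizer h2
    exact (le_sSup ⟨hYn, hnil⟩ : Y ≤ fittingSubgroup G).trans le_sup_right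

/-- A nilpotent `Y` as in the core step is a `t`-group for a prime `t`. -/
theorem iso_exists_prime {Y N0 : Subgroup G} [hYn : Y.Normal]
    (hmax : ∀ N : Subgroup G, N.Normal → Y ≤ N ∨ N ≤ N0) (hYN0 : ¬ Y ≤ N0)
    (hnil : Group.IsNilpotent ↥Y) : ∃ t : ℕ, t.Prime ∧ IsPGroup t ↥Y := by
  have hrel : N0.relIndex Y ≠ 1 := fun h => hYN0 (Subgroup.relIndex_eq_one.mp h)
  set t := (N0.relIndex Y).minFac with ht
  have htp : t.Prime := Nat.minFac_prime hrel
  haveI : Fact t.Prime := ⟨htp⟩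
  obtain ⟨T⟩ : Nonempty (Sylow t ↥Y) := inferInstance
  have hall : ∀ (q : ℕ) (_hq : Fact q.Prime) (P : Sylow q ↥Y), (P : Subgroup ↥Y).Normal :=
    ((Group.isNilpotent_of_finite_tfae (G := ↥Y)).out 0 3).mp hnil
  have hTn : (T : Subgroup ↥Y).Normal := hall t inferInstance T
  haveI hTc : (T : Subgroup ↥Y).Characteristic := Sylow.characteristic_of_normal T hTn
  have hTGn : ((T : Subgroup ↥Y).map Y.subtype).Normal :=
    ConjAct.normal_of_characteristic_of_normal
  rcases hmax _ hTGn with h | h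
  · refine ⟨t, htp, ?_⟩
    intro y
    obtain ⟨x, hx, hxy⟩ := h y.2
    have hxy' : x = y := Subtype.ext hxy
    subst hxy'
    obtain ⟨k, hk⟩ := T.isPGroup' ⟨x, hx⟩
    refine ⟨k, ?_⟩
    have := congrArg Subtype.val hk
    simpa using this
  · exfalso
    have h1 : (T : Subgroup ↥Y) ≤ N0.subgroupOf Y := by
      intro x hx
      rw [Subgroup.mem_subgroupOf]
      exact h ⟨x, hx, rfl⟩
    have h2 : (N0.subgroupOf Y).index ∣ (T : Subgroup ↥Y).index := Subgroup.index_dvd_of_le h1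
    have h3 : t ∣ N0.relIndex Y := Nat.minFac_dvd _
    exact T.not_dvd_index (h3.trans h2)

/-- `Y / Z` has exponent `t`. -/
theorem iso_pow_mem {Y N0 : Subgroup G} [hYn : Y.Normal] [hN0 : N0.Normal] {t : ℕ}
    (hmax : ∀ N : Subgroup G, N.Normal → Y ≤ N ∨ N ≤ N0) (hYN0 : ¬ Y ≤ N0)
    (hcomm : ⁅Y, Y⁆ ≤ Y ⊓ N0) (hYt : IsPGroup t ↥Y) :
    ∀ y ∈ Y, y ^ t ∈ Y ⊓ N0 := by
  haveI hZn : (Y ⊓ N0).Normal := inferInstance
  have hmul : ∀ a ∈ Y, ∀ b ∈ Y, ∀ n : ℕ, (a * b) ^ n * (a ^ n * b ^ n)⁻¹ ∈ Y ⊓ N0 := by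
    intro a ha b hb n
    rw [← QuotientGroup.eq_one_iff (N := Y ⊓ N0)]
    have hc : Commute (QuotientGroup.mk a : G ⧸ (Y ⊓ N0)) (QuotientGroup.mk b) := by
      have h1 : ⁅a, b⁆ ∈ Y ⊓ N0 := hcomm (Subgroup.commutator_mem_commutator ha hb)
      have h2 : (QuotientGroup.mk ⁅a, b⁆ : G ⧸ (Y ⊓ N0)) = 1 :=
        (QuotientGroup.eq_one_iff _).mpr h1
      rw [commutatorElement_def] at h2
      simp only [QuotientGroup.mk_mul, QuotientGroup.mk_inv] at h2
      show (QuotientGroup.mk a : G ⧸ (Y ⊓ N0)) * QuotientGroup.mk b =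
        QuotientGroup.mk b * QuotientGroup.mk a
      calc (QuotientGroup.mk a : G ⧸ (Y ⊓ N0)) * QuotientGroup.mk b
          = (QuotientGroup.mk a * QuotientGroup.mk b * (QuotientGroup.mk a)⁻¹ *
              (QuotientGroup.mk b)⁻¹) * (QuotientGroup.mk b * QuotientGroup.mk a) := by group
        _ = QuotientGroup.mk b * QuotientGroup.mk a := by rw [h2, one_mul]
    simp only [QuotientGroup.mk_mul, QuotientGroup.mk_inv, QuotientGroup.mk_pow]
    rw [hc.mul_pow]
    group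
  let Y1 : Subgroup G :=
    { carrier := {y | y ∈ Y ∧ y ^ t ∈ Y ⊓ N0}
      mul_mem' := by
        rintro a b ⟨ha, ha'⟩ ⟨hb, hb'⟩
        refine ⟨Y.mul_mem ha hb, ?_⟩
        have := hmul a ha b hb t
        have e : (a * b) ^ t = ((a * b) ^ t * (a ^ t * b ^ t)⁻¹) * (a ^ t * b ^ t) := by group
        rw [e]
        exact (Y ⊓ N0).mul_mem this ((Y ⊓ N0).mul_mem ha' hb')
      one_mem' := ⟨Y.one_mem, by rw [one_pow]; exact (Y ⊓ N0).one_mem⟩
      inv_mem' := by
        rintro a ⟨ha, ha'⟩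
        exact ⟨Y.inv_mem ha, by rw [inv_pow]; exact (Y ⊓ N0).inv_mem ha'⟩ }
  have hY1n : Y1.Normal :=
    ⟨fun a ha g => ⟨hYn.conj_mem a ha.1 g, by rw [conj_pow]; exact hZn.conj_mem _ ha.2 g⟩⟩
  rcases hmax Y1 hY1n with h | h
  · intro y hy; exact (h hy).2
  · exfalso
    apply hYN0
    intro y hy
    by_contra hyN
    obtain ⟨k, hk⟩ := hYt ⟨y, hy⟩
    have hk' : y ^ t ^ k = 1 := by simpa using congrArg Subtype.val hk
    have hex : ∃ j, y ^ t ^ j ∈ N0 := ⟨k, by rw [hk']; exact N0.one_mem⟩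
    classical
    have hj1 : y ^ t ^ (Nat.find hex) ∈ N0 := Nat.find_spec hex
    have hj0 : Nat.find hex ≠ 0 := by
      intro h0
      rw [h0] at hj1
      simp at hj1
      exact hyN hj1
    obtain ⟨i, hi⟩ := Nat.exists_eq_succ_of_ne_zero hj0
    have hi1 : y ^ t ^ i ∉ N0 := Nat.find_min hex (by omega)
    apply hi1
    apply h
    show y ^ t ^ i ∈ Y ∧ (y ^ t ^ i) ^ t ∈ Y ⊓ N0
    refine ⟨Y.pow_mem hy _, ?_⟩
    rw [← pow_mul, ← pow_succ, ← Nat.succ_eq_add_one, ← hi]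
    exact ⟨Y.pow_mem hy _, hj1⟩

/-- `Y = [Y, Q]`. -/
theorem iso_comm_eq {Q R Y N0 : Subgroup G} [hYn : Y.Normal] {t : ℕ}
    (hQ : IsPGroup p Q) (hRY : R ≤ Y)
    (hmax : ∀ N : Subgroup G, N.Normal → Y ≤ N ∨ N ≤ N0)
    (hN0Q : N0 ≤ Subgroup.centralizer (Q : Set G))
    (hYQ : ¬ Y ≤ Subgroup.centralizer (Q : Set G))
    (hgen : R ⊔ Subgroup.normalizer (Q : Set G) = ⊤)
    (ht : t.Prime) (htp : t ≠ p) (hYt : IsPGroup t ↥Y) : Y ≤ ⁅Y, Q⁆ := by
  have hWn : (⁅Y, Q⁆ : Subgroup G).Normal := by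
    rw [← Subgroup.normalizer_eq_top_iff, eq_top_iff, ← hgen]
    refine sup_le (hRY.trans (Cfsg.Agent.Lib.helper53.le_normalizer_commutator_left Y Q)) ?_
    intro g hg
    refine Cfsg.Agent.Lib.helper53.mem_normalizer_commutator ?_ hg
    rw [Subgroup.normalizer_eq_top_iff.mpr hYn]
    trivial
  rcases hmax _ hWn with h | h
  · exact h
  · exfalso
    apply hYQ
    rw [← Subgroup.commutator_eq_bot_iff_le_centralizer, eq_bot_iff, Subgroup.commutator_le]
    intro y hy q hq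
    rw [Subgroup.mem_bot]
    have hz : ⁅y, q⁆ ∈ ⁅Y, Q⁆ := Subgroup.commutator_mem_commutator hy hq
    have hzY : ⁅y, q⁆ ∈ Y := Subgroup.commutator_le_left Y Q hz
    have hzc : ⁅y, q⁆ ∈ Subgroup.centralizer (Q : Set G) := hN0Q (h hz)
    have hcomm : Commute ⁅y, q⁆ q := (Subgroup.mem_centralizer_iff.mp hzc q hq).symm
    have e : y * q * y⁻¹ = ⁅y, q⁆ * q := by rw [commutatorElement_def]; group
    obtain ⟨k, hk⟩ := hQ ⟨q, hq⟩
    have hk' : q ^ p ^ k = 1 := by simpa using congrArg Subtype.val hk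
    have h1 : ⁅y, q⁆ ^ p ^ k = 1 := by
      have h2 : (y * q * y⁻¹) ^ p ^ k = 1 := by rw [conj_pow, hk']; simp
      rw [e, hcomm.mul_pow, hk', mul_one] at h2
      exact h2
    obtain ⟨l, hl⟩ := hYt ⟨⁅y, q⁆, hzY⟩
    have hl' : ⁅y, q⁆ ^ t ^ l = 1 := by simpa using congrArg Subtype.val hl
    have hcop : (orderOf ⁅y, q⁆).Coprime p := by
      have hd : orderOf ⁅y, q⁆ ∣ t ^ l := orderOf_dvd_of_pow_eq_one hl'
      exact Nat.Coprime.coprime_dvd_left hd
        (Nat.Coprime.pow_left l ((Nat.coprime_primes ht (Fact.out)).mpr htp))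
    exact Cfsg.Agent.Lib.helper52.eq_one_of_coprime_of_pow hcop h1

/-- Maschke step: an `S`-invariant complement of `R Z / Z` in `Y / Z`. -/
theorem iso_exists_compl {S R Y Z : Subgroup G} [hYn : Y.Normal] [hZn : Z.Normal] {t : ℕ}
    (hS : IsPGroup p S) (hSR : S ≤ Subgroup.normalizer (R : Set G)) (hRY : R ≤ Y) (hZY : Z ≤ Y)
    (ht : t.Prime) (htp : t ≠ p) (hYt : IsPGroup t ↥Y)
    (hcomm : ⁅Y, Y⁆ ≤ Z) (hexp : ∀ y ∈ Y, y ^ t ∈ Z) :
    ∃ V : Subgroup G, Z ≤ V ∧ V ≤ Y ∧ S ≤ Subgroup.normalizer (V : Set G) ∧ V ⊓ R ≤ Z ∧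
      Y ≤ R ⊔ V := by
  classical
  obtain ⟨π, hπ⟩ : ∃ π : G →* G ⧸ Z, π = QuotientGroup.mk' Z := ⟨_, rfl⟩
  have hπ1 : ∀ x : G, π x = 1 ↔ x ∈ Z := fun x => by
    rw [hπ]; exact QuotientGroup.eq_one_iff x
  have hπs : Function.Surjective π := by rw [hπ]; exact QuotientGroup.mk'_surjective Z
  obtain ⟨Yb, hYb⟩ : ∃ Yb : Subgroup (G ⧸ Z), Yb = Y.map π := ⟨_, rfl⟩
  haveI hYbn : Yb.Normal := by rw [hYb]; exact Subgroup.Normal.map hYn π hπs
  have hc : ∀ x y : ↥Yb, x * y = y * x := by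
    rintro ⟨x, hx⟩ ⟨y, hy⟩
    rw [hYb] at hx hy
    obtain ⟨a, ha, rfl⟩ := hx
    obtain ⟨b, hb, rfl⟩ := hy
    apply Subtype.ext
    show π a * π b = π b * π a
    have h1 : ⁅a, b⁆ ∈ Z := hcomm (Subgroup.commutator_mem_commutator ha hb)
    have h2 : π ⁅a, b⁆ = 1 := (hπ1 _).mpr h1
    rw [commutatorElement_def, map_mul, map_mul, map_mul, map_inv, map_inv] at h2
    calc π a * π b = (π a * π b * (π a)⁻¹ * (π b)⁻¹) * (π b * π a) := by group
      _ = π b * π a := by rw [h2, one_mul]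
  have hexp' : ∀ v : ↥Yb, v ^ t = 1 := by
    rintro ⟨x, hx⟩
    rw [hYb] at hx
    obtain ⟨a, ha, rfl⟩ := hx
    apply Subtype.ext
    show (π a) ^ t = 1
    rw [← map_pow]
    exact (hπ1 _).mpr (hexp a ha)
  let φ : ↥S →* MulAut ↥Yb := (MulAut.conjNormal (H := Yb)).comp (π.comp S.subtype)
  have hφ : ∀ (s : ↥S) (v : ↥Yb), ((φ s v : ↥Yb) : G ⧸ Z) = π s * v * (π s)⁻¹ := fun s v => by
    simp [φ]
  have hcop : (Nat.card ↥S).Coprime (Nat.card ↥Yb) := by
    obtain ⟨a, ha⟩ := (IsPGroup.iff_card).mp hS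
    have hYbt : IsPGroup t ↥Yb := by rw [hYb]; exact hYt.map π
    haveI : Fact t.Prime := ⟨ht⟩
    obtain ⟨b, hb⟩ := (IsPGroup.iff_card).mp hYbt
    rw [ha, hb]
    exact Nat.Coprime.pow _ _ ((Nat.coprime_primes Fact.out ht).mpr (Ne.symm htp))
  obtain ⟨U, hU⟩ : ∃ U : Subgroup ↥Yb, U = (R.map π).subgroupOf Yb := ⟨_, rfl⟩
  have hUinv : ∀ (a : ↥S) (u : ↥Yb), u ∈ U → φ a u ∈ U := by
    intro s u hu
    rw [hU, Subgroup.mem_subgroupOf] at hu ⊢
    rw [hφ]
    obtain ⟨r, hr, hru⟩ := hu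
    rw [← hru]
    refine ⟨s * r * s⁻¹, (Subgroup.mem_normalizer_iff.mp (hSR s.2) r).mp hr, by simp⟩
  obtain ⟨W, hW1, hW2, hW3⟩ :=
    Cfsg.Agent.Lib.helper54.maschke_of_comm hc ht hexp' φ hcop U hUinv
  obtain ⟨V, hV⟩ : ∃ V : Subgroup G, V = Y ⊓ (W.map Yb.subtype).comap π := ⟨_, rfl⟩
  have hVmem : ∀ x : G, x ∈ V ↔ x ∈ Y ∧ ∃ w ∈ W, (w : G ⧸ Z) = π x := by
    intro x
    rw [hV, Subgroup.mem_inf, Subgroup.mem_comap, Subgroup.mem_map]
    rfl
  refine ⟨V, ?_, ?_, ?_, ?_, ?_⟩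
  · intro z hz
    rw [hVmem]
    refine ⟨hZY hz, 1, W.one_mem, ?_⟩
    rw [(hπ1 z).mpr hz]
    rfl
  · intro x hx
    exact ((hVmem x).mp hx).1
  · have key : ∀ s ∈ S, ∀ v ∈ V, s * v * s⁻¹ ∈ V := by
      intro s hs v hv
      rw [hVmem] at hv ⊢
      obtain ⟨hvY, w, hw, hwv⟩ := hv
      refine ⟨hYn.conj_mem v hvY s, φ ⟨s, hs⟩ w, hW1 _ _ hw, ?_⟩
      rw [hφ, hwv]
      simp
    intro s hs
    rw [Subgroup.mem_normalizer_iff]
    intro v
    refine ⟨key s hs v, fun h => ?_⟩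
    have := key s⁻¹ (S.inv_mem hs) _ h
    have e : s⁻¹ * (s * v * s⁻¹) * s⁻¹⁻¹ = v := by group
    rwa [e] at this
  · rintro x ⟨hxV, hxR⟩
    obtain ⟨hxY, w, hw, hwx⟩ := (hVmem x).mp hxV
    have hwU : w ∈ U := by
      rw [hU, Subgroup.mem_subgroupOf, hwx]
      exact Subgroup.mem_map_of_mem π hxR
    have hw1 : w ∈ U ⊓ W := ⟨hwU, hw⟩
    rw [hW2, Subgroup.mem_bot] at hw1
    have : π x = 1 := by
      rw [← hwx, hw1]; rfl
    exact (hπ1 x).mp this
  · intro y hy
    have hyb : π y ∈ Yb := by rw [hYb]; exact Subgroup.mem_map_of_mem π hy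
    have htop : (⟨π y, hyb⟩ : ↥Yb) ∈ U ⊔ W := by rw [hW3]; trivial
    haveI hWn : W.Normal :=
      ⟨fun n hn g => by rw [hc g n, mul_inv_cancel_right]; exact hn⟩
    obtain ⟨u, hu, w, hw, huw⟩ := Subgroup.mem_sup_of_normal_right.mp htop
    rw [hU, Subgroup.mem_subgroupOf] at hu
    obtain ⟨r, hr, hru⟩ := hu
    have hv : r⁻¹ * y ∈ V := by
      rw [hVmem]
      refine ⟨Y.mul_mem (Y.inv_mem (hRY hr)) hy, w, hw, ?_⟩
      have h1 : (u : G ⧸ Z) * (w : G ⧸ Z) = π y := congrArg Subtype.val huw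
      rw [map_mul, map_inv, hru, ← h1]
      group
    have e : y = r * (r⁻¹ * y) := by group
    rw [e]
    exact Subgroup.mul_mem_sup hr hv

/-- The abstract theorem in a group with trivial `O_p`. -/
theorem iso_main {S Q R : Subgroup G} (hO : pCore p G = ⊥)
    (hS : IsPGroup p S) (hQ : IsPGroup p Q) (hQS : Q ≤ S)
    (hSR : S ≤ Subgroup.normalizer (R : Set G))
    (hRN : ∀ N : Subgroup G, N.Normal → R ≤ N ⊔ S → R ≤ N)
    (hdich : ∀ K : Subgroup G, S ≤ K → R ≤ K ∨ K ≤ Subgroup.normalizer (Q : Set G))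
    (hRQ : ¬ R ≤ Subgroup.normalizer (Q : Set G))
    (hgen : R ⊔ Subgroup.normalizer (Q : Set G) = ⊤) :
    Subgroup.normalClosure (R : Set G) ≤ generalizedFittingSubgroup G ∧
    (Group.IsSolvable ↥(Subgroup.normalClosure (R : Set G)) →
      Subgroup.normalClosure (R : Set G) ≤ R ∧ ∃ t : ℕ, t.Prime ∧ t ≠ p ∧
        IsPGroup t ↥(Subgroup.normalClosure (R : Set G)) ∧
        ⁅Subgroup.normalClosure (R : Set G), Subgroup.normalClosure (R : Set G)⁆ ≤
          Subgroup.centralizer (Subgroup.normalClosure (R : Set G) : Set G)) := by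
  obtain ⟨N0, hN0n, hN0Q, hYN0, hmax, hZ⟩ := iso_core hO hQ hRN hdich hRQ
  obtain ⟨Y, hY⟩ : ∃ Y : Subgroup G, Y = Subgroup.normalClosure (R : Set G) := ⟨_, rfl⟩
  rw [← hY] at hYN0 hmax hZ ⊢
  have hRY : R ≤ Y := by rw [hY]; exact Subgroup.le_normalClosure
  haveI hYn : Y.Normal := by rw [hY]; exact Subgroup.normalClosure_normal
  haveI := hN0n
  refine ⟨iso_le_fstar hmax hZ, ?_⟩
  intro hsol
  have hYne : Y ≠ ⊥ := fun h => hYN0 (h ▸ bot_le)
  have hder : ⁅Y, Y⁆ ≠ Y := by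
    intro h
    haveI : Nontrivial ↥Y := (Subgroup.nontrivial_iff_ne_bot Y).mpr hYne
    have h1 := Group.IsSolvable.commutator_lt_top_of_nontrivial ↥Y
    have h2 : (commutator ↥Y).map Y.subtype = ⁅Y, Y⁆ := Subgroup.map_subtype_commutator Y
    rw [h] at h2
    have h3 : commutator ↥Y = ⊤ := by
      rw [eq_top_iff]
      intro y _
      have hy : (y : G) ∈ (commutator ↥Y).map Y.subtype := by rw [h2]; exact y.2
      obtain ⟨x, hx, hxy⟩ := hy
      have : x = y := Subtype.ext hxy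
      rwa [← this]
    exact absurd h3 (ne_of_lt h1)
  have hcomN0 : ⁅Y, Y⁆ ≤ N0 := by
    rcases hmax ⁅Y, Y⁆ inferInstance with h | h
    · exact absurd (le_antisymm (Subgroup.commutator_le_left Y Y) h) hder
    · exact h
  have hcomm : ⁅Y, Y⁆ ≤ Y ⊓ N0 := le_inf (Subgroup.commutator_le_left Y Y) hcomN0
  have hcomC : ⁅Y, Y⁆ ≤ Subgroup.centralizer (Y : Set G) := hcomm.trans hZ
  obtain ⟨hnil, -⟩ := isNilpotent_subgroup_of_commutator_le_centralizer hcomC
  obtain ⟨t, ht, hYt⟩ := iso_exists_prime hmax hYN0 hnil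
  have htp : t ≠ p := by
    rintro rfl
    have : Y ≤ pCore t G := le_sSup ⟨hYn, hYt⟩
    rw [hO] at this
    exact hYne (eq_bot_iff.mpr this)
  refine ⟨?_, t, ht, htp, hYt, hcomC⟩
  have hexp := iso_pow_mem hmax hYN0 hcomm hYt
  haveI hZn : (Y ⊓ N0).Normal := inferInstance
  obtain ⟨V, hZV, hVY, hSV, hVR, hYRV⟩ :=
    iso_exists_compl (Z := Y ⊓ N0) hS hSR hRY inf_le_left ht htp hYt hcomm hexp
  have hYQ : ¬ Y ≤ Subgroup.centralizer (Q : Set G) := fun h =>
    hRQ (hRY.trans (h.trans (Subgroup.centralizer_le_normalizer _)))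
  -- a `p`-group meets the `t`-group `Y` trivially
  have hpY : ∀ x : G, x ∈ Y → (∃ k : ℕ, x ^ p ^ k = 1) → x = 1 := by
    intro x hx ⟨k, hk⟩
    obtain ⟨l, hl⟩ := hYt ⟨x, hx⟩
    have hl' : x ^ t ^ l = 1 := by simpa using congrArg Subtype.val hl
    have hcop : (orderOf x).Coprime p := by
      have hd : orderOf x ∣ t ^ l := orderOf_dvd_of_pow_eq_one hl'
      exact Nat.Coprime.coprime_dvd_left hd
        (Nat.Coprime.pow_left l ((Nat.coprime_primes ht (Fact.out)).mpr htp))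
    exact Cfsg.Agent.Lib.helper52.eq_one_of_coprime_of_pow hcop hk
  have hSY : ∀ x : G, x ∈ S → x ∈ Y → x = 1 := by
    intro x hxS hxY
    obtain ⟨k, hk⟩ := hS ⟨x, hxS⟩
    exact hpY x hxY ⟨k, by simpa using congrArg Subtype.val hk⟩
  have hVQ : V ≤ Subgroup.centralizer (Q : Set G) := by
    rcases hdich (S ⊔ V) le_sup_left with h | h
    · exfalso
      have hRV : R ≤ V := by
        intro r hr
        obtain ⟨s, hs, v, hv, rfl⟩ := Cfsg.Agent.Lib.helper52.exists_mul_of_mem_sup hSV (h hr)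
        have hsY : s ∈ Y := by
          have e : s = (s * v) * v⁻¹ := by group
          rw [e]
          exact Y.mul_mem (hRY hr) (Y.inv_mem (hVY hv))
        rw [hSY s hs hsY, one_mul]
        exact hv
      apply hRQ
      exact (le_inf hRV le_rfl).trans (hVR.trans (inf_le_right.trans
        (hN0Q.trans (Subgroup.centralizer_le_normalizer _))))
    · have hVN : V ≤ Subgroup.normalizer (Q : Set G) := le_sup_right.trans h
      rw [← Subgroup.commutator_eq_bot_iff_le_centralizer, eq_bot_iff, Subgroup.commutator_le]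
      intro v hv q hq
      rw [Subgroup.mem_bot]
      have h1 : ⁅v, q⁆ ∈ Y := by
        rw [commutatorElement_def]
        have e : v * q * v⁻¹ * q⁻¹ = v * (q * v⁻¹ * q⁻¹) := by group
        rw [e]
        exact Y.mul_mem (hVY hv) (hYn.conj_mem _ (Y.inv_mem (hVY hv)) q)
      have h2 : ⁅v, q⁆ ∈ Q := by
        rw [commutatorElement_def]
        exact Q.mul_mem ((Subgroup.mem_normalizer_iff.mp (hVN hv) q).mp hq) (Q.inv_mem hq)
      obtain ⟨k, hk⟩ := hQ ⟨⁅v, q⁆, h2⟩
      exact hpY _ h1 ⟨k, by simpa using congrArg Subtype.val hk⟩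
  have hRnV : R ≤ Subgroup.normalizer (V : Set G) := by
    have key : ∀ r ∈ Y, ∀ v ∈ V, r * v * r⁻¹ ∈ V := by
      intro r hr v hv
      have e : r * v * r⁻¹ = ⁅r, v⁆ * v := by rw [commutatorElement_def]; group
      rw [e]
      exact V.mul_mem (hZV (hcomm (Subgroup.commutator_mem_commutator hr (hVY hv)))) hv
    intro r hr
    rw [Subgroup.mem_normalizer_iff]
    intro v
    refine ⟨key r (hRY hr) v, fun h => ?_⟩
    have := key r⁻¹ (Y.inv_mem (hRY hr)) _ h
    have e : r⁻¹ * (r * v * r⁻¹) * r⁻¹⁻¹ = v := by group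
    rwa [e] at this
  have hcomR : ⁅Y, Q⁆ ≤ R := by
    rw [Subgroup.commutator_le]
    intro y hy q hq
    obtain ⟨r, hr, v, hv, rfl⟩ := Cfsg.Agent.Lib.helper52.exists_mul_of_mem_sup hRnV (hYRV hy)
    have hvq : q * v = v * q := Subgroup.mem_centralizer_iff.mp (hVQ hv) q hq
    have e : ⁅r * v, q⁆ = r * (q * r⁻¹ * q⁻¹) := by
      rw [commutatorElement_def]
      have e1 : v * q * v⁻¹ = q := by rw [← hvq]; group
      calc r * v * q * (r * v)⁻¹ * q⁻¹ = r * (v * q * v⁻¹) * r⁻¹ * q⁻¹ := by group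
        _ = r * (q * r⁻¹ * q⁻¹) := by rw [e1]; group
    rw [e]
    exact R.mul_mem hr ((Subgroup.mem_normalizer_iff.mp (hSR (hQS hq)) r⁻¹).mp (R.inv_mem hr))
  exact (iso_comm_eq hQ hRY hmax hN0Q hYQ hgen ht htp hYt).trans hcomR

end IsoPMin

end Cfsg.Agent.Lib.helper56
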