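import Mathlib
import Cfsg.Agent.Lib.helper44.LODefs

/-!
Prefixed core arithmetic for racer copies of the S2363 split pieces.
-/

set_option autoImplicit false

namespace Cfsg.Agent.Lib.helper44.LO

theorem helper56_lo_good {p : ℕ} (hp : p.Prime) (f : ℕ) (c n N M e : ℕ)
    (hc : c * n = (p ^ f) ^ N * M) (hcp : ¬ p ∣ c) (hMp : ¬ p ∣ M) (hM : M < c * (p ^ f) ^ e)
    (h1 : e ≤ 2 * N) (h2 : 3 * e ≤ 5 * N) : LOGood p n := by
  have hc0 : c ≠ 0 := by rintro rfl; exact hcp (dvd_zero p)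
  have hM0 : M ≠ 0 := by rintro rfl; exact hMp (dvd_zero p)
  have hp0 : 0 < p := hp.pos
  have hq0 : (p ^ f) ^ N ≠ 0 := by positivity
  have hn0 : n ≠ 0 := by
    rintro rfl
    rw [mul_zero] at hc
    exact (mul_ne_zero hq0 hM0) hc.symm
  have hfac : n.factorization p = f * N := by
    have h3 : (c * n).factorization p = ((p ^ f) ^ N * M).factorization p := by rw [hc]
    rw [Nat.factorization_mul hc0 hn0, Nat.factorization_mul hq0 hM0] at h3
    simp only [Finsupp.add_apply] at h3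
    rw [Nat.factorization_eq_zero_of_not_dvd hcp, Nat.factorization_eq_zero_of_not_dvd hMp,
      ← pow_mul, Nat.Prime.factorization_pow hp] at h3
    simpa using h3
  have hlt : c * n < c * (p ^ f) ^ (N + e) := by
    rw [hc, pow_add]
    calc (p ^ f) ^ N * M < (p ^ f) ^ N * (c * (p ^ f) ^ e) :=
          Nat.mul_lt_mul_of_pos_left hM (Nat.pos_of_ne_zero hq0)
      _ = c * ((p ^ f) ^ N * (p ^ f) ^ e) := by ring
  have hn : n < (p ^ f) ^ (N + e) := lt_of_mul_lt_mul_left hlt (Nat.zero_le c)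
  have hn' : n < p ^ (f * (N + e)) := by rwa [← pow_mul] at hn
  constructor
  · rw [hfac]
    refine lt_of_lt_of_le hn' (Nat.pow_le_pow_right hp0 ?_)
    calc f * (N + e) ≤ f * (N + 2 * N) := Nat.mul_le_mul_left f (by omega)
      _ = 3 * (f * N) := by ring
  · rw [hfac]
    have h3 : n ^ 3 < (p ^ (f * (N + e))) ^ 3 := Nat.pow_lt_pow_left hn' (by norm_num)
    rw [← pow_mul] at h3
    refine lt_of_lt_of_le h3 (Nat.pow_le_pow_right hp0 ?_)
    calc f * (N + e) * 3 = f * (3 * N + 3 * e) := by ring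
      _ ≤ f * (3 * N + 5 * N) := Nat.mul_le_mul_left f (by omega)
      _ = 8 * (f * N) := by ring

/-- `|K| = q ^ d` in characteristic `p`, `q > 1`: `q` is a positive power of `p`. -/
theorem helper56_lo_q_pow {K : Type} [Field K] [Fintype K] (p : ℕ) (hp : p.Prime) [CharP K p]
    (q d : ℕ) (hq : 1 < q) (hd : d ≠ 0) (hK : Fintype.card K = q ^ d) :
    ∃ j : ℕ, 1 ≤ j ∧ q = p ^ j := by
  obtain ⟨n, -, hn⟩ := FiniteField.card K p
  have h1 : q ∣ p ^ (n : ℕ) := by rw [← hn, hK]; exact dvd_pow_self q hd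
  obtain ⟨m, -, rfl⟩ := (Nat.dvd_prime_pow hp).1 h1
  refine ⟨m, ?_, rfl⟩
  rcases Nat.eq_zero_or_pos m with rfl | h
  · simp at hq
  · exact h

theorem helper56_lo_ndvd_sub {p : ℕ} (hp : p.Prime) (q a : ℕ) (hpq : p ∣ q) (ha : a ≠ 0)
    (hq : 1 ≤ q) : ¬ p ∣ q ^ a - 1 := by
  intro h
  obtain ⟨t, ht⟩ : ∃ t, q ^ a = t + 1 := ⟨q ^ a - 1, (Nat.sub_add_cancel (Nat.one_le_pow _ _ hq)).symm⟩
  have h1 : p ∣ t + 1 := ht ▸ hpq.trans (dvd_pow_self q ha)
  rw [ht, Nat.add_sub_cancel] at h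
  exact hp.one_lt.ne' (Nat.dvd_one.1 ((Nat.dvd_add_right h).1 h1))

theorem helper56_lo_ndvd_add {p : ℕ} (hp : p.Prime) (q a : ℕ) (hpq : p ∣ q) (ha : a ≠ 0) :
    ¬ p ∣ q ^ a + 1 := by
  intro h
  exact hp.one_lt.ne' (Nat.dvd_one.1 ((Nat.dvd_add_right (hpq.trans (dvd_pow_self q ha))).1 h))

theorem helper56_lo_ndvd_mul {p : ℕ} (hp : p.Prime) {a b : ℕ} (ha : ¬ p ∣ a) (hb : ¬ p ∣ b) :
    ¬ p ∣ a * b := fun h => ((Nat.Prime.dvd_mul hp).1 h).elim ha hb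

theorem helper56_lo_pair (q a b : ℕ) (hq : 1 ≤ q) (hab : a ≤ b) :
    (q ^ a - 1) * (q ^ b + 1) < q ^ (a + b) := by
  obtain ⟨t, ht⟩ : ∃ t, q ^ a = t + 1 := ⟨q ^ a - 1, (Nat.sub_add_cancel (Nat.one_le_pow _ _ hq)).symm⟩
  have hle : q ^ a ≤ q ^ b := Nat.pow_le_pow_right hq hab
  rw [pow_add, ht, Nat.add_sub_cancel]
  have : t < q ^ b := by omega
  nlinarith

theorem helper56_lo_sub_lt (q a : ℕ) (hq : 1 ≤ q) : q ^ a - 1 < q ^ a :=
  Nat.sub_lt (Nat.one_le_pow _ _ hq) one_pos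

end Cfsg.Agent.Lib.helper44.LO
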