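import Mathlib
import Cfsg.Prelude.Def_LieTypeChar
import Cfsg.Agent.Lib.helper44.LODefs
import Cfsg.Agent.Lib.helper56.LOCore
import Cfsg.Agent.S1067

/-!
Piece TD4 (`lo_td4`, racer copy) of the S2363 split.
-/

set_option autoImplicit false

namespace Cfsg.Agent.Lib.helper44.LO

open Cfsg

theorem helper56_lo_td4_aux (q : ℕ) (hq : 2 ≤ q) : (q ^ 2 - 1) * (q ^ 8 + q ^ 4 + 1) < q ^ 10 := by
  obtain ⟨t, ht⟩ : ∃ t, q ^ 2 = t + 1 := ⟨q ^ 2 - 1, (Nat.sub_add_cancel (Nat.one_le_pow _ _ (by omega))).symm⟩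
  have h4 : q ^ 4 = (t + 1) ^ 2 := by rw [← ht]; ring
  have h8 : q ^ 8 = (t + 1) ^ 4 := by rw [← ht]; ring
  have h10 : q ^ 10 = (t + 1) ^ 5 := by rw [← ht]; ring
  have ht3 : 3 ≤ t := by nlinarith
  rw [ht, Nat.add_sub_cancel, h4, h8, h10]
  nlinarith [pow_pos (show 0 < t + 1 by omega) 3, pow_pos (show 0 < t + 1 by omega) 4]

/-- TD4. -/
theorem helper56_lo_td4 {K : Type} [Field K] [Fintype K] (p : ℕ) (hp : p.Prime) [CharP K p] (q : ℕ) (hq : IsPrimePow q)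
    (hK : Fintype.card K = q ^ 3) : LOGood p (Nat.card ↥(Cfsg.Lie.twistedD4 K q)) := by
  obtain ⟨j, hj1, rfl⟩ := helper56_lo_q_pow (K := K) p hp q 3 hq.one_lt (by norm_num) hK
  have h := Cfsg.Agent.S1067.result (K := K) hq hK
  have hq1 : 1 ≤ p ^ j := Nat.one_le_pow _ _ hp.pos
  have hq2 : 2 ≤ p ^ j := hq.one_lt
  have hpq : p ∣ p ^ j := dvd_pow_self p (by omega)
  refine helper56_lo_good hp j 1 _ 12
    (((p ^ j) ^ 2 - 1) * ((p ^ j) ^ 6 - 1) * ((p ^ j) ^ 8 + (p ^ j) ^ 4 + 1)) 16 ?_ ?_ ?_ ?_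
    (by norm_num) (by norm_num)
  · rw [one_mul, h]; ring
  · exact fun hd => hp.one_lt.ne' (Nat.dvd_one.1 hd)
  · refine helper56_lo_ndvd_mul hp (helper56_lo_ndvd_mul hp
      (helper56_lo_ndvd_sub hp _ 2 hpq (by norm_num) hq1)
      (helper56_lo_ndvd_sub hp _ 6 hpq (by norm_num) hq1)) ?_
    intro hd
    have h1 : p ∣ (p ^ j) ^ 8 + (p ^ j) ^ 4 :=
      dvd_add (hpq.trans (dvd_pow_self _ (by norm_num))) (hpq.trans (dvd_pow_self _ (by norm_num)))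
    exact hp.one_lt.ne' (Nat.dvd_one.1 ((Nat.dvd_add_right h1).1 hd))
  · have hA := helper56_lo_td4_aux (p ^ j) hq2
    have hC := helper56_lo_sub_lt (p ^ j) 6 hq1
    calc ((p ^ j) ^ 2 - 1) * ((p ^ j) ^ 6 - 1) * ((p ^ j) ^ 8 + (p ^ j) ^ 4 + 1)
        = (((p ^ j) ^ 2 - 1) * ((p ^ j) ^ 8 + (p ^ j) ^ 4 + 1)) * ((p ^ j) ^ 6 - 1) := by ring
      _ < (p ^ j) ^ 10 * (p ^ j) ^ 6 := Nat.mul_lt_mul'' hA hC
      _ = 1 * (p ^ j) ^ 16 := by rw [← pow_add, one_mul]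

end Cfsg.Agent.Lib.helper44.LO
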