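import Mathlib
import Cfsg.Prelude.Def_LieTypeChar
import Cfsg.Agent.Lib.helper44.LODefs
import Cfsg.Agent.Lib.helper56.LOCore
import Cfsg.Agent.S1066

/-!
Piece TE6 (`lo_te6`, racer copy) of the S2363 split.
-/

set_option autoImplicit false

namespace Cfsg.Agent.Lib.helper44.LO

open Cfsg

/-- TE6. -/
theorem helper56_lo_te6 {K : Type} [Field K] [Fintype K] (p : ℕ) (hp : p.Prime) [CharP K p] (q : ℕ) (hq : IsPrimePow q)
    (hK : Fintype.card K = q ^ 2) : LOGood p (Nat.card ↥(Cfsg.Lie.twistedE6 K q)) := by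
  obtain ⟨j, hj1, rfl⟩ := helper56_lo_q_pow (K := K) p hp q 2 hq.one_lt (by norm_num) hK
  have h := Cfsg.Agent.S1066.result (K := K) hq hK
  have hq1 : 1 ≤ p ^ j := Nat.one_le_pow _ _ hp.pos
  have hpq : p ∣ p ^ j := dvd_pow_self p (by omega)
  refine helper56_lo_good hp j (Nat.gcd 3 (p ^ j + 1)) _ 36
    (((p ^ j) ^ 2 - 1) * ((p ^ j) ^ 5 + 1) * ((p ^ j) ^ 6 - 1) * ((p ^ j) ^ 8 - 1) *
      ((p ^ j) ^ 9 + 1) * ((p ^ j) ^ 12 - 1)) 42 ?_ ?_ ?_ ?_ (by norm_num) (by norm_num)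
  · rw [h]; ring
  · intro hd
    have h1 : p ∣ p ^ j + 1 := hd.trans (Nat.gcd_dvd_right _ _)
    exact hp.one_lt.ne' (Nat.dvd_one.1 ((Nat.dvd_add_right hpq).1 h1))
  · exact helper56_lo_ndvd_mul hp (helper56_lo_ndvd_mul hp (helper56_lo_ndvd_mul hp
      (helper56_lo_ndvd_mul hp (helper56_lo_ndvd_mul hp
        (helper56_lo_ndvd_sub hp _ 2 hpq (by norm_num) hq1)
        (helper56_lo_ndvd_add hp _ 5 hpq (by norm_num)))
        (helper56_lo_ndvd_sub hp _ 6 hpq (by norm_num) hq1))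
        (helper56_lo_ndvd_sub hp _ 8 hpq (by norm_num) hq1))
        (helper56_lo_ndvd_add hp _ 9 hpq (by norm_num)))
        (helper56_lo_ndvd_sub hp _ 12 hpq (by norm_num) hq1)
  · have hc1 : 1 ≤ Nat.gcd 3 (p ^ j + 1) := Nat.gcd_pos_of_pos_left _ (by norm_num)
    have hAB := helper56_lo_pair (p ^ j) 2 5 hq1 (by norm_num)
    have hC := helper56_lo_sub_lt (p ^ j) 6 hq1
    have hDE := helper56_lo_pair (p ^ j) 8 9 hq1 (by norm_num)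
    have hF := helper56_lo_sub_lt (p ^ j) 12 hq1
    calc ((p ^ j) ^ 2 - 1) * ((p ^ j) ^ 5 + 1) * ((p ^ j) ^ 6 - 1) * ((p ^ j) ^ 8 - 1) *
          ((p ^ j) ^ 9 + 1) * ((p ^ j) ^ 12 - 1)
        = (((p ^ j) ^ 2 - 1) * ((p ^ j) ^ 5 + 1)) * ((p ^ j) ^ 6 - 1) *
          (((p ^ j) ^ 8 - 1) * ((p ^ j) ^ 9 + 1)) * ((p ^ j) ^ 12 - 1) := by ring
      _ < (p ^ j) ^ (2 + 5) * (p ^ j) ^ 6 * (p ^ j) ^ (8 + 9) * (p ^ j) ^ 12 :=
          Nat.mul_lt_mul'' (Nat.mul_lt_mul'' (Nat.mul_lt_mul'' hAB hC) hDE) hF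
      _ = (p ^ j) ^ 42 := by rw [← pow_add, ← pow_add, ← pow_add]
      _ ≤ Nat.gcd 3 (p ^ j + 1) * (p ^ j) ^ 42 := Nat.le_mul_of_pos_left _ hc1

end Cfsg.Agent.Lib.helper44.LO
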