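import Mathlib
import Cfsg.Prelude.Def_RootSubgroups
import Cfsg.Agent.Lib.helper85.McLDefs

/-!
# S5075 piece FINAL `final_asm` (helper56) — exact statement of tools/S5075_Skel.lean.txt
-/

set_option autoImplicit false

open Cfsg.Agent.Lib.helper85.McL

namespace Cfsg.Agent.Lib.helper56.McL

universe u

variable {p : ℕ} [Fact p.Prime] {V : Type u} [AddCommGroup V] [Module (ZMod p) V]

/-- The pointwise fixer of a submodule. -/
def h56_fixer (U : Submodule (ZMod p) V) : Subgroup (V ≃ₗ[ZMod p] V) where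
  carrier := {g | ∀ u ∈ U, g u = u}
  mul_mem' := by
    intro a b ha hb u hu
    rw [LinearEquiv.mul_apply, hb u hu, ha u hu]
  one_mem' := fun u _ => rfl
  inv_mem' := by
    intro a ha u hu
    apply a.injective
    rw [← LinearEquiv.mul_apply, mul_inv_cancel, ha u hu]
    rfl

theorem h56_mem_fixer {U : Submodule (ZMod p) V} {g : V ≃ₗ[ZMod p] V} :
    g ∈ h56_fixer U ↔ ∀ u ∈ U, g u = u := Iff.rfl

/-- Commuting transvections: the axis of one kills the centre of the other. -/
theorem h56_commute_tv (s t : V ≃ₗ[ZMod p] V) (c : V) (φ : Module.Dual (ZMod p) V) (d : V)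
    (ψ : Module.Dual (ZMod p) V) (hc : c ≠ 0) (hd : d ≠ 0) (hψ : ψ ≠ 0) (hψd : ψ d = 0)
    (hs : ∀ x, s x = x + φ x • c) (ht : ∀ x, t x = x + ψ x • d) (hcomm : Commute s t) :
    φ d = 0 := by
  have E : ∀ x, (ψ x * φ d) • c = (φ x * ψ c) • d := by
    intro x
    have h := congrArg (fun f : V ≃ₗ[ZMod p] V => f x) hcomm.eq
    simp only [LinearEquiv.mul_apply] at h
    rw [ht x, hs (x + ψ x • d), hs x, ht (x + φ x • c)] at h
    simp only [map_add, map_smul, smul_eq_mul, add_smul] at h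
    have h' : (ψ x * φ d) • c - (φ x * ψ c) • d = 0 := by
      have h2 := sub_eq_zero.mpr h
      rw [← h2]
      abel
    exact sub_eq_zero.mp h'
  by_contra hφd
  have h1 := E d
  rw [hψd, zero_mul, zero_smul] at h1
  have h2 : ψ c = 0 := by
    rcases smul_eq_zero.mp h1.symm with h | h
    · exact (mul_eq_zero.mp h).resolve_left hφd
    · exact absurd h hd
  apply hψ
  ext x
  have h3 := E x
  rw [h2, mul_zero, zero_smul] at h3
  rcases smul_eq_zero.mp h3 with h | h
  · rw [LinearMap.zero_apply]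
    exact (mul_eq_zero.mp h).resolve_right hφd
  · exact absurd h hc

/-- `[V, ⟨C⟩]` lies in any subspace containing all `t v - v`, `t ∈ C`. -/
theorem h56_commSub_closure_le (C : Set (V ≃ₗ[ZMod p] V)) (U : Submodule (ZMod p) V)
    (hU : ∀ t ∈ C, ∀ v, t v - v ∈ U) : commSub (Subgroup.closure C) ≤ U := by
  unfold commSub
  rw [Submodule.span_le]
  rintro w ⟨k, hk, v, rfl⟩
  show k v - v ∈ U
  revert v
  induction hk using Subgroup.closure_induction with
  | mem t ht => exact hU t ht
  | one =>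
    intro v
    have : (1 : V ≃ₗ[ZMod p] V) v - v = 0 := sub_self v
    rw [this]
    exact U.zero_mem
  | mul a b _ _ iha ihb =>
    intro v
    have : (a * b) v - v = (a (b v) - b v) + (b v - v) := by
      rw [LinearEquiv.mul_apply]
      abel
    rw [this]
    exact U.add_mem (iha _) (ihb _)
  | inv a _ iha =>
    intro v
    have h1 : a (a⁻¹ v) = v := by
      rw [← LinearEquiv.mul_apply, mul_inv_cancel]
      rfl
    have : a⁻¹ v - v = -(a (a⁻¹ v) - a⁻¹ v) := by
      rw [h1]
      abel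
    rw [this]
    exact U.neg_mem (iha _)

/-- The lattice lemma behind the decomposition. -/
theorem h56_lattice {ι : Type*} [DecidableEq ι] (Wc F : ι → Submodule (ZMod p) V)
    (h1 : ∀ j, Wc j ⊓ F j = ⊥) (h2 : ∀ j, Wc j ⊔ F j = ⊤) (h3 : ∀ i j, i ≠ j → Wc i ≤ F j)
    (S : Finset ι) :
    (⨆ j ∈ S, Wc j) ⊓ (⨅ j ∈ S, F j) = ⊥ ∧ (⨆ j ∈ S, Wc j) ⊔ (⨅ j ∈ S, F j) = ⊤ := by
  induction S using Finset.induction_on with
  | empty => simp
  | insert a S ha ih =>
    obtain ⟨ih1, ih2⟩ := ih
    rw [Finset.iSup_insert, Finset.iInf_insert]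
    have hA : (⨆ j ∈ S, Wc j) ≤ F a :=
      iSup₂_le (fun j hj => h3 j a (fun e => ha (e ▸ hj)))
    have hB : Wc a ≤ ⨅ j ∈ S, F j :=
      le_iInf₂ (fun j hj => h3 a j (fun e => ha (e ▸ hj)))
    constructor
    · rw [eq_bot_iff]
      rintro v ⟨hv1, hv2⟩
      obtain ⟨w, hw, x, hx, rfl⟩ := Submodule.mem_sup.mp hv1
      obtain ⟨hvF, hvB⟩ := Submodule.mem_inf.mp hv2
      have hwF : w ∈ F a := by
        have := (F a).sub_mem hvF (hA hx)
        simpa using this
      have hw0 : w = 0 := by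
        have : w ∈ Wc a ⊓ F a := ⟨hw, hwF⟩
        rw [h1 a] at this
        exact (Submodule.mem_bot _).mp this
      subst hw0
      rw [zero_add] at hvB ⊢
      have : x ∈ (⨆ j ∈ S, Wc j) ⊓ (⨅ j ∈ S, F j) := ⟨hx, hvB⟩
      rw [ih1] at this
      exact this
    · rw [eq_top_iff]
      intro v _
      have hv : v ∈ (⨆ j ∈ S, Wc j) ⊔ (⨅ j ∈ S, F j) := by rw [ih2]; trivial
      obtain ⟨x, hx, y, hy, rfl⟩ := Submodule.mem_sup.mp hv
      have hy' : y ∈ Wc a ⊔ F a := by rw [h2 a]; trivial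
      obtain ⟨w, hw, f, hf, rfl⟩ := Submodule.mem_sup.mp hy'
      have hfB : f ∈ ⨅ j ∈ S, F j := by
        have := (⨅ j ∈ S, F j).sub_mem hy (hB hw)
        simpa using this
      have : x + (w + f) = (w + x) + f := by abel
      rw [this]
      exact Submodule.add_mem_sup (Submodule.add_mem_sup hw hx) ⟨hf, hfB⟩

/-- The abstract assembly. -/
theorem h56_asm [Finite V] (H : Subgroup (V ≃ₗ[ZMod p] V)) (n : ℕ) (hn : 1 ≤ n)
    (K : Fin n → Subgroup (V ≃ₗ[ZMod p] V))
    (A1 : (⨆ j, K j) = H)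
    (A2 : ∀ j, ∀ h ∈ H, ∀ k ∈ K j, h * k * h⁻¹ ∈ K j)
    (A3 : ∀ i j, i ≠ j → ∀ a ∈ K i, ∀ w ∈ commSub (K j), a w = w)
    (A4 : ∀ i j, i ≠ j → ∀ a ∈ K i, ∀ b ∈ K j, a * b = b * a)
    (A5 : ∀ j, commSub (K j) ⊓ fixSub (K j) = ⊥ ∧ commSub (K j) ⊔ fixSub (K j) = ⊤)
    (A6 : ∀ j, ∀ h ∈ H, ∀ w ∈ commSub (K j), h w ∈ commSub (K j))
    (A7 : ∀ j, ∃ ρ : ↥(K j) →* (↥(commSub (K j)) ≃ₗ[ZMod p] ↥(commSub (K j))),
      (∀ (k : ↥(K j)) (w : ↥(commSub (K j))),
        ((ρ k w : ↥(commSub (K j))) : V) = (k : V ≃ₗ[ZMod p] V) (w : V)) ∧ IsSLSp ρ.range) :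
    McLConcl H := by
  classical
  have hKH : ∀ j, K j ≤ H := fun j => A1 ▸ le_iSup K j
  have hfixH : (⨅ j ∈ (Finset.univ : Finset (Fin n)), fixSub (K j)) ≤ fixSub H := by
    intro v hv h hh
    rw [← A1] at hh
    have hv' : ∀ j, v ∈ fixSub (K j) := by
      intro j
      have h1 : (⨅ j ∈ (Finset.univ : Finset (Fin n)), fixSub (K j)) ≤ fixSub (K j) :=
        iInf₂_le j (Finset.mem_univ j)
      exact h1 hv
    refine Subgroup.iSup_induction K (C := fun h => h v = v) hh ?_ ?_ ?_
    · intro j x hx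
      exact hv' j x hx
    · rfl
    · intro x y hx hy
      show (x * y) v = v
      rw [LinearEquiv.mul_apply, hy, hx]
  have hWF : ∀ i j, i ≠ j → commSub (K i) ≤ fixSub (K j) := by
    intro i j hij w hw k hk
    exact A3 j i (Ne.symm hij) k hk w hw
  obtain ⟨hinf, hsup⟩ := h56_lattice (fun j => commSub (K j)) (fun j => fixSub (K j))
    (fun j => (A5 j).1) (fun j => (A5 j).2) hWF Finset.univ
  obtain ⟨W, hW⟩ : ∃ W : Fin (n + 1) → Submodule (ZMod p) V,
      W = Fin.cases (fixSub H) (fun j => commSub (K j)) := ⟨_, rfl⟩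
  have hW0 : W 0 = fixSub H := by rw [hW]; rfl
  have hWs : ∀ j : Fin n, W j.succ = commSub (K j) := by intro j; rw [hW]; rfl
  refine ⟨n, Fin.cases (fixSub H) (fun j => commSub (K j)), K, hn, ?_, ?_, ?_, A1, ?_, ?_, ?_, ?_⟩
  · -- internal direct sum
    rw [← hW]
    apply DirectSum.isInternal_submodule_of_iSupIndep_of_iSup_eq_top
    · intro i
      refine Fin.cases ?_ (fun j => ?_) i
      · rw [disjoint_iff, eq_bot_iff]
        have h1 : (⨆ (i') (_ : i' ≠ (0 : Fin (n + 1))), W i') ≤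
            ⨆ j ∈ (Finset.univ : Finset (Fin n)), commSub (K j) := by
          refine iSup₂_le (fun i' hi' => ?_)
          obtain ⟨j, rfl⟩ := Fin.exists_succ_eq.mpr hi'
          rw [hWs]
          exact le_iSup₂_of_le j (Finset.mem_univ j) le_rfl
        have h2 : W 0 ≤ ⨅ j ∈ (Finset.univ : Finset (Fin n)), fixSub (K j) := by
          rw [hW0]
          refine le_iInf₂ (fun j _ => ?_)
          intro v hv k hk
          exact hv k (hKH j hk)
        calc W 0 ⊓ (⨆ (i') (_ : i' ≠ (0 : Fin (n + 1))), W i')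
            ≤ (⨅ j ∈ (Finset.univ : Finset (Fin n)), fixSub (K j)) ⊓
              (⨆ j ∈ (Finset.univ : Finset (Fin n)), commSub (K j)) := inf_le_inf h2 h1
          _ = ⊥ := by rw [inf_comm]; exact hinf
      · rw [disjoint_iff, eq_bot_iff, hWs]
        have h1 : (⨆ (i') (_ : i' ≠ j.succ), W i') ≤ fixSub (K j) := by
          refine iSup₂_le (fun i' => ?_)
          refine Fin.cases ?_ (fun j' => ?_) i'
          · intro _
            rw [hW0]
            intro v hv k hk
            exact hv k (hKH j hk)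
          · intro hne
            rw [hWs]
            exact hWF j' j (fun e => hne (by rw [e]))
        calc commSub (K j) ⊓ (⨆ (i') (_ : i' ≠ j.succ), W i')
            ≤ commSub (K j) ⊓ fixSub (K j) := inf_le_inf le_rfl h1
          _ = ⊥ := (A5 j).1
    · rw [eq_top_iff, ← hsup]
      refine sup_le (iSup₂_le (fun j _ => ?_)) ?_
      · rw [← hWs]
        exact le_iSup W j.succ
      · rw [← hW0] at hfixH
        exact hfixH.trans (le_iSup W 0)
  · -- invariance
    intro h hh i
    have key : ∀ U : Submodule (ZMod p) V, (∀ g ∈ H, ∀ w ∈ U, g w ∈ U) →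
        U.map (h : V →ₗ[ZMod p] V) = U := by
      intro U hU
      apply le_antisymm
      · rintro _ ⟨w, hw, rfl⟩
        exact hU h hh w hw
      · intro w hw
        refine ⟨h⁻¹ w, hU h⁻¹ (H.inv_mem hh) w hw, ?_⟩
        show h (h⁻¹ w) = w
        rw [← LinearEquiv.mul_apply, mul_inv_cancel]
        rfl
    rw [← hW]
    refine Fin.cases ?_ (fun j => ?_) i
    · rw [hW0]
      refine key _ (fun g hg w hw => ?_)
      rw [hw g hg]
      exact hw
    · rw [hWs]
      exact key _ (A6 j)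
  · -- normality
    intro j
    refine ⟨hKH j, ⟨fun k hk h => ?_⟩⟩
    rw [Subgroup.mem_subgroupOf] at hk ⊢
    simp only [Subgroup.coe_mul, Subgroup.coe_inv]
    exact A2 j h h.2 k hk
  · -- trivial intersections
    intro j
    rw [eq_bot_iff]
    intro z hz
    obtain ⟨hz1, hz2⟩ := Subgroup.mem_inf.mp hz
    have h1 : (⨆ j' ∈ {j' : Fin n | j' ≠ j}, K j') ≤ h56_fixer (commSub (K j)) :=
      iSup₂_le (fun j' hj' a ha w hw => A3 j' j hj' a ha w hw)
    have h2 : ∀ w ∈ commSub (K j), z w = w := h1 hz2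
    rw [Subgroup.mem_bot]
    ext v
    have hv : v ∈ commSub (K j) ⊔ fixSub (K j) := by rw [(A5 j).2]; trivial
    obtain ⟨w, hw, f, hf, rfl⟩ := Submodule.mem_sup.mp hv
    rw [map_add, h2 w hw, hf z hz1]
    rfl
  · -- commuting
    intro j j' hjj' a ha b hb
    exact A4 j j' hjj' a ha b hb
  · -- fixing the other summands
    intro j h hh i
    rw [← hW]
    refine Fin.cases ?_ (fun j' => ?_) i
    · intro _ v hv
      rw [hW0] at hv
      exact hv h (hKH j hh)
    · intro hne v hv
      rw [hWs] at hv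
      exact A3 j j' (fun e => hne (by rw [e])) h hh v hv
  · -- the action on the summands
    intro j
    obtain ⟨ρ, h1, h2⟩ := A7 j
    exact ⟨ρ, h1, h2⟩

/-- PIECE FINAL. -/
theorem final_asm [Finite V] (H : Subgroup (V ≃ₗ[ZMod p] V))
    (n : ℕ) (C : Fin n → Set (V ≃ₗ[ZMod p] V))
    (hC : ∀ i, Comp H (C i)) (hcomm : ∀ i j, i ≠ j → ∀ s ∈ C i, ∀ t ∈ C j, Commute s t)
    (hsup : (⨆ i, Subgroup.closure (C i)) = H) (hconcl : ∀ i, CompConcl (C i)) :
    McLConcl H := by
  rcases Nat.eq_zero_or_pos n with rfl | hn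
  · have hH : H = ⊥ := by
      rw [← hsup]
      exact iSup_of_empty _
    have hcs : commSub (⊥ : Subgroup (V ≃ₗ[ZMod p] V)) = ⊥ := by
      unfold commSub
      rw [Submodule.span_eq_bot]
      rintro w ⟨k, hk, v, rfl⟩
      rw [Subgroup.mem_bot] at hk
      rw [hk]
      exact sub_self v
    have hfs : fixSub (⊥ : Subgroup (V ≃ₗ[ZMod p] V)) = ⊤ := by
      rw [eq_top_iff]
      intro v _ k hk
      rw [Subgroup.mem_bot] at hk
      rw [hk]
      rfl
    rw [hH]
    refine h56_asm ⊥ 1 le_rfl (fun _ => ⊥) ?_ ?_ ?_ ?_ ?_ ?_ ?_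
    · simp
    · intro j h hh k hk
      rw [Subgroup.mem_bot] at hk ⊢
      rw [hk]
      group
    · intro i j hij
      exact absurd (Subsingleton.elim i j) hij
    · intro i j hij
      exact absurd (Subsingleton.elim i j) hij
    · intro j
      show commSub ⊥ ⊓ fixSub ⊥ = ⊥ ∧ commSub ⊥ ⊔ fixSub ⊥ = ⊤
      rw [hcs, hfs]
      exact ⟨bot_inf_eq _, bot_sup_eq _⟩
    · intro j h hh w hw
      rw [Subgroup.mem_bot] at hh
      rw [hh]
      exact hw
    · intro j
      show ∃ ρ : ↥(⊥ : Subgroup (V ≃ₗ[ZMod p] V)) →*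
          (↥(commSub (⊥ : Subgroup (V ≃ₗ[ZMod p] V))) ≃ₗ[ZMod p]
            ↥(commSub (⊥ : Subgroup (V ≃ₗ[ZMod p] V)))),
        (∀ (k : ↥(⊥ : Subgroup (V ≃ₗ[ZMod p] V)))
          (w : ↥(commSub (⊥ : Subgroup (V ≃ₗ[ZMod p] V)))),
          ((ρ k w : ↥(commSub (⊥ : Subgroup (V ≃ₗ[ZMod p] V)))) : V) =
            (k : V ≃ₗ[ZMod p] V) (w : V)) ∧ IsSLSp ρ.range
      have hzero : ∀ w : ↥(commSub (⊥ : Subgroup (V ≃ₗ[ZMod p] V))), (w : V) = 0 := by
        intro w
        exact (Submodule.mem_bot _).mp (hcs.le w.2)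
      refine ⟨1, ?_, Or.inl ?_⟩
      · intro k w
        rw [hzero w, hzero, map_zero]
      · ext f
        have hf : f = 1 := by
          ext x
          rw [hzero, hzero]
        constructor
        · intro _
          rw [hf]
          exact LinearMap.det_id
        · intro _
          rw [hf]
          exact one_mem _
  · refine h56_asm H n hn (fun j => Subgroup.closure (C j)) hsup ?_ ?_ ?_ ?_ ?_ ?_
    · intro j h hh k hk
      induction hk using Subgroup.closure_induction with
      | mem t ht => exact Subgroup.subset_closure ((hC j).conj h hh t ht)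
      | one =>
        rw [mul_one, mul_inv_cancel]
        exact one_mem _
      | mul a b _ _ iha ihb =>
        have : h * (a * b) * h⁻¹ = (h * a * h⁻¹) * (h * b * h⁻¹) := by group
        rw [this]
        exact mul_mem iha ihb
      | inv a _ iha =>
        have : h * a⁻¹ * h⁻¹ = (h * a * h⁻¹)⁻¹ := by group
        rw [this]
        exact inv_mem iha
    · intro i j hij
      have hfix : Subgroup.closure (C i) ≤ h56_fixer (commSub (Subgroup.closure (C j))) := by
        rw [Subgroup.closure_le]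
        intro s hs w hw
        obtain ⟨c, φ, hc, hφ, hφc, hsx⟩ := (hC i).tv s hs
        have hle : commSub (Subgroup.closure (C j)) ≤ LinearMap.ker φ := by
          apply h56_commSub_closure_le
          intro t ht v
          obtain ⟨d, ψ, hd, hψ, hψd, htx⟩ := (hC j).tv t ht
          rw [htx, add_sub_cancel_left, LinearMap.mem_ker, map_smul, smul_eq_mul,
            h56_commute_tv s t c φ d ψ hc hd hψ hψd hsx htx (hcomm i j hij s hs t ht), mul_zero]
        have h0 : φ w = 0 := LinearMap.mem_ker.mp (hle hw)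
        show s w = w
        rw [hsx, h0, zero_smul, add_zero]
      exact fun a ha w hw => hfix ha w hw
    · intro i j hij
      have h1 : Subgroup.closure (C j) ≤ Subgroup.centralizer (C i) := by
        rw [Subgroup.closure_le]
        intro t ht
        rw [SetLike.mem_coe, Subgroup.mem_centralizer_iff]
        intro s hs
        exact (hcomm i j hij s hs t ht).eq
      have h2 : Subgroup.closure (C i) ≤
          Subgroup.centralizer (Subgroup.closure (C j) : Set (V ≃ₗ[ZMod p] V)) := by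
        rw [Subgroup.closure_le]
        intro s hs
        rw [SetLike.mem_coe, Subgroup.mem_centralizer_iff]
        intro b hb
        exact (Subgroup.mem_centralizer_iff.mp (h1 hb) s hs).symm
      intro a ha b hb
      exact (Subgroup.mem_centralizer_iff.mp (h2 ha) b hb).symm
    · exact fun j => ⟨(hconcl j).1, (hconcl j).2.1⟩
    · intro j h hh w hw
      obtain ⟨k, hk, hkw⟩ := (hC j).fixW h hh
      rw [hkw w hw]
      have : k w = (k w - w) + w := by abel
      rw [this]
      exact add_mem (Submodule.subset_span ⟨k, hk, w, rfl⟩) hw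
    · exact fun j => (hconcl j).2.2

end Cfsg.Agent.Lib.helper56.McL
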