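import Mathlib
import Cfsg.Prelude.Def_RootSubgroups
import Cfsg.Agent.Lib.helper85.McLDefs

/-!
# S5075 piece IRR `irr_of` (helper56) — exact statement of tools/S5075_Skel.lean.txt
-/

set_option autoImplicit false

open Cfsg.Agent.Lib.helper85.McL

namespace Cfsg.Agent.Lib.helper56.McL

universe u

variable {p : ℕ} [Fact p.Prime] {V : Type u} [AddCommGroup V] [Module (ZMod p) V]

theorem h56_one_apply (x : V) : (1 : V ≃ₗ[ZMod p] V) x = x := rfl

theorem h56_tv_pow (t : V ≃ₗ[ZMod p] V) (c : V) (φ : Module.Dual (ZMod p) V) (hφc : φ c = 0)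
    (ht : ∀ x, t x = x + φ x • c) (n : ℕ) :
    ∀ x, (t ^ n) x = x + ((n : ZMod p) * φ x) • c := by
  induction n with
  | zero => intro x; simp
  | succ n ih =>
    intro x
    rw [pow_succ, LinearEquiv.mul_apply, ih, ht, map_add, map_smul, hφc, smul_zero, add_zero]
    push_cast
    rw [add_mul, one_mul, add_smul, add_assoc]
    congr 1
    rw [add_comm]

theorem h56_tv_inv (t : V ≃ₗ[ZMod p] V) (c : V) (φ : Module.Dual (ZMod p) V) (hφc : φ c = 0)
    (ht : ∀ x, t x = x + φ x • c) (x : V) : t⁻¹ x = x - φ x • c := by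
  apply t.injective
  rw [← LinearEquiv.mul_apply, mul_inv_cancel, h56_one_apply, ht, map_sub, map_smul,
    hφc, smul_zero, sub_zero]
  abel

theorem h56_tsys (G : Subgroup (V ≃ₗ[ZMod p] V)) : TSys (tsysOf G) := by
  refine ⟨?_, ?_, ?_, ?_, ?_, ?_⟩
  · rintro c φ ⟨h1, h2, h3, -⟩
    exact ⟨h1, h2, h3⟩
  · rintro c φ ⟨h1, h2, h3, t, htG, ht⟩ a ha
    refine ⟨smul_ne_zero ha h1, h2, ?_, t ^ a.val, G.pow_mem htG _, ?_⟩
    · show φ (a • c) = 0
      rw [map_smul, h3, smul_zero]
    · intro x
      show (t ^ a.val) x = x + φ x • (a • c)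
      rw [h56_tv_pow t c φ h3 ht, ZMod.natCast_zmod_val, smul_smul, mul_comm]
  · rintro c φ ⟨h1, h2, h3, t, htG, ht⟩ a ha
    refine ⟨h1, smul_ne_zero ha h2, ?_, t ^ a.val, G.pow_mem htG _, ?_⟩
    · show (a • φ) c = 0
      rw [LinearMap.smul_apply, h3, smul_zero]
    · intro x
      show (t ^ a.val) x = x + (a • φ) x • c
      rw [h56_tv_pow t c φ h3 ht, ZMod.natCast_zmod_val, LinearMap.smul_apply, smul_eq_mul]
  · rintro c φ ψ ⟨h1, h2, h3, t, htG, ht⟩ ⟨-, -, h3', s, hsG, hs⟩ hne
    refine ⟨h1, hne, ?_, t * s, G.mul_mem htG hsG, ?_⟩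
    · show (φ + ψ) c = 0
      rw [LinearMap.add_apply, h3, h3', add_zero]
    · intro x
      show (t * s) x = x + (φ + ψ) x • c
      rw [LinearEquiv.mul_apply, hs, ht, map_add, map_smul, h3, smul_zero, add_zero,
        LinearMap.add_apply, add_smul]
      abel
  · rintro c d φ ⟨h1, h2, h3, t, htG, ht⟩ ⟨-, -, h3', s, hsG, hs⟩ hne
    refine ⟨hne, h2, ?_, t * s, G.mul_mem htG hsG, ?_⟩
    · show φ (c + d) = 0
      rw [map_add, h3, h3', add_zero]
    · intro x
      show (t * s) x = x + φ x • (c + d)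
      rw [LinearEquiv.mul_apply, hs, ht, map_add, map_smul, h3', smul_zero, add_zero, smul_add]
      abel
  · rintro c φ d ψ ⟨h1, h2, h3, t, htG, ht⟩ ⟨h1', h2', h3', s, hsG, hs⟩
    have htd : t d = d + φ d • c := ht d
    refine ⟨?_, ?_, ?_, t * s * t⁻¹, G.mul_mem (G.mul_mem htG hsG) (G.inv_mem htG), ?_⟩
    · show d + φ d • c ≠ 0
      rw [← htd]
      intro h0
      exact h1' (t.injective (h0.trans (map_zero t).symm))
    · show ψ - ψ c • φ ≠ 0
      intro h0
      apply h2'
      ext x
      have h4 := congrArg (fun f : Module.Dual (ZMod p) V => f (t x)) h0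
      simp only [LinearMap.sub_apply, LinearMap.smul_apply, LinearMap.zero_apply, smul_eq_mul]
        at h4
      rw [ht, map_add, map_add, map_smul, map_smul, h3, smul_zero, add_zero, smul_eq_mul] at h4
      rw [LinearMap.zero_apply]
      linear_combination h4
    · show (ψ - ψ c • φ) (d + φ d • c) = 0
      simp only [LinearMap.sub_apply, LinearMap.smul_apply, map_add, map_smul, smul_eq_mul, h3,
        h3']
      ring
    · intro x
      show (t * s * t⁻¹) x = x + (ψ - ψ c • φ) x • (d + φ d • c)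
      have hy : t (t⁻¹ x) = x := by
        rw [← LinearEquiv.mul_apply, mul_inv_cancel, h56_one_apply]
      rw [LinearEquiv.mul_apply, LinearEquiv.mul_apply, hs, map_add, map_smul, hy, htd,
        h56_tv_inv t c φ h3 ht, map_sub, map_smul]
      simp only [LinearMap.sub_apply, LinearMap.smul_apply, smul_eq_mul]
      rw [mul_comm (φ x) (ψ c)]

/-- invariance of a `TInv` subspace under the group generated by the transvections. -/
theorem h56_inv_of_tinv (G : Subgroup (V ≃ₗ[ZMod p] V))
    (hG : G = Subgroup.closure {t | t ∈ G ∧ IsTv t}) (U : Submodule (ZMod p) V)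
    (hU : TInv (tsysOf G) U) : ∀ g ∈ G, ∀ x ∈ U, g x ∈ U := by
  have key : ∀ g ∈ Subgroup.closure {t | t ∈ G ∧ IsTv t},
      ∀ x ∈ U, g x ∈ U ∧ g⁻¹ x ∈ U := by
    intro g hg
    induction hg using Subgroup.closure_induction with
    | mem t ht =>
      obtain ⟨htG, c, φ, hc, hφ, hφc, htx⟩ := ht
      intro x hx
      have hmem : (c, φ) ∈ tsysOf G := ⟨hc, hφ, hφc, t, htG, htx⟩
      rw [htx, h56_tv_inv t c φ hφc htx]
      rcases hU c φ hmem with h | h
      · exact ⟨U.add_mem hx (U.smul_mem _ h), U.sub_mem hx (U.smul_mem _ h)⟩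
      · have h0 : φ x = 0 := LinearMap.mem_ker.mp (h hx)
        rw [h0, zero_smul, add_zero, sub_zero]
        exact ⟨hx, hx⟩
    | one =>
      intro x hx
      simpa using hx
    | mul a b _ _ iha ihb =>
      intro x hx
      rw [mul_inv_rev, LinearEquiv.mul_apply, LinearEquiv.mul_apply]
      exact ⟨(iha _ (ihb x hx).1).1, (ihb _ (iha x hx).2).2⟩
    | inv a _ iha =>
      intro x hx
      rw [inv_inv]
      exact ⟨(iha x hx).2, (iha x hx).1⟩
  intro g hg x hx
  rw [hG] at hg
  exact (key g hg x hx).1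

/-- PIECE IRR. -/
theorem irr_of (hsys : SysThm.{u} p) (hsl : SlThm.{u} p) (hsp : SpThm.{u} p) : IrrThm.{u} p := by
  intro X _ _ _ G hG hne hirr
  have hT : TSys (tsysOf G) := h56_tsys G
  have hTne : (tsysOf G).Nonempty := by
    by_contra hemp
    apply hne
    rw [hG]
    have : {t | t ∈ G ∧ IsTv t} = (∅ : Set (X ≃ₗ[ZMod p] X)) := by
      ext t
      simp only [Set.mem_empty_iff_false, iff_false]
      rintro ⟨htG, c, φ, hc, hφ, hφc, htx⟩
      exact hemp ⟨(c, φ), hc, hφ, hφc, t, htG, htx⟩
    rw [this, Subgroup.closure_empty]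
  have hTirr : TIrr (tsysOf G) := fun U hU => hirr U (h56_inv_of_tinv G hG U hU)
  rcases hsys X (tsysOf G) hT hTne hTirr with hA | ⟨B, hBalt, hBnd, hB⟩
  · left
    -- every transvection lies in `G`
    have htv : ∀ t : X ≃ₗ[ZMod p] X, IsTv t → t ∈ G := by
      rintro t ⟨c, φ, hc, hφ, hφc, htx⟩
      obtain ⟨-, -, -, t', ht'G, ht'x⟩ := hA c φ hc hφ hφc
      have : t = t' := by
        ext x
        rw [htx, ht'x]
      rw [this]
      exact ht'G
    have hdet : ∀ g ∈ G, LinearMap.det (g : X →ₗ[ZMod p] X) = 1 := by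
      intro g hg
      rw [hG] at hg
      induction hg using Subgroup.closure_induction with
      | mem t ht =>
        obtain ⟨-, c, φ, hc, hφ, hφc, htx⟩ := ht
        have : (t : X →ₗ[ZMod p] X) = LinearMap.transvection φ c := by
          ext x
          rw [LinearEquiv.coe_coe, htx, LinearMap.transvection.apply]
        rw [this, LinearMap.transvection.det, hφc, add_zero]
      | one =>
        show LinearMap.det (LinearMap.id : X →ₗ[ZMod p] X) = 1
        exact LinearMap.det_id
      | mul a b _ _ iha ihb =>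
        have : ((a * b : X ≃ₗ[ZMod p] X) : X →ₗ[ZMod p] X) =
            (a : X →ₗ[ZMod p] X) ∘ₗ (b : X →ₗ[ZMod p] X) := rfl
        rw [this, LinearMap.det_comp, iha, ihb, mul_one]
      | inv a _ iha =>
        have h1 : (a : X →ₗ[ZMod p] X) ∘ₗ ((a⁻¹ : X ≃ₗ[ZMod p] X) : X →ₗ[ZMod p] X) =
            LinearMap.id := by
          ext x
          show a (a⁻¹ x) = x
          rw [← LinearEquiv.mul_apply, mul_inv_cancel, h56_one_apply]
        have h2 := congrArg LinearMap.det h1
        rw [LinearMap.det_comp, iha, one_mul, LinearMap.det_id] at h2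
        exact h2
    ext g
    constructor
    · intro hg
      exact hdet g hg
    · intro hg
      have h1 := hsl X g hg
      exact (Subgroup.closure_le G).mpr (fun t ht => htv t ht) h1
  · right
    refine ⟨B, hBalt, hBnd, ?_⟩
    have hiso : ∀ g ∈ G, ∀ x y, B (g x) (g y) = B x y := by
      intro g hg
      rw [hG] at hg
      induction hg using Subgroup.closure_induction with
      | mem t ht =>
        obtain ⟨htG, c, φ, hc, hφ, hφc, htx⟩ := ht
        have hmem : (c, φ) ∈ tsysOf G := ⟨hc, hφ, hφc, t, htG, htx⟩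
        obtain ⟨-, a, ha, hφa⟩ := (hB c φ).mp hmem
        intro x y
        rw [htx, htx, hφa]
        simp only [LinearMap.smul_apply, map_add, map_smul, LinearMap.add_apply, smul_eq_mul]
        have h1 : B c c = 0 := hBalt c
        have h2 : B x c = - B c x := (hBalt.neg_eq c x).symm
        rw [h1, h2]
        ring
      | one =>
        intro x y
        rfl
      | mul a b _ _ iha ihb =>
        intro x y
        rw [LinearEquiv.mul_apply, LinearEquiv.mul_apply, iha, ihb]
      | inv a _ iha =>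
        intro x y
        rw [← iha (a⁻¹ x) (a⁻¹ y), ← LinearEquiv.mul_apply, ← LinearEquiv.mul_apply,
          mul_inv_cancel, h56_one_apply, h56_one_apply]
    ext g
    constructor
    · intro hg
      exact hiso g hg
    · intro hg
      have h1 := hsp X B hBalt hBnd g hg
      refine (Subgroup.closure_le G).mpr ?_ h1
      rintro t ⟨c, a, hc, ha, htx⟩
      have hmem : (c, a • B c) ∈ tsysOf G := (hB c (a • B c)).mpr ⟨hc, a, ha, rfl⟩
      obtain ⟨-, -, -, t', ht'G, ht'x⟩ := hmem
      have : t = t' := by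
        ext x
        rw [htx, ht'x]
        simp only [LinearMap.smul_apply, smul_eq_mul]
      rw [this]
      exact ht'G

end Cfsg.Agent.Lib.helper56.McL
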