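import Mathlib
import Cfsg.Agent.Lib.helper68.HallPet

/-!
Piece J1 (`jp_greedy`, racer copy) of sub-block J of the S5238 split, and J10 (`jp_nontop_small`).
-/

set_option autoImplicit false

namespace Cfsg.Agent.Lib.helper52.PearlJ

open Cfsg.Agent.Lib.helper68

/-- a proper subgroup of a `p`-group has index at least `p` (cardinal form) -/
theorem helper56_jp_card_lt {G : Type*} [Group G] [Finite G] (p : ℕ) [Fact p.Prime] (hGp : IsPGroup p G)
    (A B : Subgroup G) (hBA : B ≤ A) (hne : B ≠ A) : p * Nat.card B ≤ Nat.card A := by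
  obtain ⟨a, ha⟩ := (hGp.to_subgroup A).exists_card_eq
  obtain ⟨b, hb⟩ := (hGp.to_subgroup B).exists_card_eq
  have hp : 1 < p := (Fact.out : p.Prime).one_lt
  have hle : Nat.card B ≤ Nat.card A := Subgroup.card_le_of_le hBA
  have hlt : Nat.card B < Nat.card A := by
    rcases lt_or_eq_of_le hle with h | h
    · exact h
    · exact absurd (Subgroup.eq_of_le_of_card_ge hBA h.ge) hne
  rw [ha, hb] at hlt ⊢
  have hab : b < a := (Nat.pow_lt_pow_iff_right hp).1 hlt
  calc p * p ^ b = p ^ (b + 1) := by ring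
    _ ≤ p ^ a := Nat.pow_le_pow_right hp.le hab

/-- J1 (M). Greedy generators modulo `L`. -/
theorem helper56_jp_greedy {G : Type*} [Group G] [Finite G] (p : ℕ) [Fact p.Prime] (hGp : IsPGroup p G)
    (k : ℕ) (H L : Subgroup G) (hL : L ≤ H) (hidx : Nat.card H ≤ p ^ k * Nat.card L) :
    ∃ T : Finset G, T.card ≤ k ∧ Subgroup.closure (T : Set G) ⊔ L = H := by
  classical
  induction k generalizing L with
  | zero =>
    refine ⟨∅, le_rfl, ?_⟩
    have hLH : L = H := Subgroup.eq_of_le_of_card_ge hL (by simpa using hidx)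
    simp [hLH]
  | succ k ih =>
    by_cases hLH : L = H
    · exact ⟨∅, Nat.zero_le _, by simp [hLH]⟩
    · obtain ⟨h, hhH, hhL⟩ := SetLike.exists_of_lt (lt_of_le_of_ne hL hLH)
      have hL' : Subgroup.closure ({h} : Set G) ⊔ L ≤ H :=
        sup_le ((Subgroup.closure_le H).2 (by simpa using hhH)) hL
      have hne : L ≠ Subgroup.closure ({h} : Set G) ⊔ L := by
        intro he
        apply hhL
        rw [he]
        exact Subgroup.mem_sup_left (Subgroup.subset_closure (by simp))
      have hcard := helper56_jp_card_lt p hGp (Subgroup.closure ({h} : Set G) ⊔ L) L le_sup_right hne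
      have hidx' : Nat.card H ≤ p ^ k * Nat.card ↥(Subgroup.closure ({h} : Set G) ⊔ L) := by
        calc Nat.card H ≤ p ^ (k + 1) * Nat.card L := hidx
          _ = p ^ k * (p * Nat.card L) := by ring
          _ ≤ p ^ k * Nat.card ↥(Subgroup.closure ({h} : Set G) ⊔ L) := Nat.mul_le_mul_left _ hcard
      obtain ⟨T, hT, hTH⟩ := ih (Subgroup.closure ({h} : Set G) ⊔ L) hL' hidx'
      refine ⟨insert h T, (Finset.card_insert_le h T).trans (by omega), ?_⟩
      rw [Finset.coe_insert, Set.insert_eq, Subgroup.closure_union, ← hTH]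
      rw [sup_assoc, sup_left_comm]

/-- J10 (S/M). -/
theorem helper56_jp_nontop_small {G : Type*} [Group G] [Finite G] (p : ℕ) [Fact p.Prime] (n : ℕ)
    (hG : Nat.card G = p ^ n) (hn : n ≤ p + 1) (H : Subgroup G) (hH : H ≠ ⊤) :
    ∃ T : Finset G, T.card ≤ p ∧ Subgroup.closure (T : Set G) = H := by
  have hGp : IsPGroup p G := IsPGroup.of_card hG
  have hp : 1 < p := (Fact.out : p.Prime).one_lt
  have h1 := helper56_jp_card_lt p hGp ⊤ H le_top hH
  rw [Subgroup.card_top, hG] at h1
  have h2 : Nat.card H ≤ p ^ p * Nat.card (⊥ : Subgroup G) := by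
    rw [Subgroup.card_bot, mul_one]
    rcases Nat.eq_zero_or_pos n with rfl | hn0
    · have : Nat.card H ≤ 1 := by
        have := Subgroup.card_le_card_group H
        rw [hG] at this; simpa using this
      exact this.trans (Nat.one_le_pow _ _ (by omega))
    · have h3 : p * Nat.card H ≤ p * p ^ (n - 1) := by
        calc p * Nat.card H ≤ p ^ n := h1
          _ = p * p ^ (n - 1) := by rw [← pow_succ']; congr 1; omega
      have h4 : Nat.card H ≤ p ^ (n - 1) := Nat.le_of_mul_le_mul_left h3 (by omega)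
      exact h4.trans (Nat.pow_le_pow_right hp.le (by omega))
  obtain ⟨T, hT, hTH⟩ := helper56_jp_greedy p hGp p H ⊥ bot_le h2
  exact ⟨T, hT, by simpa using hTH⟩

end Cfsg.Agent.Lib.helper52.PearlJ
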