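import Mathlib
import Cfsg.Agent.Lib.helper44.PresDefs
import Cfsg.Agent.Lib.helper92.PresPW
import Cfsg.Agent.Lib.helper43.PresX1Core
import Cfsg.Agent.Lib.helper56.PresASEcore

/-!
# S2286 piece ASE `conf_even` (helper56) — exact statement of tools/S2286_Skel.lean.txt
-/

set_option autoImplicit false

namespace Cfsg.Agent.Lib.helper44.Pres

open Polynomial

-- ASE
theorem conf_even {G : Type*} [Group G] {F : Type*} [Field F] [Fintype F]
    [Algebra (ZMod 2) F] (u t h : G) (lam : F)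
    (hlam : ∀ a : F, a ≠ 0 → ∃ k : ℕ, a = lam ^ k)
    (hμ : Algebra.adjoin (ZMod 2) {lam} = ⊤) (hu : u ^ 2 = 1) (h2 : u * t * u = t * u * t)
    (h3 : t * h ^ (Fintype.card F / 2) * t⁻¹ = h ^ (Fintype.card F / 2 - 1))
    (hcomm : ∀ n : ℕ, Commute u (h ^ n * u * (h ^ n)⁻¹))
    (hG : polyWord h u (minpoly (ZMod 2) lam) = 1) :
    ∃ x : F → G, IsBConf x u t h lam (Fintype.card F - 1) 0 := by
  obtain ⟨x, hx1, hxa, hxh, -⟩ := Cfsg.Agent.Lib.helper43.Pres.exists_param_core u h lam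
    (polyWord h u) (polyWord_one h u) (polyWord_X_mul h u) (polyWord_add h u hu hcomm) hμ hG
  exact ⟨x, h56_conf_even_core u t h lam hlam hu h2 h3 x hx1 hxa hxh⟩

end Cfsg.Agent.Lib.helper44.Pres
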