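import Mathlib
import Cfsg.Agent.Lib.helper74.QODefs

/-!
# S1935 piece L2 `lim_card` (helper56) — exact statement of tools/S1935_Skel.lean.txt
-/

set_option autoImplicit false

namespace Cfsg.Agent.Lib.helper56.QO

open Cfsg.Agent.Lib.helper74.QO

variable {R : Type*} [Ring R]

/-- the admissible triples `(a, b, c)` -/
def h56S (W : AddSubgroup R) (ξ : R) : AddSubgroup (R × R × R) where
  carrier := {t | t.1 ∈ W ∧ t.2.1 ∈ W ∧ t.2.2 ∈ W ∧ ξ * t.1 * ξ ∈ W ∧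
    t.1 * ξ - ξ * t.1 - ξ * t.2.1 * ξ ∈ W}
  zero_mem' := by
    refine ⟨W.zero_mem, W.zero_mem, W.zero_mem, ?_, ?_⟩
    · simp
    · simp
  add_mem' := by
    rintro t t' ⟨h1, h2, h3, h4, h5⟩ ⟨h1', h2', h3', h4', h5'⟩
    refine ⟨W.add_mem h1 h1', W.add_mem h2 h2', W.add_mem h3 h3', ?_, ?_⟩
    · have : ξ * (t + t').1 * ξ = ξ * t.1 * ξ + ξ * t'.1 * ξ := by
        simp only [Prod.fst_add]; noncomm_ring
      rw [this]; exact W.add_mem h4 h4'
    · have : (t + t').1 * ξ - ξ * (t + t').1 - ξ * (t + t').2.1 * ξ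
          = (t.1 * ξ - ξ * t.1 - ξ * t.2.1 * ξ) + (t'.1 * ξ - ξ * t'.1 - ξ * t'.2.1 * ξ) := by
        simp only [Prod.fst_add, Prod.snd_add]; noncomm_ring
      rw [this]; exact W.add_mem h5 h5'
  neg_mem' := by
    rintro t ⟨h1, h2, h3, h4, h5⟩
    refine ⟨W.neg_mem h1, W.neg_mem h2, W.neg_mem h3, ?_, ?_⟩
    · have : ξ * (-t).1 * ξ = -(ξ * t.1 * ξ) := by
        simp only [Prod.fst_neg]; noncomm_ring
      rw [this]; exact W.neg_mem h4
    · have : (-t).1 * ξ - ξ * (-t).1 - ξ * (-t).2.1 * ξ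
          = -(t.1 * ξ - ξ * t.1 - ξ * t.2.1 * ξ) := by
        simp only [Prod.fst_neg, Prod.snd_neg]; noncomm_ring
      rw [this]; exact W.neg_mem h5

/-- `Ψ (a, b, c) = a + b ξ - ξ b - ξ c ξ` -/
def h56Psi (ξ : R) : R × R × R →+ R where
  toFun t := t.1 + t.2.1 * ξ - ξ * t.2.1 - ξ * t.2.2 * ξ
  map_zero' := by simp
  map_add' t t' := by
    simp only [Prod.fst_add, Prod.snd_add]; noncomm_ring

/-- `θ (a, b, c) = (-(a ξ - ξ a - ξ b ξ), a, b)` -/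
def h56Theta (ξ : R) : R × R × R →+ R × R × R where
  toFun t := (-(t.1 * ξ - ξ * t.1 - ξ * t.2.1 * ξ), t.1, t.2.1)
  map_zero' := by simp
  map_add' t t' := by
    refine Prod.ext ?_ (Prod.ext ?_ ?_)
    · simp only [Prod.fst_add, Prod.snd_add]; noncomm_ring
    · simp only [Prod.fst_add, Prod.snd_add]
    · simp only [Prod.fst_add, Prod.snd_add]

theorem h56Theta_mem (W : AddSubgroup R) (ξ : R) (hξ : ξ * ξ = 0) (t : R × R × R)
    (ht : t ∈ h56S W ξ) : h56Theta ξ t ∈ h56S W ξ := by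
  obtain ⟨h1, h2, h3, h4, h5⟩ := ht
  refine ⟨W.neg_mem h5, h1, h2, ?_, ?_⟩
  · have : ξ * (h56Theta ξ t).1 * ξ = 0 := by
      show ξ * (-(t.1 * ξ - ξ * t.1 - ξ * t.2.1 * ξ)) * ξ = 0
      have e : ξ * (-(t.1 * ξ - ξ * t.1 - ξ * t.2.1 * ξ)) * ξ
          = -(ξ * t.1 * (ξ * ξ)) + (ξ * ξ) * t.1 * ξ + (ξ * ξ) * t.2.1 * (ξ * ξ) := by noncomm_ring
      rw [e, hξ]; simp
    rw [this]; exact W.zero_mem
  · have : (h56Theta ξ t).1 * ξ - ξ * (h56Theta ξ t).1 - ξ * (h56Theta ξ t).2.1 * ξ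
        = ξ * t.1 * ξ := by
      show (-(t.1 * ξ - ξ * t.1 - ξ * t.2.1 * ξ)) * ξ - ξ * (-(t.1 * ξ - ξ * t.1 - ξ * t.2.1 * ξ))
        - ξ * t.1 * ξ = ξ * t.1 * ξ
      have e : (-(t.1 * ξ - ξ * t.1 - ξ * t.2.1 * ξ)) * ξ
            - ξ * (-(t.1 * ξ - ξ * t.1 - ξ * t.2.1 * ξ)) - ξ * t.1 * ξ
          = ξ * t.1 * ξ - t.1 * (ξ * ξ) + ξ * t.2.1 * (ξ * ξ) - (ξ * ξ) * t.1
            - (ξ * ξ) * t.2.1 * ξ := by noncomm_ring
      rw [e, hξ]; simp
    rw [this]; exact h4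

/-- PIECE L2 -/
theorem lim_card [Finite R] (W : AddSubgroup R) (ξ : R) (hξ : ξ * ξ = 0) :
    Nat.card ↥(lim W ξ) = Nat.card ↥W := by
  classical
  let S : AddSubgroup (R × R × R) := h56S W ξ
  let ΨS : ↥S →+ R := (h56Psi ξ).comp S.subtype
  let θS : ↥S →+ ↥S :=
    ((h56Theta ξ).comp S.subtype).codRestrict S (fun t => h56Theta_mem W ξ hξ t.1 t.2)
  -- range of Ψ
  have hrange : ΨS.range = lim W ξ := by
    ext l
    constructor
    · rintro ⟨⟨t, ht⟩, rfl⟩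
      exact ⟨t.1, ht.1, t.2.1, ht.2.1, t.2.2, ht.2.2.1, ht.2.2.2.1, ht.2.2.2.2, rfl⟩
    · rintro ⟨a, ha, b, hb, c, hc, h1, h2, rfl⟩
      exact ⟨⟨(a, b, c), ha, hb, hc, h1, h2⟩, rfl⟩
  -- range of θ = kernel of Ψ
  have hker : θS.range = ΨS.ker := by
    ext t
    constructor
    · rintro ⟨u, rfl⟩
      rw [AddMonoidHom.mem_ker]
      show (-(u.1.1 * ξ - ξ * u.1.1 - ξ * u.1.2.1 * ξ)) + u.1.1 * ξ - ξ * u.1.1
        - ξ * u.1.2.1 * ξ = 0
      noncomm_ring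
    · intro ht
      rw [AddMonoidHom.mem_ker] at ht
      obtain ⟨⟨a, b, c⟩, h1, h2, h3, h4, h5⟩ := t
      have ht' : a + b * ξ - ξ * b - ξ * c * ξ = 0 := ht
      have ha : a = -(b * ξ - ξ * b - ξ * c * ξ) := by
        have : a = (a + b * ξ - ξ * b - ξ * c * ξ) - (b * ξ - ξ * b - ξ * c * ξ) := by
          noncomm_ring
        rw [this, ht', zero_sub]
      -- `ξ b ξ ∈ W`
      have h6 : ξ * b * ξ ∈ W := by
        have e : a * ξ - ξ * a - ξ * b * ξ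
            = ξ * b * ξ - b * (ξ * ξ) + ξ * c * (ξ * ξ) - (ξ * ξ) * b - (ξ * ξ) * c * ξ := by
          rw [ha]; noncomm_ring
        have h5' : a * ξ - ξ * a - ξ * b * ξ ∈ W := h5
        rw [e, hξ] at h5'
        simpa using h5'
      have h7 : b * ξ - ξ * b - ξ * c * ξ ∈ W := by
        have : b * ξ - ξ * b - ξ * c * ξ = -a := by rw [ha]; noncomm_ring
        rw [this]; exact W.neg_mem h1
      refine ⟨⟨(b, c, 0), h2, h3, W.zero_mem, h6, h7⟩, ?_⟩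
      apply Subtype.ext
      show (-(b * ξ - ξ * b - ξ * c * ξ), b, c) = (a, b, c)
      rw [← ha]
  -- kernel of θ
  have hkθ : Nat.card θS.ker = Nat.card W := by
    refine Nat.card_congr
      { toFun := fun t => ⟨t.1.1.2.2, t.1.2.2.2.1⟩
        invFun := fun c => ⟨⟨(0, 0, c.1), W.zero_mem, W.zero_mem, c.2, by simp, by simp⟩, ?_⟩
        left_inv := ?_
        right_inv := ?_ }
    · rw [AddMonoidHom.mem_ker]
      apply Subtype.ext
      show (-((0 : R) * ξ - ξ * 0 - ξ * 0 * ξ), (0 : R), (0 : R)) = 0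
      simp
    · rintro ⟨⟨⟨a, b, c⟩, h1, h2, h3, h4, h5⟩, ht⟩
      rw [AddMonoidHom.mem_ker] at ht
      have ht' : (-(a * ξ - ξ * a - ξ * b * ξ), a, b) = (0 : R × R × R) :=
        congrArg Subtype.val ht
      have ha : a = 0 := (Prod.ext_iff.1 (Prod.ext_iff.1 ht').2).1
      have hb : b = 0 := (Prod.ext_iff.1 (Prod.ext_iff.1 ht').2).2
      subst ha; subst hb
      rfl
    · intro c
      rfl
  have e1 : Nat.card ΨS.ker * Nat.card (lim W ξ) = Nat.card S := by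
    rw [← hrange, ← AddSubgroup.index_ker]
    exact AddSubgroup.card_mul_index _
  have e2 : Nat.card θS.ker * Nat.card ΨS.ker = Nat.card S := by
    rw [← hker, ← AddSubgroup.index_ker]
    exact AddSubgroup.card_mul_index _
  rw [hkθ] at e2
  have hpos : 0 < Nat.card ΨS.ker := Nat.card_pos
  have : Nat.card ΨS.ker * Nat.card (lim W ξ) = Nat.card ΨS.ker * Nat.card W := by
    rw [e1, ← e2, mul_comm]
  exact Nat.eq_of_mul_eq_mul_left hpos this

end Cfsg.Agent.Lib.helper56.QO
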