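import Mathlib
import Cfsg.Agent.Lib.helper74.QODefs

/-!
# S1935 piece T `exists_quad_offender` (helper56) — exact statement of tools/S1935_Skel.lean.txt

Timmesfeld replacement: among the offenders `A ≤ E` take `|A| |Fix A|` maximal and then `|A|`
minimal; such an `A` is quadratic.
-/

set_option autoImplicit false

namespace Cfsg.Agent.Lib.helper56.QO

open Cfsg.Agent.Lib.helper74.QO

variable {V : Type*} [AddCommGroup V]

/-- `A_x` : the elements of `A` fixing all `(b - 1) x`, `b ∈ A`. -/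
def h56Ax (A : Subgroup (AddMonoid.End V)ˣ) (x : V) : Subgroup (AddMonoid.End V)ˣ where
  carrier := {a | a ∈ A ∧ ∀ b ∈ A, ((a : (AddMonoid.End V)ˣ) : AddMonoid.End V)
    (((b : (AddMonoid.End V)ˣ) : AddMonoid.End V) x - x) =
      ((b : (AddMonoid.End V)ˣ) : AddMonoid.End V) x - x}
  one_mem' := ⟨A.one_mem, fun _ _ => rfl⟩
  mul_mem' := by
    rintro a a' ⟨ha, h⟩ ⟨ha', h'⟩
    refine ⟨A.mul_mem ha ha', fun b hb => ?_⟩
    show ((a : (AddMonoid.End V)ˣ) : AddMonoid.End V)
      (((a' : (AddMonoid.End V)ˣ) : AddMonoid.End V) _) = _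
    rw [h' b hb, h b hb]
  inv_mem' := by
    rintro a ⟨ha, h⟩
    refine ⟨A.inv_mem ha, fun b hb => ?_⟩
    have h1 := h b hb
    have h2 : ((a⁻¹ : (AddMonoid.End V)ˣ) : AddMonoid.End V)
        (((a : (AddMonoid.End V)ˣ) : AddMonoid.End V)
          (((b : (AddMonoid.End V)ˣ) : AddMonoid.End V) x - x)) =
        ((b : (AddMonoid.End V)ˣ) : AddMonoid.End V) x - x := by
      show (((a⁻¹ : (AddMonoid.End V)ˣ) : AddMonoid.End V) *
        ((a : (AddMonoid.End V)ˣ) : AddMonoid.End V)) _ = _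
      rw [← Units.val_mul, inv_mul_cancel]
      rfl
    rw [h1] at h2
    exact h2

theorem h56Ax_le (A : Subgroup (AddMonoid.End V)ˣ) (x : V) : h56Ax A x ≤ A := fun _ h => h.1

/-- `Fix A` is closed under subtraction. -/
theorem h56_fix_sub (A : Subgroup (AddMonoid.End V)ˣ) {c c' : V} (hc : c ∈ Cfsg.Agent.Lib.helper74.QO.Fix A)
    (hc' : c' ∈ Cfsg.Agent.Lib.helper74.QO.Fix A) : c' - c ∈ Cfsg.Agent.Lib.helper74.QO.Fix A := by
  intro b hb
  rw [map_sub, hc b hb, hc' b hb]

/-- the fibre lemma -/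
theorem h56_fib (A : Subgroup (AddMonoid.End V)ˣ) (hAc : ∀ a ∈ A, ∀ b ∈ A, a * b = b * a)
    (x : V) (a a' : (AddMonoid.End V)ˣ) (ha : a ∈ A) (ha' : a' ∈ A) (c c' : V)
    (hc : c ∈ Cfsg.Agent.Lib.helper74.QO.Fix A) (hc' : c' ∈ Cfsg.Agent.Lib.helper74.QO.Fix A)
    (h : ((a : (AddMonoid.End V)ˣ) : AddMonoid.End V) x - x + c =
      ((a' : (AddMonoid.End V)ˣ) : AddMonoid.End V) x - x + c') :
    a'⁻¹ * a ∈ h56Ax A x := by
  refine ⟨A.mul_mem (A.inv_mem ha') ha, fun b hb => ?_⟩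
  have hd : ((a : (AddMonoid.End V)ˣ) : AddMonoid.End V) x -
      ((a' : (AddMonoid.End V)ˣ) : AddMonoid.End V) x = c' - c := by
    have e : ((a : (AddMonoid.End V)ˣ) : AddMonoid.End V) x -
        ((a' : (AddMonoid.End V)ˣ) : AddMonoid.End V) x =
        (((a : (AddMonoid.End V)ˣ) : AddMonoid.End V) x - x + c) -
          (((a' : (AddMonoid.End V)ˣ) : AddMonoid.End V) x - x + c') + (c' - c) := by abel
    rw [e, h]; abel
  have hfix := h56_fix_sub A hc hc' b hb
  rw [← hd, map_sub] at hfix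
  -- commutation
  have hab : ∀ v : V, ((a : (AddMonoid.End V)ˣ) : AddMonoid.End V)
      (((b : (AddMonoid.End V)ˣ) : AddMonoid.End V) v) =
      ((b : (AddMonoid.End V)ˣ) : AddMonoid.End V)
        (((a : (AddMonoid.End V)ˣ) : AddMonoid.End V) v) := by
    intro v
    have := congrArg (fun u : (AddMonoid.End V)ˣ => ((u : AddMonoid.End V)) v) (hAc a ha b hb)
    exact this
  have hab' : ∀ v : V, ((a' : (AddMonoid.End V)ˣ) : AddMonoid.End V)
      (((b : (AddMonoid.End V)ˣ) : AddMonoid.End V) v) =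
      ((b : (AddMonoid.End V)ˣ) : AddMonoid.End V)
        (((a' : (AddMonoid.End V)ˣ) : AddMonoid.End V) v) := by
    intro v
    have := congrArg (fun u : (AddMonoid.End V)ˣ => ((u : AddMonoid.End V)) v) (hAc a' ha' b hb)
    exact this
  -- `a (b x - x) = a' (b x - x)`
  have h3 : ((a : (AddMonoid.End V)ˣ) : AddMonoid.End V)
      (((b : (AddMonoid.End V)ˣ) : AddMonoid.End V) x - x) =
      ((a' : (AddMonoid.End V)ˣ) : AddMonoid.End V)
        (((b : (AddMonoid.End V)ˣ) : AddMonoid.End V) x - x) := by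
    rw [map_sub, map_sub, hab x, hab' x]
    have e : ((b : (AddMonoid.End V)ˣ) : AddMonoid.End V)
          (((a : (AddMonoid.End V)ˣ) : AddMonoid.End V) x) -
        ((a : (AddMonoid.End V)ˣ) : AddMonoid.End V) x -
        (((b : (AddMonoid.End V)ˣ) : AddMonoid.End V)
          (((a' : (AddMonoid.End V)ˣ) : AddMonoid.End V) x) -
        ((a' : (AddMonoid.End V)ˣ) : AddMonoid.End V) x) = 0 := by
      have : ((b : (AddMonoid.End V)ˣ) : AddMonoid.End V)
          (((a : (AddMonoid.End V)ˣ) : AddMonoid.End V) x) -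
        ((b : (AddMonoid.End V)ˣ) : AddMonoid.End V)
          (((a' : (AddMonoid.End V)ˣ) : AddMonoid.End V) x) -
        (((a : (AddMonoid.End V)ˣ) : AddMonoid.End V) x -
          ((a' : (AddMonoid.End V)ˣ) : AddMonoid.End V) x) = 0 := sub_eq_zero.2 hfix
      rw [← this]; abel
    exact sub_eq_zero.1 e
  show ((a'⁻¹ : (AddMonoid.End V)ˣ) : AddMonoid.End V)
    (((a : (AddMonoid.End V)ˣ) : AddMonoid.End V)
      (((b : (AddMonoid.End V)ˣ) : AddMonoid.End V) x - x)) = _
  rw [h3]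
  show (((a'⁻¹ : (AddMonoid.End V)ˣ) : AddMonoid.End V) *
    ((a' : (AddMonoid.End V)ˣ) : AddMonoid.End V)) _ = _
  rw [← Units.val_mul, inv_mul_cancel]
  rfl

/-- the image of `(a, c) ↦ (a - 1) x + c` lies in `Fix A_x` -/
theorem h56_img (A : Subgroup (AddMonoid.End V)ˣ) (x : V) (a : (AddMonoid.End V)ˣ) (ha : a ∈ A)
    (c : V) (hc : c ∈ Cfsg.Agent.Lib.helper74.QO.Fix A) :
    ((a : (AddMonoid.End V)ˣ) : AddMonoid.End V) x - x + c ∈ Cfsg.Agent.Lib.helper74.QO.Fix (h56Ax A x) := by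
  intro a₀ ha₀
  rw [map_add, ha₀.2 a ha, hc a₀ ha₀.1]

/-- `|A| |Fix A| ≤ |A_x| |Fix A_x|` -/
theorem h56_ineq [Finite V] (A : Subgroup (AddMonoid.End V)ˣ)
    (hAc : ∀ a ∈ A, ∀ b ∈ A, a * b = b * a) (x : V) :
    Nat.card A * Nat.card (Cfsg.Agent.Lib.helper74.QO.Fix A) ≤ Nat.card (h56Ax A x) * Nat.card (Cfsg.Agent.Lib.helper74.QO.Fix (h56Ax A x)) := by
  classical
  let φ : ↥A × ↥(Cfsg.Agent.Lib.helper74.QO.Fix A) → V := fun t =>
    ((t.1 : (AddMonoid.End V)ˣ) : AddMonoid.End V) x - x + (t.2 : V)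
  let g : V → ↥A × ↥(Cfsg.Agent.Lib.helper74.QO.Fix A) := fun w =>
    if h : ∃ t, φ t = w then Classical.choose h else (1, ⟨0, fun b _ => map_zero _⟩)
  have hg : ∀ t, φ (g (φ t)) = φ t := by
    intro t
    have h : ∃ t', φ t' = φ t := ⟨t, rfl⟩
    simp only [g, dif_pos h]
    exact Classical.choose_spec h
  let F : ↥A × ↥(Cfsg.Agent.Lib.helper74.QO.Fix A) → ↥(h56Ax A x) × ↥(Cfsg.Agent.Lib.helper74.QO.Fix (h56Ax A x)) := fun t =>
    (⟨((g (φ t)).1 : (AddMonoid.End V)ˣ)⁻¹ * (t.1 : (AddMonoid.End V)ˣ),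
        h56_fib A hAc x _ _ t.1.2 (g (φ t)).1.2 _ _ t.2.2 (g (φ t)).2.2 (hg t).symm⟩,
      ⟨φ t, h56_img A x _ t.1.2 _ t.2.2⟩)
  have hF : Function.Injective F := by
    intro t t' h
    have h1 : φ t = φ t' := congrArg (fun u => (u.2 : V)) h
    have h2 : ((g (φ t)).1 : (AddMonoid.End V)ˣ)⁻¹ * (t.1 : (AddMonoid.End V)ˣ) =
        ((g (φ t')).1 : (AddMonoid.End V)ˣ)⁻¹ * (t'.1 : (AddMonoid.End V)ˣ) :=
      congrArg (fun u => ((u.1 : ↥(h56Ax A x)) : (AddMonoid.End V)ˣ)) h
    rw [h1] at h2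
    have h3 : (t.1 : (AddMonoid.End V)ˣ) = t'.1 := mul_left_cancel h2
    have h4 : (t.2 : V) = t'.2 := by
      have e : φ t = φ t' := h1
      simp only [φ] at e
      rw [h3] at e
      exact add_left_cancel e
    exact Prod.ext (Subtype.ext h3) (Subtype.ext h4)
  have := Nat.card_le_card_of_injective F hF
  rwa [Nat.card_prod, Nat.card_prod] at this

/-- injectivity when `A_x = ⊥` -/
theorem h56_inj (A : Subgroup (AddMonoid.End V)ˣ)
    (hAc : ∀ a ∈ A, ∀ b ∈ A, a * b = b * a) (x : V) (hx : h56Ax A x = ⊥) :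
    Function.Injective (fun t : ↥A × ↥(Cfsg.Agent.Lib.helper74.QO.Fix A) =>
      ((t.1 : (AddMonoid.End V)ˣ) : AddMonoid.End V) x - x + (t.2 : V)) := by
  intro t t' h
  have h1 := h56_fib A hAc x _ _ t.1.2 t'.1.2 _ _ t.2.2 t'.2.2 h
  rw [hx, Subgroup.mem_bot] at h1
  have h3 : (t.1 : (AddMonoid.End V)ˣ) = t'.1 := by
    have := inv_mul_eq_one.1 h1
    exact this.symm
  have h4 : (t.2 : V) = t'.2 := by
    have e : ((t.1 : (AddMonoid.End V)ˣ) : AddMonoid.End V) x - x + (t.2 : V) =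
        ((t'.1 : (AddMonoid.End V)ˣ) : AddMonoid.End V) x - x + (t'.2 : V) := h
    rw [h3] at e
    exact add_left_cancel e
  exact Prod.ext (Subtype.ext h3) (Subtype.ext h4)

/-- PIECE T (Timmesfeld replacement) -/
theorem exists_quad_offender {V : Type*} [AddCommGroup V] [Finite V] (p : ℕ) [Fact p.Prime]
    (hV : ∀ v : V, p • v = 0) (E : Subgroup (AddMonoid.End V)ˣ) (hE1 : E ≠ ⊥)
    (hEc : ∀ a ∈ E, ∀ b ∈ E, a * b = b * a) (hEp : ∀ a ∈ E, a ^ p = 1)
    (hoff : Nat.card V ≤ Nat.card E * Nat.card (Cfsg.Agent.Lib.helper74.QO.Fix E)) :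
    ∃ A : Subgroup (AddMonoid.End V)ˣ, A ≤ E ∧ A ≠ ⊥ ∧ Quad A ∧
      Nat.card V ≤ Nat.card A * Nat.card (Cfsg.Agent.Lib.helper74.QO.Fix A) := by
  classical
  have hp : p.Prime := Fact.out
  set K : ℕ := Nat.card (AddMonoid.End V)ˣ with hK
  let α := {A : Subgroup (AddMonoid.End V)ˣ //
    A ≤ E ∧ A ≠ ⊥ ∧ Nat.card V ≤ Nat.card A * Nat.card (Cfsg.Agent.Lib.helper74.QO.Fix A)}
  have : Nonempty α := ⟨⟨E, le_rfl, hE1, hoff⟩⟩
  let μ : α → ℕ := fun A =>
    (Nat.card A.1 * Nat.card (Cfsg.Agent.Lib.helper74.QO.Fix A.1)) * (K + 1) + (K - Nat.card A.1)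
  obtain ⟨⟨A, hAE, hA1, hAoff⟩, hmax⟩ := Finite.exists_max μ
  have hAK : Nat.card A ≤ K := Subgroup.card_le_card_group A
  -- consequences of maximality
  have hmax1 : ∀ B : Subgroup (AddMonoid.End V)ˣ, B ≤ E → B ≠ ⊥ →
      Nat.card V ≤ Nat.card B * Nat.card (Cfsg.Agent.Lib.helper74.QO.Fix B) →
      Nat.card B * Nat.card (Cfsg.Agent.Lib.helper74.QO.Fix B) ≤ Nat.card A * Nat.card (Cfsg.Agent.Lib.helper74.QO.Fix A) := by
    intro B hBE hB1 hBoff
    have h := hmax ⟨B, hBE, hB1, hBoff⟩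
    simp only [μ] at h
    by_contra hcon
    have hcon := not_le.1 hcon
    have h1 : (Nat.card A * Nat.card (Cfsg.Agent.Lib.helper74.QO.Fix A) + 1) * (K + 1) ≤
        (Nat.card B * Nat.card (Cfsg.Agent.Lib.helper74.QO.Fix B)) * (K + 1) := Nat.mul_le_mul_right _ hcon
    have h2 : (Nat.card A * Nat.card (Cfsg.Agent.Lib.helper74.QO.Fix A) + 1) * (K + 1) =
        (Nat.card A * Nat.card (Cfsg.Agent.Lib.helper74.QO.Fix A)) * (K + 1) + (K + 1) := by ring
    omega
  have hmax2 : ∀ B : Subgroup (AddMonoid.End V)ˣ, B ≤ E → B ≠ ⊥ →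
      Nat.card V ≤ Nat.card B * Nat.card (Cfsg.Agent.Lib.helper74.QO.Fix B) →
      Nat.card B * Nat.card (Cfsg.Agent.Lib.helper74.QO.Fix B) = Nat.card A * Nat.card (Cfsg.Agent.Lib.helper74.QO.Fix A) →
      Nat.card A ≤ Nat.card B := by
    intro B hBE hB1 hBoff heq
    have h := hmax ⟨B, hBE, hB1, hBoff⟩
    simp only [μ] at h
    rw [heq] at h
    have hBK : Nat.card B ≤ K := Subgroup.card_le_card_group B
    omega
  have hAc : ∀ a ∈ A, ∀ b ∈ A, a * b = b * a := fun a ha b hb => hEc a (hAE ha) b (hAE hb)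
  -- `A_x = A` for every `x`
  have hAx : ∀ x : V, h56Ax A x = A := by
    intro x
    have hineq := h56_ineq A hAc x
    by_cases hbot : h56Ax A x = ⊥
    · exfalso
      -- `|A| |Cfsg.Agent.Lib.helper74.QO.Fix A| = |V|` and the map is a bijection
      have hfixbot : Nat.card (Cfsg.Agent.Lib.helper74.QO.Fix (⊥ : Subgroup (AddMonoid.End V)ˣ)) = Nat.card V := by
        have : Cfsg.Agent.Lib.helper74.QO.Fix (⊥ : Subgroup (AddMonoid.End V)ˣ) = Set.univ := by
          ext v
          simp only [Set.mem_univ, iff_true]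
          intro a ha
          rw [Subgroup.mem_bot] at ha
          subst ha
          rfl
        rw [this, Nat.card_congr (Equiv.Set.univ V)]
      have hbotcard : Nat.card (⊥ : Subgroup (AddMonoid.End V)ˣ) = 1 := Subgroup.card_bot
      rw [hbot, hfixbot, hbotcard, one_mul] at hineq
      have hcard : Nat.card (↥A × ↥(Cfsg.Agent.Lib.helper74.QO.Fix A)) = Nat.card V := by
        rw [Nat.card_prod]; omega
      have hinj := h56_inj A hAc x hbot
      have hbij : Function.Bijective (fun t : ↥A × ↥(Cfsg.Agent.Lib.helper74.QO.Fix A) =>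
          ((t.1 : (AddMonoid.End V)ˣ) : AddMonoid.End V) x - x + (t.2 : V)) :=
        (Nat.bijective_iff_injective_and_card _).2 ⟨hinj, hcard⟩
      obtain ⟨⟨⟨a, ha⟩, ⟨c, hc⟩⟩, hac⟩ := hbij.2 x
      have hac' : ((a : (AddMonoid.End V)ˣ) : AddMonoid.End V) x - x + c = x := hac
      -- every `(b - 1) x` vanishes
      have hzero : ∀ b ∈ A, ((b : (AddMonoid.End V)ˣ) : AddMonoid.End V) x - x = 0 := by
        intro b hb
        set y : V := ((b : (AddMonoid.End V)ˣ) : AddMonoid.End V) x - x with hy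
        -- `a y = y + y`
        have hab : ((a : (AddMonoid.End V)ˣ) : AddMonoid.End V)
            (((b : (AddMonoid.End V)ˣ) : AddMonoid.End V) x) =
            ((b : (AddMonoid.End V)ˣ) : AddMonoid.End V)
              (((a : (AddMonoid.End V)ˣ) : AddMonoid.End V) x) := by
          have := congrArg (fun u : (AddMonoid.End V)ˣ => ((u : AddMonoid.End V)) x)
            (hAc a ha b hb)
          exact this
        have hax : ((a : (AddMonoid.End V)ˣ) : AddMonoid.End V) x = x + x - c := by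
          have e : ((a : (AddMonoid.End V)ˣ) : AddMonoid.End V) x =
              (((a : (AddMonoid.End V)ˣ) : AddMonoid.End V) x - x + c) + x - c := by abel
          rw [e, hac']
        have hay : ((a : (AddMonoid.End V)ˣ) : AddMonoid.End V) y = y + y := by
          have e1 : ((a : (AddMonoid.End V)ˣ) : AddMonoid.End V) y =
              ((b : (AddMonoid.End V)ˣ) : AddMonoid.End V)
                (((a : (AddMonoid.End V)ˣ) : AddMonoid.End V) x) -
              ((a : (AddMonoid.End V)ˣ) : AddMonoid.End V) x := by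
            rw [hy, map_sub, hab]
          have e2 : ((b : (AddMonoid.End V)ˣ) : AddMonoid.End V)
                (((a : (AddMonoid.End V)ˣ) : AddMonoid.End V) x) =
              ((b : (AddMonoid.End V)ˣ) : AddMonoid.End V) x +
                ((b : (AddMonoid.End V)ˣ) : AddMonoid.End V) x - c := by
            rw [hax, map_sub, map_add, hc b hb]
          rw [e1, e2, hax, hy]
          abel
        have hpow : ∀ n : ℕ, (((a : (AddMonoid.End V)ˣ) : AddMonoid.End V) ^ n) y = 2 ^ n • y := by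
          intro n
          induction n with
          | zero => simp
          | succ n ih =>
            rw [pow_succ]
            show (((a : (AddMonoid.End V)ˣ) : AddMonoid.End V) ^ n)
              (((a : (AddMonoid.End V)ˣ) : AddMonoid.End V) y) = _
            rw [hay, map_add, ih, pow_succ, mul_nsmul, two_nsmul]
        have hap : ((a : (AddMonoid.End V)ˣ) : AddMonoid.End V) ^ p = 1 := by
          rw [← Units.val_pow_eq_pow_val, hEp a (hAE ha), Units.val_one]
        have h1 := hpow p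
        rw [hap] at h1
        have h1' : y = 2 ^ p • y := h1
        -- Fermat
        have hfer : 2 ≡ 2 ^ p [MOD p] := by
          apply (ZMod.natCast_eq_natCast_iff _ _ _).1
          push_cast
          exact (ZMod.pow_card (2 : ZMod p)).symm
        have h2le : 2 ≤ 2 ^ p := by
          calc 2 = 2 ^ 1 := by norm_num
            _ ≤ 2 ^ p := Nat.pow_le_pow_right (by norm_num) hp.one_lt.le
        obtain ⟨k, hk⟩ := (Nat.modEq_iff_dvd' h2le).1 hfer
        have h2p : 2 ^ p = 2 + p * k := by omega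
        rw [h2p, add_nsmul, mul_comm, mul_nsmul, hV, two_nsmul, add_zero] at h1'
        have : y + y - y = y - y := by rw [← h1']
        simpa using this
      have hAle : A ≤ h56Ax A x := by
        intro a' ha'
        refine ⟨ha', fun b hb => ?_⟩
        rw [hzero b hb, map_zero]
      rw [hbot] at hAle
      exact hA1 (le_bot_iff.1 hAle)
    · have hle := h56Ax_le A x
      have hoffx : Nat.card V ≤ Nat.card (h56Ax A x) * Nat.card (Cfsg.Agent.Lib.helper74.QO.Fix (h56Ax A x)) :=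
        hAoff.trans hineq
      have h1 := hmax1 _ (hle.trans hAE) hbot hoffx
      have h2 := hmax2 _ (hle.trans hAE) hbot hoffx (le_antisymm h1 hineq)
      exact Subgroup.eq_of_le_of_card_ge hle h2
  refine ⟨A, hAE, hA1, ?_, hAoff⟩
  intro a ha b hb
  apply AddMonoidHom.ext
  intro x
  have hmem : a ∈ h56Ax A x := by rw [hAx x]; exact ha
  have h1 := hmem.2 b hb
  show ((a : (AddMonoid.End V)ˣ) : AddMonoid.End V)
      (((b : (AddMonoid.End V)ˣ) : AddMonoid.End V) x - x) -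
    (((b : (AddMonoid.End V)ˣ) : AddMonoid.End V) x - x) = 0
  rw [h1, sub_self]

end Cfsg.Agent.Lib.helper56.QO
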