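import Mathlib
import Cfsg.Agent.Lib.helper45.RUDefs

set_option autoImplicit false

namespace Cfsg.Agent.Lib.helper45.RU

open Matrix Cfsg.Agent.Lib.helper44

variable {n : ℕ} {F : Type*} [Field F] {S : Set (Matrix (Fin n) (Fin n) F)}

/-- GD -/
theorem abs_GD [Fintype F] (c : F) (hc : ∀ a : F, a ≠ 0 → ∃ m : ℕ, 0 < m ∧ c ^ m = a)
    (p : ℕ) [Fact p.Prime] [CharP F p] (e : ℕ) (R : Set F) (h0 : (0 : F) ∈ R)
    (hmul : ∀ x y, x ∈ R → y ∈ R → x * y ∈ R) (hw : c ^ (p ^ e) ∈ R) : ∀ x : F, x ∈ R := by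
  have hpow : ∀ x : F, x ∈ R → ∀ k : ℕ, x ^ (k + 1) ∈ R := by
    intro x hx k
    induction k with
    | zero => simpa using hx
    | succ k ih => rw [pow_succ]; exact hmul _ _ ih hx
  obtain ⟨f, hp, hq⟩ := FiniteField.card F p
  have hqe : ∀ k : ℕ, c ^ ((Fintype.card F) ^ k) = c := by
    intro k
    induction k with
    | zero => simp
    | succ k ih => rw [pow_succ, pow_mul, ih, FiniteField.pow_card]
  have hf : 1 ≤ (f : ℕ) := f.pos
  have hexp : (Fintype.card F) ^ e = p ^ e * p ^ (e * ((f : ℕ) - 1)) := by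
    rw [hq, ← pow_mul, ← pow_add]
    congr 1
    obtain ⟨g, hg⟩ : ∃ g, (f : ℕ) = g + 1 := ⟨(f : ℕ) - 1, by omega⟩
    rw [hg, Nat.add_sub_cancel]; ring
  have hcR : c ∈ R := by
    have h1 := hqe e
    rw [hexp, pow_mul] at h1
    have hpos : 0 < p ^ (e * ((f : ℕ) - 1)) := pow_pos hp.pos _
    obtain ⟨k, hk⟩ : ∃ k, p ^ (e * ((f : ℕ) - 1)) = k + 1 :=
      ⟨p ^ (e * ((f : ℕ) - 1)) - 1, by omega⟩
    have h2 : (c ^ p ^ e) ^ (k + 1) ∈ R := hpow _ hw k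
    rw [← hk, h1] at h2
    exact h2
  intro x
  by_cases hx : x = 0
  · rw [hx]; exact h0
  · obtain ⟨m, hm, rfl⟩ := hc x hx
    obtain ⟨k, rfl⟩ : ∃ k, m = k + 1 := ⟨m - 1, by omega⟩
    exact hpow c hcR k

end Cfsg.Agent.Lib.helper45.RU
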