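import Mathlib

/-!
# S3806 piece C `mul_pow_eq_of_abelian` (helper56 race copy, prefixed name)
-/

set_option autoImplicit false

namespace Cfsg.Agent.Lib.helper12.MC

theorem h56_sum_pow_eq_choose {R : Type*} [Ring R] (D : R) (n : ℕ) :
    ∑ i ∈ Finset.range n, (1 + D) ^ i = ∑ m ∈ Finset.range n, (n.choose (m + 1)) • D ^ m := by
  induction n with
  | zero => simp
  | succ n ih =>
    rw [Finset.sum_range_succ, ih]
    have h1 : (1 + D) ^ n = ∑ m ∈ Finset.range (n + 1), (n.choose m) • D ^ m := by
      rw [add_comm, (Commute.one_right D).add_pow]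
      refine Finset.sum_congr rfl fun m _ => ?_
      rw [one_pow, mul_one, nsmul_eq_mul, (Nat.cast_commute (n.choose m) (D ^ m)).eq]
    rw [h1]
    have h2 : ∑ m ∈ Finset.range (n + 1), ((n + 1).choose (m + 1)) • D ^ m
        = ∑ m ∈ Finset.range (n + 1), (n.choose m) • D ^ m +
          ∑ m ∈ Finset.range (n + 1), (n.choose (m + 1)) • D ^ m := by
      rw [← Finset.sum_add_distrib]
      refine Finset.sum_congr rfl fun m _ => ?_
      rw [Nat.choose_succ_succ, add_nsmul]
    rw [h2, Finset.sum_range_succ (fun m => (n.choose (m + 1)) • D ^ m) n]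
    simp [Nat.choose_succ_self, add_comm]

theorem h56_end_sum_apply {M : Type*} [AddCommGroup M] (f : ℕ → AddMonoid.End M) (g : ℕ → ℕ)
    (S : Finset ℕ) (x : M) : (∑ m ∈ S, g m • f m) x = ∑ m ∈ S, g m • (f m x) := by
  induction S using Finset.induction_on with
  | empty => simp
  | insert a S ha ih =>
    rw [Finset.sum_insert ha, Finset.sum_insert ha, ← ih]
    rfl

/-- C (helper56 copy): `(s c)^p = s^p c^p`. -/
theorem h56_mul_pow_eq_of_abelian (p : ℕ) [Fact p.Prime] {T : Type*} [Group T] (A B : Subgroup T)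
    (hA : ∀ x ∈ A, ∀ y ∈ A, x * y = y * x) (s : T) (hsA : ∀ a ∈ A, s⁻¹ * a * s ∈ A)
    (hBA : B ≤ A) (hsB : ∀ b ∈ B, s⁻¹ * b * s ∈ B) (hBp : ∀ b ∈ B, b ^ p = 1)
    (c : T) (hc : c ∈ A) (hcB : c⁻¹ * (s⁻¹ * c * s) ∈ B)
    (hnil : (fun v : T => v⁻¹ * (s⁻¹ * v * s))^[p - 1] c = 1) :
    (s * c) ^ p = s ^ p * c ^ p := by
  have hp : p.Prime := Fact.out
  -- Step 1 : `(s c)^n = s^n P_n`
  have h1 : ∀ n, (s * c) ^ n = s ^ n * (fun v : T => s⁻¹ * v * s * c)^[n] 1 := by
    intro n
    induction n with
    | zero => simp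
    | succ n ih =>
      rw [pow_succ, ih, Function.iterate_succ_apply', pow_succ]
      group
  rw [h1 p]
  congr 1
  -- Step 2 : `P_p = c^p`, computed in the abelian group `A`
  letI : CommGroup ↥A :=
    { (inferInstance : Group ↥A) with mul_comm := fun x y => Subtype.ext (hA x x.2 y y.2) }
  let σA : ↥A →* ↥A :=
    { toFun := fun a => ⟨s⁻¹ * a * s, hsA a a.2⟩
      map_one' := by ext; simp
      map_mul' := fun a b => by ext; simp; group }
  let σ' : AddMonoid.End (Additive ↥A) := MonoidHom.toAdditive σA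
  let D : AddMonoid.End (Additive ↥A) := σ' - 1
  let c' : Additive ↥A := Additive.ofMul ⟨c, hc⟩
  have hσD : σ' = 1 + D := by simp [D]
  -- `P_n` is the image of `(∑_{i<n} σ^i) c`
  have h2 : ∀ n, ((Additive.toMul ((∑ i ∈ Finset.range n, σ' ^ i) c') : ↥A) : T) =
      (fun v : T => s⁻¹ * v * s * c)^[n] 1 := by
    intro n
    induction n with
    | zero => simp
    | succ n ih =>
      rw [Finset.sum_range_succ', Function.iterate_succ_apply', ← ih]
      have e1 : ∑ k ∈ Finset.range n, σ' ^ (k + 1) = σ' * ∑ k ∈ Finset.range n, σ' ^ k := by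
        rw [Finset.mul_sum]
        exact Finset.sum_congr rfl fun k _ => pow_succ' _ _
      rw [e1, pow_zero]
      rfl
  rw [← h2 p, hσD, h56_sum_pow_eq_choose, h56_end_sum_apply]
  -- iterates of `D`
  have h3 : ∀ m, ((Additive.toMul ((D ^ m) c') : ↥A) : T) =
      (fun v : T => v⁻¹ * (s⁻¹ * v * s))^[m] c := by
    intro m
    induction m with
    | zero => simp [c']
    | succ m ih =>
      rw [pow_succ', Function.iterate_succ_apply', ← ih]
      have hmem := ((Additive.toMul ((D ^ m) c') : ↥A)).2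
      have e1 : ((Additive.toMul ((D * D ^ m) c') : ↥A) : T) =
          (s⁻¹ * ((Additive.toMul ((D ^ m) c') : ↥A) : T) * s) /
            ((Additive.toMul ((D ^ m) c') : ↥A) : T) := rfl
      rw [e1, div_eq_mul_inv]
      exact hA _ (hsA _ hmem) _ (inv_mem hmem)
  have h4 : ∀ m, 1 ≤ m → (fun v : T => v⁻¹ * (s⁻¹ * v * s))^[m] c ∈ B := by
    intro m hm
    induction m with
    | zero => omega
    | succ m ih =>
      rcases Nat.eq_zero_or_pos m with h0 | h0
      · subst h0; simpa using hcB
      · rw [Function.iterate_succ_apply']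
        have hb := ih h0
        exact B.mul_mem (inv_mem hb) (hsB _ hb)
  -- evaluate the sum
  have h5 : ∑ m ∈ Finset.range p, p.choose (m + 1) • (D ^ m) c' = p • c' := by
    rw [Finset.sum_eq_single 0]
    · simp
    · intro m hm hm0
      have hmp : m < p := Finset.mem_range.1 hm
      rcases Nat.lt_or_ge m (p - 1) with hlt | hge
      · -- `p ∣ C(p, m+1)` and `D^m c ∈ B`
        obtain ⟨j, hj⟩ := hp.dvd_choose_self (Nat.succ_ne_zero m) (by omega : m + 1 < p)
        have hz : p • (D ^ m) c' = 0 := by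
          have hb := hBp _ (h4 m (by omega))
          rw [← h3 m] at hb
          have hb' : (Additive.toMul ((D ^ m) c') : ↥A) ^ p = 1 := Subtype.ext (by simpa using hb)
          exact hb'
        rw [hj, mul_nsmul, hz, smul_zero]
      · have hm' : m = p - 1 := by omega
        have hz : (D ^ m) c' = 0 := by
          have hb := hnil
          rw [← hm', ← h3 m] at hb
          have hb' : (Additive.toMul ((D ^ m) c') : ↥A) = 1 := Subtype.ext (by simpa using hb)
          exact hb'
        rw [hz, smul_zero]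
    · intro h0
      exact absurd (Finset.mem_range.2 hp.pos) h0
  rw [h5]
  rfl

end Cfsg.Agent.Lib.helper12.MC
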