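import Mathlib
import Cfsg.Agent.Lib.helper81.S4484Defs
import Cfsg.Agent.Lib.helper81.WBO
import Cfsg.Agent.Lib.helper81.Kernel
import Cfsg.Agent.Lib.helper76.KazCore

/-!
# S4484 piece BL (helper56) — exact statement of tools/S4484_Skel.lean.txt
-/

set_option autoImplicit false

namespace Cfsg.Agent.Lib.helper56.S4484

open Cfsg Cfsg.Agent.Lib.helper83 Cfsg.Agent.Lib.helper79 Cfsg.Agent.Lib.helper81
  Cfsg.Agent.Lib.helper81.S4484
open scoped Matrix ComplexConjugate

universe u

/-- BL (weak block orthogonality; uses helper81.wbo) -/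
theorem exists_block_char {G : Type u} [Group G] [Finite G] (p q : ℕ) (hq : q.Prime)
    (M : Ideal AlgInt) (hM : IsPModular p M) (hpG : p ∣ Nat.card G) :
    ∃ χ : IrrCharacter G, χ ∈ principalBlock M G ∧ χ ≠ trivChar G ∧
      ¬ q ∣ charDegree (χ : G → ℂ) := by
  classical
  by_contra hcon
  push_neg at hcon
  haveI : Fintype G := Fintype.ofFinite G
  have hp := hM.1
  haveI : Fact p.Prime := ⟨hp⟩
  obtain ⟨y, hy⟩ := exists_prime_orderOf_dvd_card' p hpG
  have hMp := Cfsg.Agent.Lib.helper20.isPrime_of_isPModular hM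
  have h0 := blockCoeff_block_eq_zero_of_singular hM
    (isPBlock_principalBlock (M := M) (G := G)) (y := y) (by rw [hy])
  rw [blockCoeff_eq_sum] at h0
  have hcard : (Nat.card G : ℂ) ≠ 0 := by
    exact_mod_cast (Nat.card_pos (α := G)).ne'
  have hsum : ∑ χ : IrrCharacter G, (if χ ∈ principalBlock M G then
      (χ : G → ℂ) 1 * conj ((χ : G → ℂ) y) else 0) = 0 := by
    rcases mul_eq_zero.mp h0 with h | h
    · exact absurd (inv_eq_zero.mp h) hcard
    · exact h
  rw [← Finset.add_sum_erase _ _ (Finset.mem_univ (trivChar G))] at hsum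
  rw [if_pos (trivChar_mem_principalBlock hMp)] at hsum
  have hrest : ∃ c : ℂ, IsIntegral ℤ c ∧
      ∑ χ ∈ Finset.univ.erase (trivChar G), (if χ ∈ principalBlock M G then
        (χ : G → ℂ) 1 * conj ((χ : G → ℂ) y) else 0) = (q : ℂ) * c := by
    refine ⟨∑ χ ∈ Finset.univ.erase (trivChar G), (if χ ∈ principalBlock M G then
        ((charDegree (χ : G → ℂ) / q : ℕ) : ℂ) * conj ((χ : G → ℂ) y) else 0), ?_, ?_⟩
    · apply IsIntegral.sum
      intro χ _
      split_ifs
      · exact IsIntegral.mul (isIntegral_natCast _) (map_isIntegral_int _ (irr_isIntegral χ y))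
      · exact isIntegral_zero
    · rw [Finset.mul_sum]
      apply Finset.sum_congr rfl
      intro χ hχ
      split_ifs with hB
      · have hne : χ ≠ trivChar G := Finset.ne_of_mem_erase hχ
        obtain ⟨k, hk⟩ := hcon χ hB hne
        rw [Cfsg.Agent.Lib.helper83.irr_one_eq_charDegree, hk, Nat.mul_div_cancel_left k hq.pos]
        push_cast
        ring
      · rw [mul_zero]
  obtain ⟨c, hc, hrc⟩ := hrest
  rw [hrc] at hsum
  have hqc : (q : ℂ) ≠ 0 := by exact_mod_cast hq.ne_zero
  have h1 : ((1 : ℕ) : ℂ) / (q : ℂ) = -c := by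
    have h2 : (1 : ℂ) + (q : ℂ) * c = 0 := by
      have h3 : (trivChar G : G → ℂ) 1 * conj ((trivChar G : G → ℂ) y) = 1 := by
        simp
      rw [h3] at hsum
      exact hsum
    rw [Nat.cast_one, div_eq_iff hqc]
    linear_combination h2
  have h4 : IsIntegral ℤ (((1 : ℕ) : ℂ) / (q : ℂ)) := by
    rw [h1]; exact hc.neg
  have h5 := dvd_of_isIntegral_div hq.ne_zero h4
  exact hq.one_lt.ne' (Nat.dvd_one.mp h5)

end Cfsg.Agent.Lib.helper56.S4484
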