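import Mathlib
import Cfsg.Agent.Lib.helper81.S4484Defs
import Cfsg.Agent.Lib.helper79.FiniteOrderTrace

/-!
# S4484 piece MU1 (helper56) — exact statement of tools/S4484_Skel.lean.txt
-/

set_option autoImplicit false

namespace Cfsg.Agent.Lib.helper56.S4484

open Cfsg Cfsg.Agent.Lib.helper83 Cfsg.Agent.Lib.helper79 Cfsg.Agent.Lib.helper81
  Cfsg.Agent.Lib.helper81.S4484
open scoped Matrix

universe u

/-- `M * P_λ = λ P_λ`. -/
theorem mu1_mul_proj {n : ℕ} (M : Matrix (Fin n) (Fin n) ℂ) (p : ℕ)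
    (hM : M ^ p = 1) (lam : ℂ) (hl : lam ^ p = 1) (hl0 : lam ≠ 0) :
    M * proj M p lam = lam • proj M p lam := by
  unfold proj
  rw [Matrix.mul_smul, smul_comm lam (p : ℂ)⁻¹]
  congr 1
  rw [Finset.mul_sum, Finset.smul_sum]
  have key : ∀ l : ℕ, M * (lam⁻¹ ^ l • M ^ l) = (lam * lam⁻¹ ^ (l + 1)) • M ^ (l + 1) := by
    intro l
    rw [Matrix.mul_smul, ← pow_succ', pow_succ lam⁻¹ l]
    congr 1
    field_simp
  have key2 : ∀ l : ℕ, lam • (lam⁻¹ ^ l • M ^ l) = (lam * lam⁻¹ ^ l) • M ^ l := by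
    intro l
    rw [smul_smul]
  rw [Finset.sum_congr rfl (fun l _ => key l), Finset.sum_congr rfl (fun l _ => key2 l)]
  have h1 := Finset.sum_range_succ' (fun l : ℕ => (lam * lam⁻¹ ^ l) • M ^ l) p
  have h2 := Finset.sum_range_succ (fun l : ℕ => (lam * lam⁻¹ ^ l) • M ^ l) p
  have h3 : (lam * lam⁻¹ ^ p) • M ^ p = (lam * lam⁻¹ ^ 0) • M ^ 0 := by
    rw [hM, pow_zero, pow_zero, inv_pow, hl, inv_one]
  rw [h2, h3] at h1
  exact (add_right_cancel h1).symm

/-- `P_λ` is idempotent. -/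
theorem mu1_proj_idem {n : ℕ} (M : Matrix (Fin n) (Fin n) ℂ) (p : ℕ) (hp : 0 < p)
    (hM : M ^ p = 1) (lam : ℂ) (hl : lam ^ p = 1) :
    proj M p lam * proj M p lam = proj M p lam := by
  have hl0 : lam ≠ 0 := by
    intro h
    rw [h, zero_pow hp.ne'] at hl
    exact zero_ne_one hl
  have hpow : ∀ l : ℕ, M ^ l * proj M p lam = lam ^ l • proj M p lam := by
    intro l
    induction l with
    | zero => simp
    | succ l ih =>
      rw [pow_succ, Matrix.mul_assoc, mu1_mul_proj M p hM lam hl hl0, Matrix.mul_smul, ih,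
        smul_smul, pow_succ, mul_comm]
  have h1 : proj M p lam * proj M p lam =
      (p : ℂ)⁻¹ • ∑ l ∈ Finset.range p, (lam⁻¹ ^ l • M ^ l) * proj M p lam := by
    conv_lhs => rw [proj]
    rw [Matrix.smul_mul, Finset.sum_mul]
    rfl
  rw [h1]
  have h2 : ∀ l ∈ Finset.range p, (lam⁻¹ ^ l • M ^ l) * proj M p lam = proj M p lam := by
    intro l _
    rw [Matrix.smul_mul, hpow l, smul_smul, inv_pow, inv_mul_cancel₀ (pow_ne_zero l hl0),
      one_smul]
  rw [Finset.sum_congr rfl h2, Finset.sum_const, Finset.card_range, ← Nat.cast_smul_eq_nsmul ℂ,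
    smul_smul, inv_mul_cancel₀ (Nat.cast_ne_zero.mpr hp.ne'), one_smul]

/-- An idempotent complex matrix of trace zero is zero. -/
theorem mu1_idem_trace_zero {n : ℕ} (P : Matrix (Fin n) (Fin n) ℂ) (hP : P * P = P)
    (ht : P.trace = 0) : P = 0 := by
  have hi : IsIdempotentElem (Matrix.toLin' P) := by
    unfold IsIdempotentElem
    rw [Module.End.mul_eq_comp, ← Matrix.toLin'_mul, hP]
  have h0 : LinearMap.trace ℂ (Fin n → ℂ) (Matrix.toLin' P) = 0 := by
    rw [Matrix.trace_toLin'_eq]; exact ht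
  have h1 := LinearMap.IsIdempotentElem.eq_zero_of_trace_eq_zero hi h0
  have h2 : Matrix.toLin' P = Matrix.toLin' (0 : Matrix (Fin n) (Fin n) ℂ) := by
    rw [h1, map_zero]
  exact Matrix.toLin'.injective h2

theorem mu1_repMat_pow {G : Type u} [Group G] {n : ℕ}
    (ρ : Representation ℂ G (Fin n → ℂ)) (x : G) (l : ℕ) :
    repMat ρ (x ^ l) = repMat ρ x ^ l := by
  induction l with
  | zero => rw [pow_zero, pow_zero, repMat_one]
  | succ l ih => rw [pow_succ, pow_succ, repMat_mul, ih]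

/-- MU1 (eigenvalue multiplicities) -/
theorem exists_mult {G : Type u} [Group G] [Finite G] {n : ℕ}
    (ρ : Representation ℂ G (Fin n → ℂ)) (p : ℕ) (hp : p.Prime) (x : G) (hx : x ^ p = 1) :
    ∃ c : ℂ → ℕ,
      (∀ lam : ℂ, lam ^ p = 1 → c lam = 0 → proj (repMat ρ x) p lam = 0) ∧
      (∀ l : ℕ, ρ.character (x ^ l) =
        ∑ lam ∈ Polynomial.nthRootsFinset p (1 : ℂ), (c lam : ℂ) * lam ^ l) := by
  classical
  obtain ⟨S, m, hS, hm, hsum, -⟩ := character_pow_eq_sum ρ x p hp.ne_zero hx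
  have hpc : (p : ℂ) ≠ 0 := Nat.cast_ne_zero.mpr hp.ne_zero
  refine ⟨fun lam => if lam ∈ S then m lam else 0, ?_, ?_⟩
  · intro lam hl hc
    have hlS : lam ∉ S := by
      intro h
      simp only [if_pos h] at hc
      exact (hm lam h).ne' hc
    have hl0 : lam ≠ 0 := by
      intro h
      rw [h, zero_pow hp.ne_zero] at hl
      exact zero_ne_one hl
    have hMp : repMat ρ x ^ p = 1 := by
      rw [← mu1_repMat_pow, hx, repMat_one]
    apply mu1_idem_trace_zero _ (mu1_proj_idem _ p hp.pos hMp lam hl)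
    unfold proj
    rw [Matrix.trace_smul, Matrix.trace_sum]
    have h1 : ∀ l ∈ Finset.range p, (lam⁻¹ ^ l • repMat ρ x ^ l).trace =
        ∑ μ ∈ S, (m μ : ℂ) * (μ * lam⁻¹) ^ l := by
      intro l _
      rw [Matrix.trace_smul, ← mu1_repMat_pow, ← character_eq_trace, hsum l, smul_eq_mul,
        Finset.mul_sum]
      apply Finset.sum_congr rfl
      intro μ _
      rw [mul_pow]; ring
    rw [Finset.sum_congr rfl h1, Finset.sum_comm]
    have h2 : ∀ μ ∈ S, ∑ l ∈ Finset.range p, (m μ : ℂ) * (μ * lam⁻¹) ^ l = 0 := by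
      intro μ hμ
      rw [← Finset.mul_sum]
      have hne : μ * lam⁻¹ ≠ 1 := by
        intro h
        apply hlS
        have : μ = lam := by
          field_simp at h
          exact h
        rw [← this]; exact hμ
      have hg := mul_geom_sum (μ * lam⁻¹) p
      have hpow : (μ * lam⁻¹) ^ p = 1 := by
        rw [mul_pow, hS μ hμ, inv_pow, hl, inv_one, mul_one]
      rw [hpow, sub_self] at hg
      rcases mul_eq_zero.mp hg with h | h
      · exact absurd (sub_eq_zero.mp h) hne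
      · rw [h, mul_zero]
    rw [Finset.sum_congr rfl h2, Finset.sum_const_zero, smul_zero]
  · intro l
    rw [hsum l]
    have hsub : S ⊆ Polynomial.nthRootsFinset p (1 : ℂ) := by
      intro μ hμ
      rw [Polynomial.mem_nthRootsFinset hp.pos]
      exact hS μ hμ
    rw [← Finset.sum_subset hsub]
    · apply Finset.sum_congr rfl
      intro μ hμ
      simp only [if_pos hμ]
    · intro μ _ hμ
      simp only [if_neg hμ, Nat.cast_zero, zero_mul]

end Cfsg.Agent.Lib.helper56.S4484
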