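import Mathlib

/-!
# S4484 pieces SY, CJ, AR, NC (helper56) — exact statements of tools/S4484_Skel.lean.txt
-/

set_option autoImplicit false

namespace Cfsg.Agent.Lib.helper56.S4484

universe u

/-- CJ -/
theorem centralizer_index_conj {G : Type u} [Group G] (x u : G) :
    (Subgroup.centralizer ({u * x * u⁻¹} : Set G)).index =
      (Subgroup.centralizer ({x} : Set G)).index := by
  have h : Subgroup.centralizer ({u * x * u⁻¹} : Set G) =
      (Subgroup.centralizer ({x} : Set G)).map (MulAut.conj u).toMonoidHom := by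
    ext g
    simp only [Subgroup.mem_centralizer_iff, Set.mem_singleton_iff, forall_eq, Subgroup.mem_map,
      MulEquiv.coe_toMonoidHom, MulAut.conj_apply]
    constructor
    · intro hg
      refine ⟨u⁻¹ * g * u, ?_, by group⟩
      have h1 : u⁻¹ * (u * x * u⁻¹ * g) * u = u⁻¹ * (g * (u * x * u⁻¹)) * u := by rw [hg]
      calc x * (u⁻¹ * g * u) = u⁻¹ * (u * x * u⁻¹ * g) * u := by group
        _ = u⁻¹ * (g * (u * x * u⁻¹)) * u := h1
        _ = u⁻¹ * g * u * x := by group
    · rintro ⟨y, hy, rfl⟩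
      calc u * x * u⁻¹ * (u * y * u⁻¹) = u * (x * y) * u⁻¹ := by group
        _ = u * (y * x) * u⁻¹ := by rw [hy]
        _ = u * y * u⁻¹ * (u * x * u⁻¹) := by group
  rw [h]
  exact Subgroup.index_map_equiv _ (MulAut.conj u)

/-- AR -/
theorem gcd_dvd_g0 (p q a b g₀ d K : ℕ) (hp : p.Prime) (hq : q.Prime)
    (hd : d ∣ p ^ a * q ^ b * g₀) (hK : K ∣ p ^ a * q ^ b * g₀) (hqd : ¬ q ∣ d)
    (hpK : ¬ p ∣ K) : Nat.gcd d K ∣ g₀ := by
  have h1 : Nat.gcd d K ∣ p ^ a * q ^ b * g₀ := (Nat.gcd_dvd_left d K).trans hd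
  have hcq : Nat.Coprime (Nat.gcd d K) q := by
    rw [Nat.coprime_comm, Nat.Prime.coprime_iff_not_dvd hq]
    intro h
    exact hqd (h.trans (Nat.gcd_dvd_left d K))
  have hcp : Nat.Coprime (Nat.gcd d K) p := by
    rw [Nat.coprime_comm, Nat.Prime.coprime_iff_not_dvd hp]
    intro h
    exact hpK (h.trans (Nat.gcd_dvd_right d K))
  have hc : Nat.Coprime (Nat.gcd d K) (p ^ a * q ^ b) :=
    Nat.Coprime.mul_right (Nat.Coprime.pow_right a hcp) (Nat.Coprime.pow_right b hcq)
  exact hc.dvd_of_dvd_mul_left h1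

/-- SY -/
theorem exists_central_p_elt {G : Type u} [Group G] [Finite G] (p : ℕ) (hp : p.Prime)
    (hpG : p ∣ Nat.card G) :
    ∃ x : G, orderOf x = p ∧ ¬ p ∣ (Subgroup.centralizer ({x} : Set G)).index := by
  haveI : Fact p.Prime := ⟨hp⟩
  obtain ⟨P⟩ : Nonempty (Sylow p G) := inferInstance
  have hP1 : (P : Subgroup G) ≠ ⊥ := by
    intro h
    have hc : Nat.card (P : Subgroup G) = 1 := by rw [h]; exact Subgroup.card_bot
    have hnd : ¬ p ∣ (P : Subgroup G).index := P.not_dvd_index
    have hmul := Subgroup.card_mul_index (P : Subgroup G)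
    rw [hc, one_mul] at hmul
    rw [hmul] at hnd
    exact hnd hpG
  haveI : Nontrivial (P : Subgroup G) := (Subgroup.nontrivial_iff_ne_bot _).mpr hP1
  have hPp : IsPGroup p (P : Subgroup G) := P.isPGroup'
  haveI := hPp.center_nontrivial
  -- the center of P has order divisible by p
  have hZp : IsPGroup p (Subgroup.center (P : Subgroup G)) := hPp.to_subgroup _
  obtain ⟨n, hn⟩ := IsPGroup.iff_card.mp hZp
  have hn0 : n ≠ 0 := by
    intro h0
    rw [h0, pow_zero] at hn
    have := (Subgroup.center (P : Subgroup G)).eq_bot_of_card_eq hn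
    exact (Subgroup.nontrivial_iff_ne_bot _).mp ‹_› this
  have hpZ : p ∣ Nat.card (Subgroup.center (P : Subgroup G)) := by
    rw [hn]; exact dvd_pow_self p hn0
  obtain ⟨z, hz⟩ := exists_prime_orderOf_dvd_card' p hpZ
  refine ⟨((z : (P : Subgroup G)) : G), ?_, ?_⟩
  · rw [Subgroup.orderOf_coe, Subgroup.orderOf_coe]; exact hz
  · have hle : (P : Subgroup G) ≤ Subgroup.centralizer ({((z : (P : Subgroup G)) : G)} : Set G) := by
      intro g hg
      rw [Subgroup.mem_centralizer_iff]
      intro y hy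
      rw [Set.mem_singleton_iff] at hy
      subst hy
      have hzc := z.2
      rw [Subgroup.mem_center_iff] at hzc
      have := hzc ⟨g, hg⟩
      have h2 := congrArg (Subtype.val) this
      simpa using h2.symm
    intro hdvd
    exact P.not_dvd_index (hdvd.trans (Subgroup.index_dvd_of_le hle))

/-- NC -/
theorem comm_of_comm_conj {G : Type u} [Group G] [IsSimpleGroup G] (x : G) (hx : x ≠ 1)
    (h : ∀ u : G, x * (u * x * u⁻¹) = (u * x * u⁻¹) * x) : ∀ a b : G, a * b = b * a := by
  -- the normal closure of x is everything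
  have hN : Subgroup.normalClosure ({x} : Set G) = ⊤ := by
    rcases (Subgroup.normalClosure_normal (s := ({x} : Set G))).eq_bot_or_eq_top with hb | ht
    · exfalso
      have : x ∈ Subgroup.normalClosure ({x} : Set G) :=
        Subgroup.subset_normalClosure (Set.mem_singleton x)
      rw [hb, Subgroup.mem_bot] at this
      exact hx this
    · exact ht
  -- conjugates of x commute pairwise
  have hcomm : ∀ a ∈ Group.conjugatesOfSet ({x} : Set G), ∀ b ∈ Group.conjugatesOfSet ({x} : Set G),
      a * b = b * a := by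
    intro a ha b hb
    rw [Group.mem_conjugatesOfSet_iff] at ha hb
    obtain ⟨x1, hx1, hca⟩ := ha
    obtain ⟨x2, hx2, hcb⟩ := hb
    rw [Set.mem_singleton_iff] at hx1 hx2
    rw [hx1] at hca
    rw [hx2] at hcb
    rw [isConj_iff] at hca hcb
    obtain ⟨u, rfl⟩ := hca
    obtain ⟨v, rfl⟩ := hcb
    have h1 := h (u⁻¹ * v)
    calc u * x * u⁻¹ * (v * x * v⁻¹) = u * (x * (u⁻¹ * v * x * (u⁻¹ * v)⁻¹)) * u⁻¹ := by group
      _ = u * ((u⁻¹ * v * x * (u⁻¹ * v)⁻¹) * x) * u⁻¹ := by rw [h1]
      _ = v * x * v⁻¹ * (u * x * u⁻¹) := by group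
  have hle : Subgroup.normalClosure ({x} : Set G) ≤
      Subgroup.centralizer (Group.conjugatesOfSet ({x} : Set G)) := by
    unfold Subgroup.normalClosure
    rw [Subgroup.closure_le]
    intro a ha
    rw [SetLike.mem_coe, Subgroup.mem_centralizer_iff]
    intro b hb
    exact hcomm b hb a ha
  have hle2 : Subgroup.normalClosure ({x} : Set G) ≤
      Subgroup.centralizer (Subgroup.normalClosure ({x} : Set G) : Set G) := by
    intro a ha
    have ha' := hle ha
    rw [Subgroup.mem_centralizer_iff]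
    have : Subgroup.normalClosure ({x} : Set G) ≤ Subgroup.centralizer ({a} : Set G) := by
      unfold Subgroup.normalClosure
      rw [Subgroup.closure_le]
      intro b hb
      rw [SetLike.mem_coe, Subgroup.mem_centralizer_iff]
      intro c hc
      rw [Set.mem_singleton_iff] at hc
      subst hc
      rw [Subgroup.mem_centralizer_iff] at ha'
      exact (ha' b hb).symm
    intro b hb
    have hb' := this hb
    rw [Subgroup.mem_centralizer_iff] at hb'
    exact (hb' a (Set.mem_singleton a)).symm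
  intro a b
  have ha : a ∈ Subgroup.normalClosure ({x} : Set G) := by rw [hN]; exact Subgroup.mem_top a
  have hb : b ∈ Subgroup.normalClosure ({x} : Set G) := by rw [hN]; exact Subgroup.mem_top b
  have := hle2 ha
  rw [Subgroup.mem_centralizer_iff] at this
  exact (this b hb).symm

end Cfsg.Agent.Lib.helper56.S4484
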