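import Mathlib
import Cfsg.Prelude.Def_SylowChains
import Cfsg.Agent.Lib.helper53.Conj

set_option autoImplicit false

namespace Cfsg.Agent.Lib.helper56

open scoped Pointwise

variable {G : Type*} [Group G]

/-- Adjacency of Sylow `p`-subgroups: distinct, with nontrivial intersection. -/
def SylAdj (p : ℕ) (A B : Sylow p G) : Prop :=
  A ≠ B ∧ (A : Subgroup G) ⊓ (B : Subgroup G) ≠ ⊥

theorem sylAdj_symm {p : ℕ} {A B : Sylow p G} (h : SylAdj p A B) : SylAdj p B A :=
  ⟨h.1.symm, by rw [inf_comm]; exact h.2⟩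

theorem sylConn_symm {p : ℕ} {A B : Sylow p G} (h : Relation.ReflTransGen (SylAdj p) A B) :
    Relation.ReflTransGen (SylAdj p) B A := by
  induction h with
  | refl => exact Relation.ReflTransGen.refl
  | tail _ hbc ih => exact Relation.ReflTransGen.head (sylAdj_symm hbc) ih

theorem exists_chain_of_reflTransGen {p : ℕ} {S T : Sylow p G}
    (h : Relation.ReflTransGen (SylAdj p) S T) :
    ∃ (n : ℕ) (c : Fin (n + 1) → Sylow p G), c 0 = S ∧ c (Fin.last n) = T ∧
      ∀ i : Fin n, SylAdj p (c i.castSucc) (c i.succ) := by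
  induction h using Relation.ReflTransGen.head_induction_on with
  | refl => exact ⟨0, fun _ => T, rfl, rfl, fun i => i.elim0⟩
  | @head a b hab _ ih =>
    obtain ⟨n, c, h0, hl, hadj⟩ := ih
    refine ⟨n + 1, Fin.cons a c, ?_, ?_, ?_⟩
    · rfl
    · rw [← Fin.succ_last, Fin.cons_succ]; exact hl
    · intro i
      refine Fin.cases ?_ (fun j => ?_) i
      · rw [Fin.castSucc_zero, Fin.cons_zero, Fin.cons_succ, h0]; exact hab
      · rw [← Fin.succ_castSucc, Fin.cons_succ, Fin.cons_succ]; exact hadj j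

theorem reflTransGen_of_chain {p : ℕ} {n : ℕ} (c : Fin (n + 1) → Sylow p G)
    (hadj : ∀ i : Fin n, SylAdj p (c i.castSucc) (c i.succ)) (i : Fin (n + 1)) :
    Relation.ReflTransGen (SylAdj p) (c 0) (c i) := by
  induction i using Fin.induction with
  | zero => exact Relation.ReflTransGen.refl
  | succ i ih => exact ih.tail (hadj i)

/-- Chain-connectedness is connectedness of the intersection graph on Sylow `p`-subgroups. -/
theorem isSylowChainConnected_iff {p : ℕ} :
    Cfsg.IsSylowChainConnected p G ↔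
      ∀ S T : Sylow p G, Relation.ReflTransGen (SylAdj p) S T := by
  constructor
  · intro h S T
    obtain ⟨n, c, h0, hl, -, hadj⟩ := h S T
    have h1 := reflTransGen_of_chain c hadj (Fin.last n)
    rwa [h0, hl] at h1
  · intro h S T
    by_cases hST : S = T
    · subst hST
      exact ⟨0, fun _ => S, rfl, rfl, fun _ => inf_le_left, fun i => i.elim0⟩
    by_cases hbot : (S : Subgroup G) ⊓ (T : Subgroup G) = ⊥
    · obtain ⟨n, c, h0, hl, hadj⟩ := exists_chain_of_reflTransGen (h S T)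
      exact ⟨n, c, h0, hl, fun i => by rw [hbot]; exact bot_le, hadj⟩
    · refine ⟨1, ![S, T], rfl, rfl, ?_, ?_⟩
      · intro i
        fin_cases i
        · exact inf_le_left
        · exact inf_le_right
      · intro i
        fin_cases i
        exact ⟨hST, hbot⟩

theorem mem_smul_sylow_iff {p : ℕ} (g x : G) (P : Sylow p G) :
    x ∈ (g • P : Sylow p G) ↔ g⁻¹ * x * g ∈ P := by
  rw [Sylow.smul_def]
  show x ∈ MulAut.conj g • (P : Subgroup G) ↔ _
  rw [Subgroup.mem_pointwise_smul_iff_inv_smul_mem]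
  simp only [MulAut.smul_def, MulAut.conj_inv_apply]
  exact Iff.rfl

theorem sylAdj_smul {p : ℕ} (g : G) {A B : Sylow p G} (h : SylAdj p A B) :
    SylAdj p (g • A) (g • B) := by
  refine ⟨(MulAction.injective g).ne h.1, ?_⟩
  obtain ⟨⟨x, hx⟩, hx1⟩ := (Subgroup.ne_bot_iff_exists_ne_one).mp h.2
  have hx1' : x ≠ 1 := fun h => hx1 (Subtype.ext h)
  intro hbot
  have h3 : g⁻¹ * (g * x * g⁻¹) * g = x := by group
  have h2 : g * x * g⁻¹ ∈
      ((g • A : Sylow p G) : Subgroup G) ⊓ ((g • B : Sylow p G) : Subgroup G) := by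
    refine ⟨(mem_smul_sylow_iff g _ A).mpr ?_, (mem_smul_sylow_iff g _ B).mpr ?_⟩
    · rw [h3]; exact hx.1
    · rw [h3]; exact hx.2
  rw [hbot, Subgroup.mem_bot] at h2
  apply hx1'
  rw [← h3, h2]; group

theorem sylConn_smul {p : ℕ} (g : G) {A B : Sylow p G}
    (h : Relation.ReflTransGen (SylAdj p) A B) :
    Relation.ReflTransGen (SylAdj p) (g • A) (g • B) := by
  induction h with
  | refl => exact Relation.ReflTransGen.refl
  | tail _ hbc ih => exact ih.tail (sylAdj_smul g hbc)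

/-- Classical strongly `p`-embedded: normalizers of nontrivial `p`-subgroups of `H` lie in `H`. -/
theorem cse_normalizer_le [Finite G] {p : ℕ} [Fact p.Prime] (H : Subgroup G)
    (hse : ∀ g : G, g ∉ H → ¬ p ∣ Nat.card ↥(H ⊓ H.map (MulAut.conj g).toMonoidHom))
    (X : Subgroup G) (hXH : X ≤ H) (hXp : IsPGroup p X) (hX1 : X ≠ ⊥) :
    Subgroup.normalizer (X : Set G) ≤ H := by
  intro g hg
  by_contra hgH
  apply hse g hgH
  have h1 : X ≤ H ⊓ H.map (MulAut.conj g).toMonoidHom := by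
    refine le_inf hXH ?_
    intro x hx
    have h2 : g⁻¹ * x * g ∈ X := (Subgroup.mem_normalizer_iff''.mp hg x).mp hx
    refine ⟨g⁻¹ * x * g, hXH h2, ?_⟩
    show g * (g⁻¹ * x * g) * g⁻¹ = x
    group
  have h3 : p ∣ Nat.card X := by
    rcases hXp.card_eq_or_dvd with h | h
    · exact absurd (Subgroup.card_eq_one.mp h) hX1
    · exact h
  exact h3.trans (Subgroup.card_dvd_of_le h1)

/-- Classical strongly `p`-embedded: `H` contains a (nontrivial) Sylow `p`-subgroup of `G`. -/
theorem cse_exists_sylow [Finite G] {p : ℕ} [Fact p.Prime] (H : Subgroup G)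
    (hpH : p ∣ Nat.card H)
    (hse : ∀ g : G, g ∉ H → ¬ p ∣ Nat.card ↥(H ⊓ H.map (MulAut.conj g).toMonoidHom)) :
    ∃ S : Sylow p G, (S : Subgroup G) ≤ H ∧ (S : Subgroup G) ≠ ⊥ := by
  classical
  obtain ⟨S₀'⟩ : Nonempty (Sylow p ↥H) := inferInstance
  set S₀ : Subgroup G := (S₀' : Subgroup ↥H).map H.subtype with hS₀
  have hS₀H : S₀ ≤ H := by rintro _ ⟨y, -, rfl⟩; exact y.2
  have hS₀p : IsPGroup p S₀ := S₀'.2.map _
  have hS₀1 : S₀ ≠ ⊥ := by
    intro h
    have h1 : (S₀' : Subgroup ↥H) = ⊥ :=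
      (Subgroup.map_eq_bot_iff_of_injective _ H.subtype_injective).mp h
    exact (S₀'.ne_bot_of_dvd_card hpH) h1
  obtain ⟨S, hS⟩ := hS₀p.exists_le_sylow
  have hSS₀ : (S : Subgroup G) = S₀ := by
    by_contra hne
    have hlt : S₀ < (S : Subgroup G) := lt_of_le_of_ne hS (Ne.symm hne)
    obtain ⟨y, hyS, hyS₀, hyN⟩ := Lib.helper53.exists_mem_normalizer_not_mem S.2 hlt
    have hyH : y ∈ H := cse_normalizer_le H hse S₀ hS₀H hS₀p hS₀1 hyN
    have hT : IsPGroup p ((S₀ ⊔ Subgroup.zpowers y : Subgroup G)) :=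
      S.2.to_le (sup_le hS (by rw [Subgroup.zpowers_le]; exact hyS))
    have hT' : IsPGroup p ((S₀ ⊔ Subgroup.zpowers y : Subgroup G).subgroupOf H) :=
      hT.comap_subtype
    have hle : (S₀' : Subgroup ↥H) ≤ (S₀ ⊔ Subgroup.zpowers y : Subgroup G).subgroupOf H := by
      intro z hz
      rw [Subgroup.mem_subgroupOf]
      exact (le_sup_left : S₀ ≤ S₀ ⊔ Subgroup.zpowers y) ⟨z, hz, rfl⟩
    have heq := S₀'.3 hT' hle
    apply hyS₀
    have hy' : (⟨y, hyH⟩ : ↥H) ∈ (S₀ ⊔ Subgroup.zpowers y : Subgroup G).subgroupOf H := by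
      rw [Subgroup.mem_subgroupOf]
      exact (le_sup_right : Subgroup.zpowers y ≤ S₀ ⊔ Subgroup.zpowers y)
        (Subgroup.mem_zpowers y)
    rw [heq] at hy'
    exact ⟨⟨y, hyH⟩, hy', rfl⟩
  exact ⟨S, hSS₀ ▸ hS₀H, hSS₀ ▸ hS₀1⟩

/-- If the Sylow `p`-subgroups are not chain-connected, there is a strongly `p`-embedded subgroup
(classical form). -/
theorem exists_cse_of_not_chainConnected [Finite G] {p : ℕ} [Fact p.Prime]
    (h : ¬ Cfsg.IsSylowChainConnected p G) :
    ∃ H : Subgroup G, H ≠ ⊤ ∧ p ∣ Nat.card H ∧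
      ∀ g : G, g ∉ H → ¬ p ∣ Nat.card ↥(H ⊓ H.map (MulAut.conj g).toMonoidHom) := by
  classical
  rw [isSylowChainConnected_iff] at h
  push Not at h
  obtain ⟨S, T, hST⟩ := h
  let H : Subgroup G :=
    { carrier := {g | Relation.ReflTransGen (SylAdj p) S (g • S)}
      one_mem' := by
        show Relation.ReflTransGen (SylAdj p) S ((1 : G) • S)
        rw [one_smul]
      mul_mem' := by
        intro a b ha hb
        show Relation.ReflTransGen (SylAdj p) S ((a * b) • S)
        rw [mul_smul]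
        exact Relation.ReflTransGen.trans ha (sylConn_smul a hb)
      inv_mem' := by
        intro a ha
        show Relation.ReflTransGen (SylAdj p) S (a⁻¹ • S)
        have h1 := sylConn_smul a⁻¹ ha
        rw [inv_smul_smul] at h1
        exact sylConn_symm h1 }
  have hmemH : ∀ g, g ∈ H ↔ Relation.ReflTransGen (SylAdj p) S (g • S) := fun g => Iff.rfl
  have hSH : (S : Subgroup G) ≤ H := by
    intro s hs
    rw [hmemH, Sylow.smul_eq_iff_mem_normalizer.mpr (Subgroup.le_normalizer hs)]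
  have hS1 : (S : Subgroup G) ≠ ⊥ := by
    intro hS
    apply hST
    have h1 : (T : Subgroup G) = ⊥ := by
      rw [← Subgroup.card_eq_one, Sylow.card_eq_multiplicity, ← Sylow.card_eq_multiplicity S,
        Subgroup.card_eq_one]
      exact hS
    have h2 : S = T := Sylow.ext (by rw [hS, h1])
    rw [h2]
  refine ⟨H, ?_, ?_, ?_⟩
  · intro hH
    obtain ⟨g, hg⟩ := MulAction.exists_smul_eq G S T
    apply hST
    rw [← hg, ← hmemH, hH]
    trivial
  · have h1 : p ∣ Nat.card (S : Subgroup G) := by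
      rcases S.2.card_eq_or_dvd with h | h
      · exact absurd (Subgroup.card_eq_one.mp h) hS1
      · exact h
    exact h1.trans (Subgroup.card_dvd_of_le hSH)
  · intro g hg hdvd
    obtain ⟨⟨x, hx⟩, hxo⟩ := exists_prime_orderOf_dvd_card' p hdvd
    rw [Subgroup.orderOf_mk] at hxo
    have key : ∀ y ∈ H, orderOf y = p → ∃ h ∈ H, y ∈ (h • S : Sylow p G) := by
      intro y hy hyo
      have hzp : IsPGroup p (Subgroup.zpowers (⟨y, hy⟩ : ↥H)) := by
        apply IsPGroup.of_card (n := 1)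
        rw [Nat.card_zpowers, pow_one, Subgroup.orderOf_mk]; exact hyo
      obtain ⟨h, hh⟩ := Lib.helper53.exists_le_conj_sylow hzp (S.subtype hSH)
      refine ⟨(h : G), h.2, ?_⟩
      rw [mem_smul_sylow_iff]
      have h1 := hh (Subgroup.mem_zpowers _)
      rw [Lib.helper53.mem_conj_iff] at h1
      have h2 : h⁻¹ * (⟨y, hy⟩ : ↥H) * h ∈ (S : Subgroup G).subgroupOf H := h1
      exact Subgroup.mem_subgroupOf.mp h2
    have hxH : x ∈ H := hx.1
    have hxg : x ∈ H.map (MulAut.conj g).toMonoidHom := hx.2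
    rw [Lib.helper53.mem_conj_iff] at hxg
    obtain ⟨h₁, hh₁, hx₁⟩ := key x hxH hxo
    have hxo' : orderOf (g⁻¹ * x * g) = p := by
      have h1 := MulEquiv.orderOf_eq (MulAut.conj g⁻¹) x
      rw [MulAut.conj_apply, inv_inv] at h1
      rw [h1]; exact hxo
    obtain ⟨h₂, hh₂, hx₂⟩ := key (g⁻¹ * x * g) hxg hxo'
    have hx₂' : x ∈ ((g * h₂) • S : Sylow p G) := by
      rw [mem_smul_sylow_iff] at hx₂ ⊢
      have h1 : (g * h₂)⁻¹ * x * (g * h₂) = h₂⁻¹ * (g⁻¹ * x * g) * h₂ := by group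
      rw [h1]; exact hx₂
    have hx1 : x ≠ 1 := by
      intro h1
      rw [h1, orderOf_one] at hxo
      exact (Fact.out : p.Prime).one_lt.ne hxo
    have hconn : Relation.ReflTransGen (SylAdj p) (h₁ • S) ((g * h₂) • S) := by
      by_cases he : h₁ • S = (g * h₂) • S
      · rw [he]
      · apply Relation.ReflTransGen.single
        refine ⟨he, ?_⟩
        intro hbot
        have h1 : x ∈ ((h₁ • S : Sylow p G) : Subgroup G) ⊓ (((g * h₂) • S : Sylow p G) : Subgroup G) :=
          ⟨hx₁, hx₂'⟩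
        rw [hbot, Subgroup.mem_bot] at h1
        exact hx1 h1
    have h3 : g * h₂ ∈ H := (hmemH _).mpr (Relation.ReflTransGen.trans ((hmemH _).mp hh₁) hconn)
    have h4 : g = (g * h₂) * h₂⁻¹ := by group
    apply hg
    rw [h4]
    exact H.mul_mem h3 (H.inv_mem hh₂)

/-- A strongly `p`-embedded subgroup (classical form) disconnects the Sylow graph. -/
theorem not_chainConnected_of_cse [Finite G] {p : ℕ} [Fact p.Prime] (H : Subgroup G)
    (hH : H ≠ ⊤) (hpH : p ∣ Nat.card H)
    (hse : ∀ g : G, g ∉ H → ¬ p ∣ Nat.card ↥(H ⊓ H.map (MulAut.conj g).toMonoidHom)) :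
    ¬ Cfsg.IsSylowChainConnected p G := by
  classical
  rw [isSylowChainConnected_iff]
  intro hconn
  obtain ⟨S, hSH, hS1⟩ := cse_exists_sylow H hpH hse
  have hadj : ∀ P P' : Sylow p G, (P : Subgroup G) ≤ H → SylAdj p P P' →
      (P' : Subgroup G) ≤ H := by
    rintro P P' hP ⟨-, hne⟩
    by_contra hP'
    have hDlt : (P' : Subgroup G) ⊓ H < (P' : Subgroup G) :=
      lt_of_le_of_ne inf_le_left (fun h => hP' (h ▸ inf_le_right))
    have hDp : IsPGroup p ((P' : Subgroup G) ⊓ H : Subgroup G) := P'.2.to_le inf_le_left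
    have hD1 : (P' : Subgroup G) ⊓ H ≠ ⊥ := by
      intro h
      apply hne
      rw [eq_bot_iff, ← h]
      exact le_inf inf_le_right (inf_le_left.trans hP)
    obtain ⟨y, hyP', hyD, hyN⟩ := Lib.helper53.exists_mem_normalizer_not_mem P'.2 hDlt
    exact hyD ⟨hyP', cse_normalizer_le H hse _ inf_le_right hDp hD1 hyN⟩
  have hall : ∀ T : Sylow p G, Relation.ReflTransGen (SylAdj p) S T →
      (T : Subgroup G) ≤ H := by
    intro T hT
    induction hT with
    | refl => exact hSH
    | tail _ hbc ih => exact hadj _ _ ih hbc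
  obtain ⟨g, hg⟩ : ∃ g, g ∉ H := by
    by_contra hcon
    push Not at hcon
    exact hH (eq_top_iff.mpr fun x _ => hcon x)
  apply hse g hg
  have h1 := hall (g • S) (hconn S (g • S))
  have h2 : ((g • S : Sylow p G) : Subgroup G) ≤ H ⊓ H.map (MulAut.conj g).toMonoidHom := by
    refine le_inf h1 ?_
    intro x hx
    have hx' : g⁻¹ * x * g ∈ S := (mem_smul_sylow_iff g x S).mp hx
    exact ⟨g⁻¹ * x * g, hSH hx', by show g * (g⁻¹ * x * g) * g⁻¹ = x; group⟩
  have h3 : p ∣ Nat.card ((g • S : Sylow p G) : Subgroup G) := by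
    rw [Sylow.card_eq_multiplicity, ← Sylow.card_eq_multiplicity S]
    rcases S.2.card_eq_or_dvd with h | h
    · exact absurd (Subgroup.card_eq_one.mp h) hS1
    · exact h
  exact h3.trans (Subgroup.card_dvd_of_le h2)

theorem relIndex_dvd_index_of_normal_right [Finite G] (S N : Subgroup G)
    [N.Normal] : S.relIndex N ∣ S.index := by
  have h1 := Subgroup.relIndex_mul_relIndex (S ⊓ N) S (S ⊔ N) inf_le_left le_sup_left
  have h2 := Subgroup.relIndex_mul_relIndex (S ⊓ N) N (S ⊔ N) inf_le_right le_sup_right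
  rw [Subgroup.inf_relIndex_left] at h1
  rw [Subgroup.inf_relIndex_right, Subgroup.relIndex_sup_right] at h2
  have h3 : S.relIndex (S ⊔ N) = S.relIndex N := by
    have h4 : N.relIndex S * S.relIndex (S ⊔ N) = N.relIndex S * S.relIndex N := by
      rw [h1, ← h2, mul_comm]
    have h5 : N.relIndex S ≠ 0 := Subgroup.index_ne_zero_of_finite
    exact Nat.eq_of_mul_eq_mul_left (Nat.pos_of_ne_zero h5) h4
  rw [← h3]
  exact Subgroup.relIndex_dvd_index_of_le le_sup_left

/-- For a Sylow `p`-subgroup `S` and a normal subgroup `N`, `S ∩ N` is a Sylow `p`-subgroup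
of `N`. -/
theorem exists_sylow_normal_coe [Finite G] {p : ℕ} [Fact p.Prime] (S : Sylow p G)
    (N : Subgroup G) [N.Normal] :
    ∃ X' : Sylow p ↥N, (X' : Subgroup ↥N).map N.subtype = (S : Subgroup G) ⊓ N := by
  have hXp' : IsPGroup p ((S : Subgroup G).subgroupOf N) := S.2.comap_subtype
  have hXidx : ¬ p ∣ ((S : Subgroup G).subgroupOf N).index := by
    intro h
    exact S.not_dvd_index (h.trans (relIndex_dvd_index_of_normal_right (S : Subgroup G) N))
  refine ⟨hXp'.toSylow hXidx, ?_⟩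
  rw [IsPGroup.toSylow_coe, Subgroup.subgroupOf_map_subtype]

theorem sylow_inf_normal_ne_bot [Finite G] {p : ℕ} [Fact p.Prime] (S : Sylow p G)
    (N : Subgroup G) [N.Normal] (hN : p ∣ Nat.card N) : (S : Subgroup G) ⊓ N ≠ ⊥ := by
  obtain ⟨X', hX'⟩ := exists_sylow_normal_coe S N
  intro h
  rw [h] at hX'
  have h1 : (X' : Subgroup ↥N) = ⊥ :=
    (Subgroup.map_eq_bot_iff_of_injective _ N.subtype_injective).mp hX'
  exact X'.ne_bot_of_dvd_card hN h1

end Cfsg.Agent.Lib.helper56
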