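import Mathlib
import Cfsg.Agent.Lib.helper56.SylowGraph
import Cfsg.Agent.Lib.helper37.CoprimeGen
import Cfsg.Agent.Lib.helper40.Cores

set_option autoImplicit false

namespace Cfsg.Agent.Lib.helper56

variable {G : Type*} [Group G]

/-- Two commuting elements of order dividing `p` generate an abelian group of exponent `p`. -/
theorem zpowers_sup_props (p : ℕ) (x y : G) (hxy : x * y = y * x)
    (hx : x ^ p = 1) (hy : y ^ p = 1) :
    (∀ a ∈ Subgroup.zpowers x ⊔ Subgroup.zpowers y,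
      ∀ b ∈ Subgroup.zpowers x ⊔ Subgroup.zpowers y, a * b = b * a) ∧
    (∀ a ∈ Subgroup.zpowers x ⊔ Subgroup.zpowers y, a ^ p = 1) := by
  have hcxy : Commute x y := hxy
  have hc : ∀ a ∈ Subgroup.zpowers x, ∀ b ∈ Subgroup.zpowers y, a * b = b * a := by
    rintro _ ⟨i, rfl⟩ _ ⟨j, rfl⟩
    exact (hcxy.zpow_zpow i j).eq
  have hdec : ∀ a ∈ Subgroup.zpowers x ⊔ Subgroup.zpowers y,
      ∃ i j : ℤ, a = x ^ i * y ^ j := by
    intro a ha
    obtain ⟨u, ⟨i, rfl⟩, v, ⟨j, rfl⟩, rfl⟩ :=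
      Lib.helper40.exists_mul_of_mem_sup_of_commute hc ha
    exact ⟨i, j, rfl⟩
  constructor
  · intro a ha b hb
    obtain ⟨i, j, rfl⟩ := hdec a ha
    obtain ⟨i', j', rfl⟩ := hdec b hb
    have c1 : Commute (x ^ i) (x ^ i') := (Commute.refl x).zpow_zpow i i'
    have c2 : Commute (x ^ i) (y ^ j') := hcxy.zpow_zpow i j'
    have c3 : Commute (y ^ j) (x ^ i') := hcxy.symm.zpow_zpow j i'
    have c4 : Commute (y ^ j) (y ^ j') := (Commute.refl y).zpow_zpow j j'
    exact ((c1.mul_right c2).mul_left (c3.mul_right c4)).eq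
  · intro a ha
    obtain ⟨i, j, rfl⟩ := hdec a ha
    have e1 : (x ^ i) ^ p = 1 := by
      rw [← zpow_natCast, ← zpow_mul, mul_comm, zpow_mul, zpow_natCast, hx, one_zpow]
    have e2 : (y ^ j) ^ p = 1 := by
      rw [← zpow_natCast, ← zpow_mul, mul_comm, zpow_mul, zpow_natCast, hy, one_zpow]
    rw [(hcxy.zpow_zpow i j).mul_pow, e1, e2, one_mul]

/-- Let `H` be strongly `p`-embedded (classical form) containing the Sylow `p`-subgroup `S`, and let
`x, y ∈ S` be commuting elements of order `p` with `y ∉ ⟨x⟩`. Then every subgroup of order prime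
to `p` normalized by `x` and `y` lies in `H` (coprime generation). -/
theorem cse_pprime_le [Finite G] {p : ℕ} [Fact p.Prime] (H : Subgroup G)
    (hse : ∀ g : G, g ∉ H → ¬ p ∣ Nat.card ↥(H ⊓ H.map (MulAut.conj g).toMonoidHom))
    (S : Sylow p G) (hSH : (S : Subgroup G) ≤ H) {x y : G} (hxS : x ∈ (S : Subgroup G))
    (hyS : y ∈ (S : Subgroup G)) (hxo : orderOf x = p) (hyo : orderOf y = p)
    (hcomm : x * y = y * x) (hyx : y ∉ Subgroup.zpowers x) (X : Subgroup G)
    (hX : ¬ p ∣ Nat.card X)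
    (hAX : Subgroup.zpowers x ⊔ Subgroup.zpowers y ≤ Subgroup.normalizer (X : Set G)) :
    X ≤ H := by
  obtain ⟨hAc, hAp⟩ := zpowers_sup_props p x y hcomm
    (by rw [← hxo]; exact pow_orderOf_eq_one x) (by rw [← hyo]; exact pow_orderOf_eq_one y)
  have hAS : Subgroup.zpowers x ⊔ Subgroup.zpowers y ≤ (S : Subgroup G) :=
    sup_le (Subgroup.zpowers_le.mpr hxS) (Subgroup.zpowers_le.mpr hyS)
  have hgen := Lib.helper37.coprime_gen_hyperplane p (Subgroup.zpowers x ⊔ Subgroup.zpowers y)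
    X hAc hAp hX hAX
  rw [hgen]
  apply iSup_le
  rintro ⟨B, hBA, hBidx⟩
  have hB1 : B ≠ ⊥ := by
    intro hB
    rw [hB, Subgroup.relIndex_bot_left] at hBidx
    have h1 : Subgroup.zpowers x = Subgroup.zpowers x ⊔ Subgroup.zpowers y :=
      Subgroup.eq_of_le_of_card_ge le_sup_left (by rw [Nat.card_zpowers, hxo]; exact hBidx)
    exact hyx (h1 ▸ (le_sup_right : Subgroup.zpowers y ≤ _) (Subgroup.mem_zpowers y))
  have hBp : IsPGroup p B := S.2.to_le (hBA.trans hAS)
  have hBH : B ≤ H := (hBA.trans hAS).trans hSH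
  exact inf_le_right.trans ((Subgroup.centralizer_le_normalizer _).trans
    (cse_normalizer_le H hse B hBH hBp hB1))

/-- A strongly `p`-embedded subgroup (classical form) contains no normal subgroup of order
divisible by `p`. -/
theorem cse_not_normal_le [Finite G] {p : ℕ} (H : Subgroup G) (hH : H ≠ ⊤)
    (hse : ∀ g : G, g ∉ H → ¬ p ∣ Nat.card ↥(H ⊓ H.map (MulAut.conj g).toMonoidHom))
    (M : Subgroup G) [hMn : M.Normal] (hM : p ∣ Nat.card M) : ¬ M ≤ H := by
  intro hMH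
  obtain ⟨g, hg⟩ : ∃ g, g ∉ H := by
    by_contra hcon
    push Not at hcon
    exact hH (eq_top_iff.mpr fun x _ => hcon x)
  apply hse g hg
  have h1 : M ≤ H ⊓ H.map (MulAut.conj g).toMonoidHom := by
    refine le_inf hMH ?_
    intro m hm
    refine ⟨g⁻¹ * m * g, hMH ?_, ?_⟩
    · have h2 := hMn.conj_mem m hm g⁻¹
      simpa using h2
    · show g * (g⁻¹ * m * g) * g⁻¹ = m
      group
  exact hM.trans (Subgroup.card_dvd_of_le h1)

end Cfsg.Agent.Lib.helper56
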