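import Cfsg.Agent.S3335
import Mathlib

set_option autoImplicit false
open Cfsg Cfsg.Agent.S3335

namespace Cfsg.Agent.Lib.helper70.SM

universe u

/-- key word lemma: if `s` inverts `a`, `s, t` are commuting involutions and `t` inverts `a`
up to a central element, then `t` inverts `a`. -/
theorem helper56_inv_of_central {Γ : Type*} [Group Γ] (a s t : Γ) (ha : a ^ 3 = 1)
    (hst : (s * t) ^ 2 = 1)
    (hsa : s * a * s⁻¹ = a⁻¹)
    (hη : ∀ g : Γ, (a * (t * a * t⁻¹)) * g = g * (a * (t * a * t⁻¹))) :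
    t * a * t⁻¹ = a⁻¹ := by
  set η : Γ := a * (t * a * t⁻¹) with hηdef
  have hb : t * a * t⁻¹ = a⁻¹ * η := by
    rw [hηdef]; group
  -- η ^ 3 = 1
  have hb3 : (t * a * t⁻¹) ^ 3 = 1 := by
    rw [conj_pow, ha]; group
  have hcomm : Commute a⁻¹ η := (hη a⁻¹).symm
  have h3 : η ^ 3 = 1 := by
    have h := hb3
    rw [hb, hcomm.mul_pow, inv_pow, ha, inv_one, one_mul] at h
    exact h
  -- conjugation by w = s * t
  have hw : (s * t) * a * (s * t)⁻¹ = a * η := by
    calc (s * t) * a * (s * t)⁻¹ = s * (t * a * t⁻¹) * s⁻¹ := by group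
      _ = s * (a⁻¹ * η) * s⁻¹ := by rw [hb]
      _ = s * a⁻¹ * (η * s⁻¹) := by group
      _ = s * a⁻¹ * (s⁻¹ * η) := by rw [hη s⁻¹]
      _ = (s * a * s⁻¹)⁻¹ * η := by group
      _ = a * η := by rw [hsa, inv_inv]
  have hw2 : (s * t) * (s * t) = 1 := by rw [← pow_two]; exact hst
  have e1 : (s * t) * (a * η) * (s * t)⁻¹ = a * η * η := by
    calc (s * t) * (a * η) * (s * t)⁻¹ = (s * t) * a * (η * (s * t)⁻¹) := by group
      _ = (s * t) * a * ((s * t)⁻¹ * η) := by rw [hη (s * t)⁻¹]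
      _ = ((s * t) * a * (s * t)⁻¹) * η := by group
      _ = a * η * η := by rw [hw]
  have e2 : (s * t) * ((s * t) * a * (s * t)⁻¹) * (s * t)⁻¹ = a := by
    calc (s * t) * ((s * t) * a * (s * t)⁻¹) * (s * t)⁻¹
        = ((s * t) * (s * t)) * a * ((s * t) * (s * t))⁻¹ := by group
      _ = a := by rw [hw2]; group
  rw [hw, e1] at e2
  have hη2 : η * η = 1 := by
    have : a * (η * η) = a * 1 := by rw [mul_one, ← mul_assoc]; exact e2
    exact mul_left_cancel this
  have hη1 : η = 1 := by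
    have h := h3
    rw [pow_succ, pow_two, hη2, one_mul] at h
    exact h
  rw [hb, hη1, mul_one]

/-- O5 (the relations `(y₀ yⱼ)² = 1`, odd kernel). -/
theorem odd_far_zero {Γ : Type u} [Group Γ] [Finite Γ] (k : ℕ) (hk : k = 2 ∨ 5 ≤ k)
    (π : Γ →* PresentedGroup (rels k))
    (hc : π.ker ≤ Subgroup.center Γ) (hodd : Odd (Nat.card π.ker))
    (y : Fin (k + 1) → Γ) (hy : ∀ i, π (y i) = x k i)
    (h1 : ∀ i : Fin (k + 1), i.val = 0 → y i ^ 3 = 1)
    (h2 : ∀ i : Fin (k + 1), 1 ≤ i.val → y i ^ 2 = 1)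
    (hinv : ∀ i j : Fin (k + 1), i.val = 0 → j.val = 2 → y j * y i * (y j)⁻¹ = (y i)⁻¹)
    (h4 : ∀ i j : Fin (k + 1), 1 ≤ i.val → i.val + 1 < j.val → (y i * y j) ^ 2 = 1) :
    ∀ i j : Fin (k + 1), i.val = 0 → i.val + 1 < j.val → (y i * y j) ^ 2 = 1 := by
  intro i j hi hij
  have ha : y i ^ 3 = 1 := h1 i hi
  -- centrality of the defect
  have hcen : ∀ j : Fin (k + 1), i.val + 1 < j.val →
      ∀ g : Γ, (y i * (y j * y i * (y j)⁻¹)) * g = g * (y i * (y j * y i * (y j)⁻¹)) := by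
    intro j hj g
    have hmem : y i * (y j * y i * (y j)⁻¹) ∈ π.ker := by
      rw [MonoidHom.mem_ker]
      simp only [map_mul, map_inv, hy]
      have hf : (x k i * x k j) ^ 2 = 1 := x_far k i j hj
      have hs : x k j ^ 2 = 1 := x_sq k j (by omega)
      have hjinv : (x k j)⁻¹ = x k j := by
        rw [inv_eq_iff_mul_eq_one, ← pow_two]; exact hs
      rw [hjinv]
      rw [pow_two] at hf
      calc x k i * (x k j * x k i * x k j) = x k i * x k j * (x k i * x k j) := by group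
        _ = 1 := hf
    exact ((Subgroup.mem_center_iff.1 (hc hmem)) g).symm
  -- the inversion for j ≥ 4
  have hA : ∀ j : Fin (k + 1), 4 ≤ j.val → y j * y i * (y j)⁻¹ = (y i)⁻¹ := by
    intro j hj
    have hk4 : 2 < k + 1 := by have := j.isLt; omega
    let i2 : Fin (k + 1) := ⟨2, hk4⟩
    exact helper56_inv_of_central (y i) (y i2) (y j) ha
      (h4 i2 j (by simp [i2]) (by simp [i2]; omega)) (hinv i i2 hi rfl)
      (hcen j (by omega))
  -- the inversion for j = 3
  have hB : ∀ j : Fin (k + 1), j.val = 3 → y j * y i * (y j)⁻¹ = (y i)⁻¹ := by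
    intro j hj
    have hk5 : 5 ≤ k := by
      rcases hk with hk | hk
      · have := j.isLt; omega
      · exact hk
    let i5 : Fin (k + 1) := ⟨5, by omega⟩
    exact helper56_inv_of_central (y i) (y i5) (y j) ha
      (pow_swap (h4 j i5 (by omega) (by simp [i5]; omega))) (hA i5 (by simp [i5]))
      (hcen j (by omega))
  have hfin : y j * y i * (y j)⁻¹ = (y i)⁻¹ := by
    by_cases hj2 : j.val = 2
    · exact hinv i j hi hj2
    · by_cases hj3 : j.val = 3
      · exact hB j hj3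
      · exact hA j (by omega)
  have hj2 : y j * y j = 1 := by rw [← pow_two]; exact h2 j (by omega)
  have hcomm : y j * y i = (y i)⁻¹ * y j := mul_inv_eq_iff_eq_mul.1 hfin
  calc (y i * y j) ^ 2 = y i * (y j * y i) * y j := by rw [pow_two]; group
    _ = y i * ((y i)⁻¹ * y j) * y j := by rw [hcomm]
    _ = y j * y j := by group
    _ = 1 := hj2

end Cfsg.Agent.Lib.helper70.SM
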