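import Cfsg.Agent.S3335
import Mathlib

set_option autoImplicit false
open Cfsg Cfsg.Agent.S3335

namespace Cfsg.Agent.Lib.helper70.SM

universe u

theorem helper56_klein {G : Type*} [Group G] (b c d : G) (hb : b * b = 1) (hc : c * c = 1)
    (hd : d * d = 1) (h : c * d * b = 1) : b * c = c * b := by
  have hb' : b⁻¹ = b := inv_eq_of_mul_eq_one_left hb
  have hc' : c⁻¹ = c := inv_eq_of_mul_eq_one_left hc
  have hd1 : d = c⁻¹ * b⁻¹ := by
    have h' : c * (d * b) = 1 := by rw [← mul_assoc]; exact h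
    have h2 : d * b = c⁻¹ := (inv_eq_of_mul_eq_one_right h').symm
    exact eq_mul_inv_of_mul_eq h2
  rw [hc', hb'] at hd1
  rw [hd1] at hd
  have h3 : (c * b)⁻¹ = c * b := inv_eq_of_mul_eq_one_left hd
  rw [mul_inv_rev, hb', hc'] at h3
  exact h3

/-- W1 (copy): the Klein four group inside `⟨a, b | a³, b², (ab)³⟩`. -/
theorem helper56_a4_comm {G : Type*} [Group G] (a b : G) (ha : a ^ 3 = 1) (hb : b ^ 2 = 1)
    (hab : (a * b) ^ 3 = 1) : b * (a * b * a⁻¹) = (a * b * a⁻¹) * b := by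
  have hb2 : b * b = 1 := by rw [← pow_two]; exact hb
  have hc2 : (a * b * a⁻¹) * (a * b * a⁻¹) = 1 := by
    have : (a * b * a⁻¹) * (a * b * a⁻¹) = a * (b * b) * a⁻¹ := by group
    rw [this, hb2]; group
  have hd2 : (a * (a * b * a⁻¹) * a⁻¹) * (a * (a * b * a⁻¹) * a⁻¹) = 1 := by
    have : (a * (a * b * a⁻¹) * a⁻¹) * (a * (a * b * a⁻¹) * a⁻¹)
        = a * ((a * b * a⁻¹) * (a * b * a⁻¹)) * a⁻¹ := by group
    rw [this, hc2]; group
  have h1 : (a * b * a⁻¹) * (a * (a * b * a⁻¹) * a⁻¹) * b = 1 := by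
    have e3 : (a * b) ^ 3 = a * b * (a * b) * (a * b) := by rw [pow_succ, pow_two]
    have e3' : a ^ 3 = a * a * a := by rw [pow_succ, pow_two]
    rw [e3] at hab
    rw [e3'] at ha
    have : (a * b * a⁻¹) * (a * (a * b * a⁻¹) * a⁻¹) * b
        = (a * b * (a * b) * (a * b)) * (b⁻¹ * (a * a * a)⁻¹ * b) := by group
    rw [this, hab, ha]; group
  exact helper56_klein b (a * b * a⁻¹) (a * (a * b * a⁻¹) * a⁻¹) hb2 hc2 hd2 h1

theorem helper56_comm_of_sq {G : Type*} [Group G] (b c : G) (hb : b * b = 1) (hc : c * c = 1)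
    (h : (b * c) * (b * c) = 1) : b * c = c * b := by
  have hb' : b⁻¹ = b := inv_eq_of_mul_eq_one_left hb
  have hc' : c⁻¹ = c := inv_eq_of_mul_eq_one_left hc
  have h3 : (b * c)⁻¹ = b * c := inv_eq_of_mul_eq_one_left h
  rw [mul_inv_rev, hb', hc'] at h3
  exact h3.symm

theorem helper56_sq_of_comm {G : Type*} [Group G] (b c : G) (hb : b * b = 1) (hc : c * c = 1)
    (h : b * c = c * b) : (b * c) * (b * c) = 1 := by
  calc (b * c) * (b * c) = (b * c) * (c * b) := by rw [← h]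
    _ = b * (c * c) * b := by group
    _ = 1 := by rw [hc, mul_one, hb]

theorem helper56_eq_one_of_sq {Γ : Type*} [Group Γ] (K : Subgroup Γ)
    (hodd : Odd (Nat.card K)) (c : Γ) (hc : c ∈ K) (h : c ^ 2 = 1) : c = 1 := by
  have h1 : orderOf c ∣ 2 := orderOf_dvd_of_pow_eq_one h
  have h2 : orderOf c ∣ Nat.card K := by
    have := orderOf_dvd_natCard (⟨c, hc⟩ : K)
    rwa [Subgroup.orderOf_mk] at this
  have hcop : Nat.Coprime 2 (Nat.card K) := Nat.coprime_two_left.2 hodd
  have h3 : orderOf c = 1 := Nat.eq_one_of_dvd_coprimes hcop h1 h2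
  exact orderOf_eq_one_iff.1 h3

theorem helper56_exists_sqrt {Γ : Type*} [Group Γ] (K : Subgroup Γ)
    (hodd : Odd (Nat.card K)) (c : Γ) (hc : c ∈ K) : ∃ d ∈ K, d ^ 2 = c := by
  obtain ⟨m, hm⟩ := hodd
  have h2 : orderOf c ∣ Nat.card K := by
    have := orderOf_dvd_natCard (⟨c, hc⟩ : K)
    rwa [Subgroup.orderOf_mk] at this
  have h3 : c ^ (Nat.card K) = 1 := orderOf_dvd_iff_pow_eq_one.1 h2
  refine ⟨c ^ (m + 1), Subgroup.pow_mem _ hc _, ?_⟩
  rw [← pow_mul]
  have : (m + 1) * 2 = Nat.card K + 1 := by omega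
  rw [this, pow_succ, h3, one_mul]

theorem helper56_gen_top {Γ : Type*} [Group Γ] (π : Γ →* PresentedGroup (rels 1)) (a u : Γ)
    (i0 i1 : Fin (1 + 1)) (h0 : i0.val = 0) (h1 : i1.val = 1) (ha : π a = x 1 i0)
    (hu : π u = x 1 i1) (M : Subgroup Γ) (haM : a ∈ M) (huM : u ∈ M) (hK : π.ker ≤ M) :
    M = ⊤ := by
  have hmap : Subgroup.map π M = ⊤ := by
    rw [eq_top_iff, ← PresentedGroup.closure_range_of (rels 1), Subgroup.closure_le]
    rintro _ ⟨i, rfl⟩
    have hi : i = i0 ∨ i = i1 := by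
      rcases Nat.lt_or_ge i.val 1 with h | h
      · left; exact Fin.ext (by omega)
      · right; exact Fin.ext (by have := i.isLt; omega)
    rcases hi with rfl | rfl
    · exact ⟨a, haM, ha⟩
    · exact ⟨u, huM, hu⟩
  have h := Subgroup.comap_map_eq π M
  rw [hmap, Subgroup.comap_top, sup_eq_left.2 hK] at h
  exact h.symm

/-- O6 (degree 4, odd kernel). -/
theorem odd_ker_trivial_one {Γ : Type u} [Group Γ] [Finite Γ]
    (π : Γ →* PresentedGroup (rels 1)) (hπ : Function.Surjective π)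
    (hc : π.ker ≤ Subgroup.center Γ) (hd : π.ker ≤ commutator Γ)
    (hodd : Odd (Nat.card π.ker)) : π.ker = ⊥ := by
  obtain ⟨i0, hi0⟩ : ∃ i0 : Fin (1 + 1), i0.val = 0 := ⟨⟨0, by norm_num⟩, rfl⟩
  obtain ⟨i1, hi1⟩ : ∃ i1 : Fin (1 + 1), i1.val = 1 := ⟨⟨1, by norm_num⟩, rfl⟩
  obtain ⟨a, ha⟩ := hπ (x 1 i0)
  obtain ⟨u₀, hu₀⟩ := hπ (x 1 i1)
  have hcen : ∀ c ∈ π.ker, ∀ g : Γ, c * g = g * c :=
    fun c hcK g => ((Subgroup.mem_center_iff.1 (hc hcK)) g).symm
  have hx1 : x 1 i1 ^ 2 = 1 := x_sq 1 i1 (by omega)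
  have hx0 : x 1 i0 ^ 3 = 1 := x_cube 1 i0 hi0
  have hx01 : (x 1 i0 * x 1 i1) ^ 3 = 1 := x_adj 1 i0 i1 (by omega)
  -- an involution lifting x₁
  have hu₀2 : u₀ ^ 2 ∈ π.ker := by rw [MonoidHom.mem_ker, map_pow, hu₀, hx1]
  obtain ⟨d, hdK, hd2⟩ := helper56_exists_sqrt π.ker hodd ((u₀ ^ 2)⁻¹) (inv_mem hu₀2)
  obtain ⟨u, hudef⟩ : ∃ u : Γ, u = u₀ * d := ⟨_, rfl⟩
  have hu : π u = x 1 i1 := by rw [hudef, map_mul, hu₀, MonoidHom.mem_ker.1 hdK, mul_one]
  have hu2 : u * u = 1 := by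
    have hcomm : Commute u₀ d := (hcen d hdK u₀).symm
    rw [← pow_two, hudef, hcomm.mul_pow, hd2, mul_inv_cancel]
  obtain ⟨v, hv⟩ : ∃ v : Γ, v = a * u * a⁻¹ := ⟨_, rfl⟩
  obtain ⟨w, hw⟩ : ∃ w : Γ, w = a * v * a⁻¹ := ⟨_, rfl⟩
  have ha3 : a ^ 3 ∈ π.ker := by rw [MonoidHom.mem_ker, map_pow, ha]; exact hx0
  have ha3e : a ^ 3 = a * a * a := by rw [pow_succ, pow_two]
  have hwu : a * w * a⁻¹ = u := by
    have : a * w * a⁻¹ = (a * a * a) * u * (a * a * a)⁻¹ := by rw [hw, hv]; group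
    rw [this, ← ha3e, hcen _ ha3 u, mul_assoc, mul_inv_cancel, mul_one]
  have hv2 : v * v = 1 := by
    rw [hv]
    calc a * u * a⁻¹ * (a * u * a⁻¹) = a * (u * u) * a⁻¹ := by group
      _ = 1 := by rw [hu2]; group
  have hw2 : w * w = 1 := by
    rw [hw]
    calc a * v * a⁻¹ * (a * v * a⁻¹) = a * (v * v) * a⁻¹ := by group
      _ = 1 := by rw [hv2]; group
  -- u and v commute
  have hπv : π v = x 1 i0 * x 1 i1 * (x 1 i0)⁻¹ := by
    rw [hv, map_mul, map_mul, map_inv, ha, hu]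
  have hP : x 1 i1 * (x 1 i0 * x 1 i1 * (x 1 i0)⁻¹) = (x 1 i0 * x 1 i1 * (x 1 i0)⁻¹) * x 1 i1 :=
    helper56_a4_comm (x 1 i0) (x 1 i1) hx0 hx1 hx01
  have hx1' : x 1 i1 * x 1 i1 = 1 := by rw [← pow_two]; exact hx1
  have hPc : (x 1 i0 * x 1 i1 * (x 1 i0)⁻¹) * (x 1 i0 * x 1 i1 * (x 1 i0)⁻¹) = 1 := by
    have : (x 1 i0 * x 1 i1 * (x 1 i0)⁻¹) * (x 1 i0 * x 1 i1 * (x 1 i0)⁻¹)
        = x 1 i0 * (x 1 i1 * x 1 i1) * (x 1 i0)⁻¹ := by group
    rw [this, hx1']; group
  have huvK : (u * v) * (u * v) ∈ π.ker := by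
    rw [MonoidHom.mem_ker, map_mul, map_mul, hu, hπv]
    exact helper56_sq_of_comm _ _ hx1' hPc hP
  have hui : u⁻¹ = u := inv_eq_of_mul_eq_one_left hu2
  have hvi : v⁻¹ = v := inv_eq_of_mul_eq_one_left hv2
  have hβ : (u * v) * (u * v) = 1 := by
    apply helper56_eq_one_of_sq π.ker hodd _ huvK
    have e1 : u * ((u * v) * (u * v)) * u⁻¹ = ((u * v) * (u * v))⁻¹ := by
      rw [mul_inv_rev, mul_inv_rev, hui, hvi]
      calc u * ((u * v) * (u * v)) * u = (u * u) * v * u * v * u := by group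
        _ = (v * u) * (v * u) := by rw [hu2]; group
    have e2 : u * ((u * v) * (u * v)) * u⁻¹ = (u * v) * (u * v) := by
      rw [← hcen _ huvK u, mul_assoc, mul_inv_cancel, mul_one]
    rw [e2] at e1
    rw [pow_two]
    nth_rewrite 2 [e1]
    exact mul_inv_cancel _
  have huv : u * v = v * u := helper56_comm_of_sq u v hu2 hv2 hβ
  have hvw : v * w = w * v := by
    have h : a * (u * v) * a⁻¹ = a * (v * u) * a⁻¹ := by rw [huv]
    have e1 : a * (u * v) * a⁻¹ = v * w := by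
      calc a * (u * v) * a⁻¹ = (a * u * a⁻¹) * (a * v * a⁻¹) := by group
        _ = v * w := by rw [← hw, ← hv]
    have e2 : a * (v * u) * a⁻¹ = w * v := by
      calc a * (v * u) * a⁻¹ = (a * v * a⁻¹) * (a * u * a⁻¹) := by group
        _ = w * v := by rw [← hw, ← hv]
    rw [e1, e2] at h; exact h
  have hwu' : w * u = u * w := by
    have h : a * (v * w) * a⁻¹ = a * (w * v) * a⁻¹ := by rw [hvw]
    have e1 : a * (v * w) * a⁻¹ = w * u := by
      calc a * (v * w) * a⁻¹ = (a * v * a⁻¹) * (a * w * a⁻¹) := by group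
        _ = w * u := by rw [← hw, hwu]
    have e2 : a * (w * v) * a⁻¹ = u * w := by
      calc a * (w * v) * a⁻¹ = (a * w * a⁻¹) * (a * v * a⁻¹) := by group
        _ = u * w := by rw [← hw, hwu]
    rw [e1, e2] at h; exact h
  -- the four-group S
  obtain ⟨T, hT⟩ : ∃ T : Set Γ, T = {u, v, w} := ⟨_, rfl⟩
  have hTmem : ∀ t ∈ T, t = u ∨ t = v ∨ t = w := by
    intro t ht; rw [hT] at ht; simpa using ht
  have huT : u ∈ T := by rw [hT]; simp
  have hvT : v ∈ T := by rw [hT]; simp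
  have hwT : w ∈ T := by rw [hT]; simp
  have hTcomm : ∀ s ∈ T, ∀ t ∈ T, s * t = t * s := by
    intro s hs t ht
    rcases hTmem s hs with rfl | rfl | rfl <;> rcases hTmem t ht with rfl | rfl | rfl
    · rfl
    · exact huv
    · exact hwu'.symm
    · exact huv.symm
    · rfl
    · exact hvw
    · exact hwu'
    · exact hvw.symm
    · rfl
  obtain ⟨S, hS⟩ : ∃ S : Subgroup Γ, S = Subgroup.closure T := ⟨_, rfl⟩
  have hTS : ∀ t ∈ T, t ∈ S := fun t ht => by rw [hS]; exact Subgroup.subset_closure ht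
  have hS_T : ∀ s ∈ S, ∀ t ∈ T, t * s = s * t := by
    intro s hs
    have h1 : S ≤ Subgroup.centralizer T := by
      rw [hS, Subgroup.closure_le]
      intro s hs
      exact Subgroup.mem_centralizer_iff.2 (fun t ht => hTcomm t ht s hs)
    exact Subgroup.mem_centralizer_iff.1 (h1 hs)
  have hS_comm : ∀ s ∈ S, ∀ t ∈ S, s * t = t * s := by
    intro s hs t ht
    have h1 : S ≤ Subgroup.centralizer {s} := by
      rw [hS, Subgroup.closure_le]
      intro t ht
      refine Subgroup.mem_centralizer_iff.2 (fun h hh => ?_)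
      rw [Set.mem_singleton_iff.1 hh]
      exact (hS_T s hs t ht).symm
    exact Subgroup.mem_centralizer_iff.1 (h1 ht) s rfl
  have hS_sq : ∀ s ∈ S, s * s = 1 := by
    intro s hs
    have hs' : s ∈ Subgroup.closure T := by rw [← hS]; exact hs
    induction hs' using Subgroup.closure_induction with
    | mem x hx =>
      rcases hTmem x hx with rfl | rfl | rfl
      · exact hu2
      · exact hv2
      · exact hw2
    | one => exact one_mul 1
    | mul x y hx hy ihx ihy =>
      have hxS : x ∈ S := by rw [hS]; exact hx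
      have hyS : y ∈ S := by rw [hS]; exact hy
      have hxy := hS_comm x hxS y hyS
      calc x * y * (x * y) = x * (y * x) * y := by group
        _ = x * (x * y) * y := by rw [← hxy]
        _ = (x * x) * (y * y) := by group
        _ = 1 := by rw [ihx hxS, ihy hyS, one_mul]
    | inv x hx ihx =>
      have hxS : x ∈ S := by rw [hS]; exact hx
      calc x⁻¹ * x⁻¹ = (x * x)⁻¹ := by group
        _ = 1 := by rw [ihx hxS, inv_one]
  -- S is normal
  have hgen : ∀ M : Subgroup Γ, a ∈ M → u ∈ M → π.ker ≤ M → M = ⊤ :=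
    fun M haM huM hKM => helper56_gen_top π a u i0 i1 hi0 hi1 ha hu M haM huM hKM
  have hSnorm : S.Normal := by
    rw [← Subgroup.normalizer_eq_top_iff]
    apply hgen
    · -- a normalizes S
      have hza : Subgroup.zpowers a ≤ Subgroup.normalizer (S : Set Γ) := by
        rw [hS, Subgroup.le_normalizer_closure_iff]
        intro h hh g hg
        rw [← hS]
        obtain ⟨n, rfl⟩ := Subgroup.mem_zpowers_iff.1 hh
        -- conjugation by powers of a permutes T
        have hperm : ∀ n : ℕ, ∀ t ∈ T, a ^ n * t * (a ^ n)⁻¹ ∈ T := by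
          intro n
          induction n with
          | zero => intro t ht; simpa using ht
          | succ n ih =>
            intro t ht
            have h1 : a ^ (n + 1) * t * (a ^ (n + 1))⁻¹ = a * (a ^ n * t * (a ^ n)⁻¹) * a⁻¹ := by
              rw [pow_succ']; group
            rw [h1]
            rcases hTmem _ (ih t ht) with h | h | h
            · rw [h, ← hv]; exact hvT
            · rw [h, ← hw]; exact hwT
            · rw [h, hwu]; exact huT
        have hcube : ∀ t : Γ, a ^ 3 * t * (a ^ 3)⁻¹ = t := by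
          intro t
          rw [hcen _ ha3 t, mul_assoc, mul_inv_cancel, mul_one]
        -- reduce the integer power to a natural power
        have hnat : ∃ m : ℕ, a ^ n * g * (a ^ n)⁻¹ = a ^ m * g * (a ^ m)⁻¹ := by
          refine ⟨(n % 3).toNat, ?_⟩
          have hn : n = (n % 3) + 3 * (n / 3) := (Int.emod_add_mul_ediv n 3).symm
          have hnn : 0 ≤ n % 3 := Int.emod_nonneg n (by norm_num)
          have hpow : a ^ n = a ^ ((n % 3).toNat) * (a ^ 3) ^ (n / 3) := by
            conv_lhs => rw [hn]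
            rw [zpow_add, zpow_mul, ← zpow_natCast a ((n % 3).toNat), Int.toNat_of_nonneg hnn]
            norm_cast
          have hz : ∀ t : Γ, (a ^ 3) ^ (n / 3) * t = t * (a ^ 3) ^ (n / 3) := by
            intro t
            exact hcen _ (Subgroup.zpow_mem _ ha3 _) t
          rw [hpow, mul_inv_rev, mul_assoc _ _ g, hz g]
          group
        obtain ⟨m, hm⟩ := hnat
        rw [hm]
        exact hTS _ (hperm m g hg)
      exact hza (Subgroup.mem_zpowers a)
    · exact Subgroup.le_normalizer (hTS u huT)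
    · intro c hcK
      rw [Subgroup.mem_normalizer_iff]
      intro h
      rw [hcen c hcK h, mul_assoc, mul_inv_cancel, mul_one]
  have hSn : S.Normal := hSnorm
  -- Γ ⧸ S is commutative
  have hqu : (QuotientGroup.mk' S) u = 1 := (QuotientGroup.eq_one_iff u).2 (hTS u huT)
  have hqK : ∀ c ∈ π.ker, ∀ p : Γ ⧸ S, (QuotientGroup.mk' S) c * p = p * (QuotientGroup.mk' S) c := by
    intro c hcK p
    obtain ⟨g, rfl⟩ := QuotientGroup.mk'_surjective S p
    rw [← map_mul, ← map_mul, hcen c hcK g]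
  have hM2 : Subgroup.comap (QuotientGroup.mk' S)
      (Subgroup.centralizer {(QuotientGroup.mk' S) a}) = ⊤ := by
    apply hgen
    · rw [Subgroup.mem_comap, Subgroup.mem_centralizer_iff]
      intro h hh
      rw [Set.mem_singleton_iff.1 hh]
    · rw [Subgroup.mem_comap, Subgroup.mem_centralizer_iff, hqu]
      intro h _
      rw [mul_one, one_mul]
    · intro c hcK
      rw [Subgroup.mem_comap, Subgroup.mem_centralizer_iff]
      intro h _
      exact (hqK c hcK h).symm
  have hqa : ∀ p : Γ ⧸ S, (QuotientGroup.mk' S) a * p = p * (QuotientGroup.mk' S) a := by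
    intro p
    obtain ⟨g, rfl⟩ := QuotientGroup.mk'_surjective S p
    have hg : g ∈ Subgroup.comap (QuotientGroup.mk' S)
        (Subgroup.centralizer {(QuotientGroup.mk' S) a}) := by rw [hM2]; trivial
    exact Subgroup.mem_centralizer_iff.1 (Subgroup.mem_comap.1 hg) _ rfl
  have hM3 : Subgroup.comap (QuotientGroup.mk' S) (Subgroup.center (Γ ⧸ S)) = ⊤ := by
    apply hgen
    · rw [Subgroup.mem_comap, Subgroup.mem_center_iff]
      intro p
      exact (hqa p).symm
    · rw [Subgroup.mem_comap, hqu]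
      exact Subgroup.one_mem _
    · intro c hcK
      rw [Subgroup.mem_comap, Subgroup.mem_center_iff]
      intro p
      exact (hqK c hcK p).symm
  have hQcomm : ∀ p p' : Γ ⧸ S, p * p' = p' * p := by
    intro p p'
    obtain ⟨g, rfl⟩ := QuotientGroup.mk'_surjective S p
    have hg : g ∈ Subgroup.comap (QuotientGroup.mk' S) (Subgroup.center (Γ ⧸ S)) := by
      rw [hM3]; trivial
    exact ((Subgroup.mem_center_iff.1 (Subgroup.mem_comap.1 hg)) p').symm
  have hcomm_le : commutator Γ ≤ S := by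
    rw [commutator_def, Subgroup.commutator_le]
    intro g _ h _
    rw [commutatorElement_def, ← QuotientGroup.eq_one_iff (N := S)]
    have : ((g * h * g⁻¹ * h⁻¹ : Γ) : Γ ⧸ S) =
        (QuotientGroup.mk' S) g * (QuotientGroup.mk' S) h * ((QuotientGroup.mk' S) g)⁻¹ *
          ((QuotientGroup.mk' S) h)⁻¹ := rfl
    rw [this, hQcomm ((QuotientGroup.mk' S) g) ((QuotientGroup.mk' S) h),
      mul_assoc ((QuotientGroup.mk' S) h), mul_inv_cancel, mul_one, mul_inv_cancel]
  -- conclusion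
  rw [eq_bot_iff]
  intro c hcK
  have hcS : c ∈ S := hcomm_le (hd hcK)
  have hc1 : c = 1 := helper56_eq_one_of_sq π.ker hodd c hcK (by rw [pow_two]; exact hS_sq c hcS)
  rw [hc1]; exact Subgroup.one_mem _

end Cfsg.Agent.Lib.helper70.SM
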