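import Mathlib
import Cfsg.Agent.Lib.helper49.SPEDefs

/-!
Piece QINJ (`qfy_inj`, racer copy) of the S2333 split.
-/

set_option autoImplicit false

namespace Cfsg.Agent.Lib.helper49.SPE

open Matrix

theorem helper56_qfy_single {F : Type*} [Field F] {n : ℕ} (y : Matrix (Fin n) (Fin n) F) (i : Fin n) :
    qfy y (Pi.single i 1) = y i i := by
  classical
  unfold qfy
  simp [Pi.single_apply, upT, Finset.sum_ite_eq']

theorem helper56_qfy_two {F : Type*} [Field F] {n : ℕ} (y : Matrix (Fin n) (Fin n) F) (i j : Fin n) :
    qfy y (Pi.single i 1 + Pi.single j 1) = upT y i i + upT y i j + upT y j i + upT y j j := by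
  classical
  unfold qfy
  simp only [Pi.add_apply, Pi.single_apply, mul_add, add_mul, Finset.sum_add_distrib]
  simp [Finset.sum_ite_eq']
  ring

/-- QINJ (M) -/
theorem helper56_qfy_inj {F : Type*} [Field F] {n : ℕ} (y y' : Matrix (Fin n) (Fin n) F)
    (hy : y ∈ symH F n) (hy' : y' ∈ symH F n) (h : ∀ x, qfy y x = qfy y' x) : y = y' := by
  have hd : ∀ i, y i i = y' i i := by
    intro i
    have := h (Pi.single i 1)
    rw [helper56_qfy_single, helper56_qfy_single] at this
    exact this
  have hlt : ∀ i j, i < j → y i j = y' i j := by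
    intro i j hij
    have := h (Pi.single i 1 + Pi.single j 1)
    rw [helper56_qfy_two, helper56_qfy_two] at this
    simp only [upT, le_refl, if_true, hij.le, not_le.2 hij, if_false] at this
    rw [hd i, hd j] at this
    linear_combination this
  ext i j
  rcases lt_trichotomy i j with hij | rfl | hij
  · exact hlt i j hij
  · exact hd i
  · rw [(mem_symH y).1 hy i j, (mem_symH y').1 hy' i j]
    exact hlt j i hij

end Cfsg.Agent.Lib.helper49.SPE
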