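import Mathlib
import Cfsg.Agent.Lib.helper45.SVDefs

/-!
# S2425, piece ARITH (helper56, racer copy): the recursion for `gval`
-/

set_option autoImplicit false

namespace Cfsg.Agent.Lib.helper45.SV

/-- ARITH (M), racer copy. -/
theorem helper56_gval_mul_irreducible {F : Type*} [Field F] [DecidableEq F] (q : ℕ) (f R : Polynomial F) (hf : Irreducible f)
    (hfm : f.Monic) (hR : R ≠ 0) :
    gval q (f * R) =
      - (q : ℤ) ^ (f.natDegree * (UniqueFactorizationMonoid.normalizedFactors R).count f) * gval q R := by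
  have hnf : UniqueFactorizationMonoid.normalizedFactors (f * R) =
      f ::ₘ UniqueFactorizationMonoid.normalizedFactors R := by
    rw [UniqueFactorizationMonoid.normalizedFactors_mul hf.ne_zero hR,
      UniqueFactorizationMonoid.normalizedFactors_irreducible hf, hfm.normalize_eq_self,
      Multiset.singleton_add]
  unfold gval
  rw [hnf, Multiset.toFinset_cons]
  set s := UniqueFactorizationMonoid.normalizedFactors R with hs
  set m := s.count f with hm
  have hR' : ∏ g ∈ s.toFinset,
      ((-1 : ℤ) ^ (s.count g) * (q : ℤ) ^ (g.natDegree * s.count g * (s.count g - 1) / 2)) =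
      ∏ g ∈ insert f s.toFinset,
      ((-1 : ℤ) ^ (s.count g) * (q : ℤ) ^ (g.natDegree * s.count g * (s.count g - 1) / 2)) := by
    by_cases hfs : f ∈ s.toFinset
    · rw [Finset.insert_eq_of_mem hfs]
    · rw [Finset.prod_insert hfs]
      have h0 : s.count f = 0 := Multiset.count_eq_zero_of_notMem (by simpa using hfs)
      rw [h0]; simp
  rw [hR', ← Finset.mul_prod_erase _ _ (Finset.mem_insert_self f _),
    ← Finset.mul_prod_erase _ _ (Finset.mem_insert_self f _)]
  have hrest : ∏ g ∈ (insert f s.toFinset).erase f,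
      ((-1 : ℤ) ^ ((f ::ₘ s).count g) *
        (q : ℤ) ^ (g.natDegree * (f ::ₘ s).count g * ((f ::ₘ s).count g - 1) / 2)) =
      ∏ g ∈ (insert f s.toFinset).erase f,
        ((-1 : ℤ) ^ (s.count g) * (q : ℤ) ^ (g.natDegree * s.count g * (s.count g - 1) / 2)) := by
    apply Finset.prod_congr rfl
    intro g hg
    have hgf : g ≠ f := Finset.ne_of_mem_erase hg
    rw [Multiset.count_cons_of_ne hgf]
  rw [hrest, Multiset.count_cons_self]
  have hexp : f.natDegree * (m + 1) * (m + 1 - 1) / 2 =
      f.natDegree * m + f.natDegree * m * (m - 1) / 2 := by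
    have hev : 2 ∣ f.natDegree * m * (m - 1) := by
      rw [mul_assoc]; exact Dvd.dvd.mul_left (Nat.even_mul_pred_self m).two_dvd _
    obtain ⟨k, hk⟩ := hev
    rw [hk, Nat.mul_div_cancel_left _ (by norm_num : 0 < 2)]
    have h2 : f.natDegree * (m + 1) * (m + 1 - 1) = 2 * (f.natDegree * m + k) := by
      rw [Nat.add_sub_cancel, mul_add 2, ← hk]
      cases m with
      | zero => simp
      | succ n => simp only [Nat.add_sub_cancel]; ring
    rw [h2, Nat.mul_div_cancel_left _ (by norm_num : 0 < 2)]
  rw [hexp, pow_succ, pow_add]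
  ring

end Cfsg.Agent.Lib.helper45.SV
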