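import Mathlib
import Cfsg.Agent.Lib.helper45.SVDefs
import Cfsg.Agent.Lib.helper73.SV_W
import Cfsg.Agent.Lib.helper7.SV_INT
import Cfsg.Agent.Lib.helper22.SV_CHP
import Cfsg.Agent.Lib.helper22.SV_IRR
import Cfsg.Agent.Lib.helper4.SV_CNT
import Cfsg.Agent.Lib.helper69.SV_HOM
import Cfsg.Agent.Lib.helper17.SV_ARITH
import Cfsg.Agent.Lib.helper32.SV_ATOM

/-!
# S2425, piece ASMC (helper56): the Moebius number of the lattice of invariant subspaces of a
semisimple endomorphism, by induction on the dimension (Weisner + counting invariant complements).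
-/

set_option autoImplicit false
set_option linter.style.haveILetI false
open scoped MatrixGroups

namespace Cfsg.Agent.Lib.helper45.SV

universe u

open Classical in
/-- The induction step. -/
theorem helper56_mob_step {F : Type*} [Field F] [Fintype F] [DecidableEq F] {V : Type u}
    [AddCommGroup V] [Module F V] [Finite V] (T : Module.End F V) (hT : T.IsSemisimple)
    (hV : Nontrivial V)
    (ih : ∀ (X : Submodule F V) (hX : X ∈ T.invtSubmodule), X ≠ ⊤ →
      mobInv (T.restrict hX) = gval (Fintype.card F) (T.restrict hX).charpoly) :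
    mobInv T = gval (Fintype.card F) T.charpoly := by
  letI : Fintype (T.invtSubmodule) := Fintype.ofFinite _
  letI : LocallyFiniteOrder (T.invtSubmodule) := Fintype.toLocallyFiniteOrder
  have h0 : mobInv T = IncidenceAlgebra.mu ℤ (⊥ : T.invtSubmodule) ⊤ := rfl
  obtain ⟨A, hA, hA0, hAatom⟩ := exists_atom T hV
  have hA' : A ∈ T.invtSubmodule := hA
  obtain ⟨X0, hX0, hc0⟩ := (Module.End.isSemisimple_iff.mp hT) A hA'
  -- the simple module `A`
  have hN : Nontrivial A := (Submodule.nontrivial_iff_ne_bot).mpr hA0
  have hR : ∀ U : Submodule F A, (∀ v ∈ U, (T.restrict hA) v ∈ U) → U = ⊥ ∨ U = ⊤ := by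
    intro U hU
    have h1 : U.map A.subtype ∈ T.invtSubmodule :=
      Module.End.invtSubmodule.map_subtype_mem_of_mem_invtSubmodule T hA' hU
    rcases hAatom (U.map A.subtype) h1 (Submodule.map_subtype_le A U) with h2 | h2
    · left
      apply Submodule.map_injective_of_injective A.injective_subtype
      rw [h2, Submodule.map_bot]
    · right
      apply Submodule.map_injective_of_injective A.injective_subtype
      rw [h2, Submodule.map_subtype_top]
  set f := (T.restrict hA).charpoly with hf
  set R0 := (T.restrict hX0).charpoly with hR0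
  have hfirr : Irreducible f := charpoly_irreducible_of_simple (T.restrict hA) hN hR
  have hfm : f.Monic := LinearMap.charpoly_monic _
  have hR0m : R0.Monic := LinearMap.charpoly_monic _
  have hchar0 : T.charpoly = f * R0 := charpoly_of_isCompl T A X0 hA hX0 hc0
  have hdeg : f.natDegree = Module.finrank F A := LinearMap.charpoly_natDegree _
  -- Weisner
  set a : T.invtSubmodule := ⟨A, hA'⟩ with ha
  have ha0 : a ≠ ⊥ := by
    rw [ha, Ne, Module.End.invtSubmodule.mk_eq_bot_iff]; exact hA0
  have hw := weisner a ha0
  -- characterization of the summation range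
  have hmem : ∀ x : T.invtSubmodule,
      x ∈ (Finset.univ.filter (fun x : T.invtSubmodule => x ⊔ a = ⊤)).erase ⊤ ↔
        IsCompl A (x : Submodule F V) := by
    intro x
    rw [Finset.mem_erase, Finset.mem_filter]
    have hsup : x ⊔ a = ⊤ ↔ (x : Submodule F V) ⊔ A = ⊤ := by
      rw [Subtype.ext_iff]; rfl
    constructor
    · rintro ⟨hne, -, hx⟩
      rw [hsup] at hx
      have hxne : (x : Submodule F V) ≠ ⊤ := by
        intro h; apply hne; exact Subtype.ext h
      refine ⟨?_, ?_⟩
      · rw [disjoint_iff]
        have hinf : A ⊓ (x : Submodule F V) ∈ T.invtSubmodule :=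
          Module.End.invtSubmodule.inf_mem hA' x.2
        rcases hAatom _ hinf inf_le_left with h | h
        · exact h
        · exfalso
          have hle : A ≤ (x : Submodule F V) := by rw [← h]; exact inf_le_right
          apply hxne
          rw [← hx]; exact (sup_eq_left.mpr hle).symm
      · rw [codisjoint_iff, sup_comm]; exact hx
    · intro hc
      refine ⟨?_, Finset.mem_univ _, ?_⟩
      · intro h
        have hx : (x : Submodule F V) = ⊤ := by rw [h]; rfl
        have := hc.inf_eq_bot
        rw [hx, inf_top_eq] at this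
        exact hA0 this
      · rw [hsup, sup_comm]; exact hc.sup_eq_top
  -- value of the Moebius function on complements
  have hval : ∀ x ∈ (Finset.univ.filter (fun x : T.invtSubmodule => x ⊔ a = ⊤)).erase ⊤,
      IncidenceAlgebra.mu ℤ (⊥ : T.invtSubmodule) x = gval (Fintype.card F) R0 := by
    intro x hx
    have hc : IsCompl A (x : Submodule F V) := (hmem x).mp hx
    obtain ⟨X, hX⟩ := x
    have hXne : X ≠ ⊤ := by
      intro h
      have := hc.inf_eq_bot
      rw [show ((⟨X, hX⟩ : T.invtSubmodule) : Submodule F V) = X from rfl, h, inf_top_eq] at this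
      exact hA0 this
    rw [mu_bot_eq_mobInv_restrict T X hX hX, ih X hX hXne]
    have hcharX : T.charpoly = f * (T.restrict hX).charpoly := charpoly_of_isCompl T A X hA hX hc
    have : (T.restrict hX).charpoly = R0 :=
      mul_left_cancel₀ hfm.ne_zero (hcharX.symm.trans hchar0)
    rw [this]
  -- the number of complements
  have hcard : ((Finset.univ.filter (fun x : T.invtSubmodule => x ⊔ a = ⊤)).erase ⊤).card =
      Fintype.card F ^ (f.natDegree * (UniqueFactorizationMonoid.normalizedFactors R0).count f) := by
    rw [← Nat.card_eq_finsetCard]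
    have e : ↥((Finset.univ.filter (fun x : T.invtSubmodule => x ⊔ a = ⊤)).erase ⊤) ≃
        {X : Submodule F V // (∀ v ∈ X, T v ∈ X) ∧ IsCompl A X} :=
      { toFun := fun x => ⟨(x.1 : Submodule F V), x.1.2, (hmem x.1).mp x.2⟩
        invFun := fun y => ⟨⟨y.1, y.2.1⟩, (hmem ⟨y.1, y.2.1⟩).mpr y.2.2⟩
        left_inv := fun x => rfl
        right_inv := fun y => rfl }
    rw [Nat.card_congr e, card_invt_compl T A X0 hA hX0 hc0,
      card_hom_simple (T.restrict hX0) (hT.restrict hX0) (T.restrict hA) hN hR, hdeg]
  -- conclusion
  have hsplit := Finset.add_sum_erase (Finset.univ.filter (fun x : T.invtSubmodule => x ⊔ a = ⊤))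
    (fun x => IncidenceAlgebra.mu ℤ (⊥ : T.invtSubmodule) x)
    (show (⊤ : T.invtSubmodule) ∈ Finset.univ.filter (fun x : T.invtSubmodule => x ⊔ a = ⊤) by
      rw [Finset.mem_filter]; exact ⟨Finset.mem_univ _, top_sup_eq _⟩)
  rw [hw, Finset.sum_congr rfl hval, Finset.sum_const, hcard, nsmul_eq_mul] at hsplit
  rw [h0, hchar0, gval_mul_irreducible (Fintype.card F) f R0 hfirr hfm hR0m.ne_zero]
  push_cast at hsplit
  linarith

open Classical in
/-- The statement by strong induction on the dimension. -/
theorem helper56_mob_aux {F : Type*} [Field F] [Fintype F] [DecidableEq F] :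
    ∀ (d : ℕ) {V : Type u} [AddCommGroup V] [Module F V] [Finite V] (T : Module.End F V),
      T.IsSemisimple → Module.finrank F V = d → mobInv T = gval (Fintype.card F) T.charpoly := by
  intro d
  induction d using Nat.strong_induction_on with
  | _ d ih =>
    intro V _ _ _ T hT hd
    by_cases hV : Nontrivial V
    · apply helper56_mob_step T hT hV
      intro X hX hne
      have hlt : Module.finrank F X < d := by rw [← hd]; exact Submodule.finrank_lt hne
      exact ih _ hlt (T.restrict hX) (hT.restrict hX) rfl
    · rw [not_nontrivial_iff_subsingleton] at hV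
      have hbt : (⊥ : T.invtSubmodule) = ⊤ := by
        apply Subtype.ext
        exact Subsingleton.elim _ _
      letI : Fintype (T.invtSubmodule) := Fintype.ofFinite _
      letI : LocallyFiniteOrder (T.invtSubmodule) := Fintype.toLocallyFiniteOrder
      have h0 : mobInv T = IncidenceAlgebra.mu ℤ (⊥ : T.invtSubmodule) ⊤ := rfl
      have h1 : mobInv T = 1 := by
        rw [h0, ← hbt]
        exact IncidenceAlgebra.mu_self _
      have h2 : T.charpoly = 1 := by
        have hm : T.charpoly.Monic := LinearMap.charpoly_monic _
        have hdg : T.charpoly.natDegree = 0 := by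
          rw [LinearMap.charpoly_natDegree]
          exact Module.finrank_zero_of_subsingleton
        exact Polynomial.eq_one_of_monic_natDegree_zero hm hdg
      rw [h1, h2]
      simp [gval, UniqueFactorizationMonoid.normalizedFactors_one]

/-- ASMC (L, assembly of W, INT, CHP, IRR, CNT, HOM, ARITH, ATOM by strong induction on `finrank`). -/
theorem mob_eq_gval {F : Type*} [Field F] [Fintype F] [DecidableEq F] {V : Type*} [AddCommGroup V] [Module F V]
    [Finite V] (T : Module.End F V) (hT : T.IsSemisimple) :
    mobInv T = gval (Fintype.card F) T.charpoly :=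
  helper56_mob_aux _ T hT rfl

end Cfsg.Agent.Lib.helper45.SV
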