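import Mathlib

set_option autoImplicit false

namespace Cfsg.Agent.Lib.helper56

open scoped Pointwise

/-- A transfer criterion. Let `H ≤ M ≤ G` with `H` normal in `M` and `M / H` abelian. Suppose `H` is
strongly closed in `M` with respect to `G`, and every element of `M` fixing a coset of `M` other
than `M` itself lies in `H`. Then there is a normal subgroup `K` of `G` with `K ∩ M = H` and
`K M = G`. -/
theorem exists_normal_inf_eq_of_transfer {G : Type*} [Group G] [Finite G] (H M : Subgroup G)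
    (hHM : H ≤ M) (hn : M ≤ Subgroup.normalizer (H : Set G))
    (hcomm : ∀ a ∈ M, ∀ b ∈ M, a * b * a⁻¹ * b⁻¹ ∈ H)
    (hsc : ∀ h ∈ H, ∀ y : G, y⁻¹ * h * y ∈ M → y⁻¹ * h * y ∈ H)
    (hfp : ∀ y : G, y ∉ M → ∀ g ∈ M, y⁻¹ * g * y ∈ M → g ∈ H) :
    ∃ K : Subgroup G, K.Normal ∧ H ≤ K ∧ K ⊓ M = H ∧ K ⊔ M = ⊤ := by
  classical
  haveI hN : (H.subgroupOf M).Normal := (Subgroup.normal_subgroupOf_iff_le_normalizer hHM).mpr hn
  letI : CommGroup (↥M ⧸ H.subgroupOf M) :=
    { (inferInstance : Group (↥M ⧸ H.subgroupOf M)) with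
      mul_comm := by
        intro a b
        induction a using QuotientGroup.induction_on with
        | H a =>
        induction b using QuotientGroup.induction_on with
        | H b =>
        rw [← QuotientGroup.mk_mul, ← QuotientGroup.mk_mul, QuotientGroup.eq]
        rw [Subgroup.mem_subgroupOf]
        have := hcomm (b : G)⁻¹ (M.inv_mem b.2) (a : G)⁻¹ (M.inv_mem a.2)
        simpa [mul_assoc] using this }
  let ϕ : ↥M →* ↥M ⧸ H.subgroupOf M := QuotientGroup.mk' (H.subgroupOf M)
  have hϕ1 : ∀ x : ↥M, ϕ x = 1 ↔ (x : G) ∈ H := by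
    intro x
    rw [show ϕ x = (x : ↥M ⧸ H.subgroupOf M) from rfl, QuotientGroup.eq_one_iff,
      Subgroup.mem_subgroupOf]
  let V : G →* ↥M ⧸ H.subgroupOf M := MonoidHom.transfer ϕ
  have hVH : ∀ h ∈ H, V h = 1 := by
    intro h hh
    haveI : Fintype (Quotient (MulAction.orbitRel (Subgroup.zpowers h) (G ⧸ M))) :=
      Fintype.ofFinite _
    rw [show V h = MonoidHom.transfer ϕ h from rfl,
      MonoidHom.transfer_eq_prod_quotient_orbitRel_zpowers_quot]
    apply Finset.prod_eq_one
    intro q _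
    rw [hϕ1]
    exact hsc _ (H.pow_mem hh _) _ (QuotientGroup.out_conj_pow_minimalPeriod_mem M h q.out)
  have hVM : ∀ m : G, ∀ hm : m ∈ M, V m = ϕ ⟨m, hm⟩ := by
    intro m hm
    by_cases hmH : m ∈ H
    · rw [hVH m hmH, eq_comm, hϕ1]; exact hmH
    haveI : Fintype (Quotient (MulAction.orbitRel (Subgroup.zpowers m) (G ⧸ M))) :=
      Fintype.ofFinite _
    rw [show V m = MonoidHom.transfer ϕ m from rfl,
      MonoidHom.transfer_eq_prod_quotient_orbitRel_zpowers_quot]
    set q₀ : Quotient (MulAction.orbitRel (Subgroup.zpowers m) (G ⧸ M)) :=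
      Quotient.mk'' (((1 : G) : G ⧸ M)) with hq₀
    have hout : ∀ q : Quotient (MulAction.orbitRel (Subgroup.zpowers m) (G ⧸ M)),
        q.out.out ∈ M → q = q₀ := by
      intro q hq
      have h1 : ((q.out.out : G) : G ⧸ M) = ((1 : G) : G ⧸ M) := by
        rw [QuotientGroup.eq]; simpa using hq
      have h2 : ((q.out.out : G) : G ⧸ M) = q.out := QuotientGroup.out_eq' _
      rw [hq₀, ← h1, h2]
      exact (Quotient.out_eq' q).symm
    rw [Finset.prod_eq_single q₀]
    · have hq₀out : q₀.out = (((1 : G) : G ⧸ M)) := by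
        have h1 : (Quotient.mk'' q₀.out :
            Quotient (MulAction.orbitRel (Subgroup.zpowers m) (G ⧸ M))) =
            Quotient.mk'' (((1 : G) : G ⧸ M)) := by
          rw [Quotient.out_eq']
        rw [Quotient.eq''] at h1
        rw [MulAction.orbitRel_apply] at h1
        obtain ⟨⟨z, hz⟩, hz2⟩ := h1
        rw [← hz2]
        have hzM : z ∈ M := by
          obtain ⟨k, rfl⟩ := hz
          exact M.zpow_mem hm k
        show ((z * 1 : G) : G ⧸ M) = _
        rw [QuotientGroup.eq]; simpa using hzM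
      have hy : q₀.out.out ∈ M := by
        have h2 : ((q₀.out.out : G) : G ⧸ M) = q₀.out := QuotientGroup.out_eq' _
        have h3 : ((q₀.out.out : G) : G ⧸ M) = ((1 : G) : G ⧸ M) := h2.trans hq₀out
        rw [QuotientGroup.eq] at h3
        simpa using h3
      have hper : Function.minimalPeriod (m • ·) q₀.out = 1 := by
        rw [Function.minimalPeriod_eq_one_iff_isFixedPt, hq₀out]
        show ((m * 1 : G) : G ⧸ M) = _
        rw [QuotientGroup.eq]; simpa using hm
      have hEq : (⟨q₀.out.out⁻¹ * m ^ Function.minimalPeriod (m • ·) q₀.out * q₀.out.out,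
          QuotientGroup.out_conj_pow_minimalPeriod_mem M m q₀.out⟩ : ↥M) =
          (⟨q₀.out.out, hy⟩ : ↥M)⁻¹ * ⟨m, hm⟩ * ⟨q₀.out.out, hy⟩ := by
        apply Subtype.ext
        simp [hper]
      rw [hEq, map_mul, map_mul, map_inv, mul_comm, mul_inv_cancel_left]
    · intro q _ hq
      rw [hϕ1]
      have hy : q.out.out ∉ M := fun h => hq (hout q h)
      have hmem := QuotientGroup.out_conj_pow_minimalPeriod_mem M m q.out
      have h3 : m ^ Function.minimalPeriod (m • ·) q.out ∈ H :=
        hfp _ hy _ (M.pow_mem hm _) hmem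
      exact hsc _ h3 _ hmem
    · intro h
      exact absurd (Finset.mem_univ _) h
  refine ⟨V.ker, MonoidHom.normal_ker V, ?_, ?_, ?_⟩
  · intro h hh; exact MonoidHom.mem_ker.mpr (hVH h hh)
  · apply le_antisymm
    · rintro x ⟨hx1, hx2⟩
      have h1 := hVM x hx2
      rw [MonoidHom.mem_ker.mp hx1] at h1
      exact (hϕ1 _).mp h1.symm
    · exact le_inf (fun h hh => MonoidHom.mem_ker.mpr (hVH h hh)) hHM
  · rw [eq_top_iff]
    intro g _
    obtain ⟨m', hm'⟩ := QuotientGroup.mk'_surjective (H.subgroupOf M) (V g)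
    have h1 : g * (m' : G)⁻¹ ∈ V.ker := by
      rw [MonoidHom.mem_ker, map_mul, map_inv, hVM _ m'.2]
      show V g * (ϕ m')⁻¹ = 1
      rw [show ϕ m' = V g from hm']; exact mul_inv_cancel _
    have h2 : g = g * (m' : G)⁻¹ * m' := by group
    rw [h2]
    exact Subgroup.mul_mem_sup h1 m'.2

end Cfsg.Agent.Lib.helper56
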