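import Mathlib
import Cfsg.Agent.Lib.helper16.U34CDefs

/-!
# S1903, piece B2 (helper56): the normal form bound `|H| ≤ 320`
-/

set_option autoImplicit false
set_option linter.unusedSectionVars false
set_option linter.unusedVariables false
set_option linter.unusedSimpArgs false

namespace Cfsg.Agent.Lib.helper16.U34C

open Cfsg
open scoped commutatorElement

section B2

variable {H : Type*} [Group H]

/-- `g` or `1`. -/
def helper56_pw (g : H) : Bool → H
  | true => g
  | false => 1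

/-- The normal form `u0^e0 u1^e1 u2^e2 u3^e3 a^i b^j`. -/
def helper56_nf (u0 u1 u2 u3 a b : H) (e0 e1 e2 e3 i j : Bool) : H :=
  helper56_pw u0 e0 * (helper56_pw u1 e1 * (helper56_pw u2 e2 * (helper56_pw u3 e3 *
    (helper56_pw a i * helper56_pw b j))))

/-- Membership in the set of normal forms. -/
def helper56_InN (u0 u1 u2 u3 a b : H) (n : H) : Prop :=
  ∃ e0 e1 e2 e3 i j : Bool, n = helper56_nf u0 u1 u2 u3 a b e0 e1 e2 e3 i j

theorem helper56_swap_tail {y z c : H} (hyz : y * z = z * y * c) (t : H) :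
    y * (z * t) = z * (y * (c * t)) := by
  rw [← mul_assoc, hyz]; simp only [mul_assoc]

theorem helper56_swap {y z c : H} (hyz : y * z = z * y * c) : y * z = z * (y * c) := by
  rw [hyz, mul_assoc]

theorem helper56_sq_tail {y d : H} (hs : y ^ 2 = d) (t : H) : y * (y * t) = d * t := by
  rw [← mul_assoc, ← pow_two, hs]

theorem helper56_sq {y d : H} (hs : y ^ 2 = d) : y * y = d := by
  rw [← pow_two, hs]

theorem helper56_cen_tail {c : H} (hc : ∀ g : H, Commute c g) (g t : H) :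
    c * (g * t) = g * (c * t) := by
  rw [← mul_assoc, (hc g).eq, mul_assoc]

set_option maxHeartbeats 4000000 in
theorem helper56_left_mul {u0 u1 u2 u3 a b x : H} (h : Gens u0 u1 u2 u3 a b x) (g : H)
    (hg : g = u0 ∨ g = u1 ∨ g = u2 ∨ g = u3 ∨ g = a ∨ g = b) (n : H)
    (hn : helper56_InN u0 u1 u2 u3 a b n) : helper56_InN u0 u1 u2 u3 a b (g * n) := by
  obtain ⟨e0, e1, e2, e3, i, j, rfl⟩ := hn
  have r01 := helper56_swap_tail h.c01
  have r02 := helper56_swap_tail h.c02
  have r03 := helper56_swap_tail h.c03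
  have r12 := helper56_swap_tail h.c12
  have r13 := helper56_swap_tail h.c13
  have r23 := helper56_swap_tail h.c23
  have s01 := helper56_swap h.c01
  have s02 := helper56_swap h.c02
  have s03 := helper56_swap h.c03
  have s12 := helper56_swap h.c12
  have s13 := helper56_swap h.c13
  have s23 := helper56_swap h.c23
  have q0 := helper56_sq_tail h.sq0
  have q1 := helper56_sq_tail h.sq1
  have q2 := helper56_sq_tail h.sq2
  have q3 := helper56_sq_tail h.sq3
  have qa := helper56_sq_tail h.a2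
  have qb := helper56_sq_tail h.b2
  have p0 := helper56_sq h.sq0
  have p1 := helper56_sq h.sq1
  have p2 := helper56_sq h.sq2
  have p3 := helper56_sq h.sq3
  have pa := helper56_sq h.a2
  have pb := helper56_sq h.b2
  have ca0 := helper56_cen_tail h.ac u0
  have ca1 := helper56_cen_tail h.ac u1
  have ca2 := helper56_cen_tail h.ac u2
  have ca3 := helper56_cen_tail h.ac u3
  have cb0 := helper56_cen_tail h.bc u0
  have cb1 := helper56_cen_tail h.bc u1
  have cb2 := helper56_cen_tail h.bc u2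
  have cb3 := helper56_cen_tail h.bc u3
  have cba := helper56_cen_tail h.bc a
  have da0 := (h.ac u0).eq
  have da1 := (h.ac u1).eq
  have da2 := (h.ac u2).eq
  have da3 := (h.ac u3).eq
  have db0 := (h.bc u0).eq
  have db1 := (h.bc u1).eq
  have db2 := (h.bc u2).eq
  have db3 := (h.bc u3).eq
  have dba := (h.bc a).eq
  rcases hg with rfl | rfl | rfl | rfl | rfl | rfl
  · refine ⟨!e0, e1, e2, e3, i ^^ e0, j ^^ e0, ?_⟩
    cases e0 <;> cases e1 <;> cases e2 <;> cases e3 <;> cases i <;> cases j <;>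
      simp only [helper56_nf, helper56_pw, Bool.xor_false, Bool.xor_true, Bool.false_xor,
        Bool.true_xor, Bool.not_true, Bool.not_false, one_mul, mul_one, mul_assoc,
        r01, r02, r03, r12, r13, r23, s01, s02, s03, s12, s13, s23, q0, q1, q2, q3, qa, qb,
        p0, p1, p2, p3, pa, pb, ca0, ca1, ca2, ca3, cb0, cb1, cb2, cb3, cba,
        da0, da1, da2, da3, db0, db1, db2, db3, dba]
  · refine ⟨e0, !e1, e2, e3, (i ^^ e0) ^^ e1, j ^^ e1, ?_⟩
    cases e0 <;> cases e1 <;> cases e2 <;> cases e3 <;> cases i <;> cases j <;>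
      simp only [helper56_nf, helper56_pw, Bool.xor_false, Bool.xor_true, Bool.false_xor,
        Bool.true_xor, Bool.not_true, Bool.not_false, one_mul, mul_one, mul_assoc,
        r01, r02, r03, r12, r13, r23, s01, s02, s03, s12, s13, s23, q0, q1, q2, q3, qa, qb,
        p0, p1, p2, p3, pa, pb, ca0, ca1, ca2, ca3, cb0, cb1, cb2, cb3, cba,
        da0, da1, da2, da3, db0, db1, db2, db3, dba]
  · refine ⟨e0, e1, !e2, e3, (i ^^ e1) ^^ e2, (j ^^ e0) ^^ e2, ?_⟩
    cases e0 <;> cases e1 <;> cases e2 <;> cases e3 <;> cases i <;> cases j <;>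
      simp only [helper56_nf, helper56_pw, Bool.xor_false, Bool.xor_true, Bool.false_xor,
        Bool.true_xor, Bool.not_true, Bool.not_false, one_mul, mul_one, mul_assoc,
        r01, r02, r03, r12, r13, r23, s01, s02, s03, s12, s13, s23, q0, q1, q2, q3, qa, qb,
        p0, p1, p2, p3, pa, pb, ca0, ca1, ca2, ca3, cb0, cb1, cb2, cb3, cba,
        da0, da1, da2, da3, db0, db1, db2, db3, dba]
  · refine ⟨e0, e1, e2, !e3, (i ^^ e2) ^^ e3, ((j ^^ e0) ^^ e1) ^^ e3, ?_⟩
    cases e0 <;> cases e1 <;> cases e2 <;> cases e3 <;> cases i <;> cases j <;>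
      simp only [helper56_nf, helper56_pw, Bool.xor_false, Bool.xor_true, Bool.false_xor,
        Bool.true_xor, Bool.not_true, Bool.not_false, one_mul, mul_one, mul_assoc,
        r01, r02, r03, r12, r13, r23, s01, s02, s03, s12, s13, s23, q0, q1, q2, q3, qa, qb,
        p0, p1, p2, p3, pa, pb, ca0, ca1, ca2, ca3, cb0, cb1, cb2, cb3, cba,
        da0, da1, da2, da3, db0, db1, db2, db3, dba]
  · refine ⟨e0, e1, e2, e3, !i, j, ?_⟩
    cases e0 <;> cases e1 <;> cases e2 <;> cases e3 <;> cases i <;> cases j <;>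
      simp only [helper56_nf, helper56_pw, Bool.xor_false, Bool.xor_true, Bool.false_xor,
        Bool.true_xor, Bool.not_true, Bool.not_false, one_mul, mul_one, mul_assoc,
        r01, r02, r03, r12, r13, r23, s01, s02, s03, s12, s13, s23, q0, q1, q2, q3, qa, qb,
        p0, p1, p2, p3, pa, pb, ca0, ca1, ca2, ca3, cb0, cb1, cb2, cb3, cba,
        da0, da1, da2, da3, db0, db1, db2, db3, dba]
  · refine ⟨e0, e1, e2, e3, i, !j, ?_⟩
    cases e0 <;> cases e1 <;> cases e2 <;> cases e3 <;> cases i <;> cases j <;>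
      simp only [helper56_nf, helper56_pw, Bool.xor_false, Bool.xor_true, Bool.false_xor,
        Bool.true_xor, Bool.not_true, Bool.not_false, one_mul, mul_one, mul_assoc,
        r01, r02, r03, r12, r13, r23, s01, s02, s03, s12, s13, s23, q0, q1, q2, q3, qa, qb,
        p0, p1, p2, p3, pa, pb, ca0, ca1, ca2, ca3, cb0, cb1, cb2, cb3, cba,
        da0, da1, da2, da3, db0, db1, db2, db3, dba]

theorem helper56_InN_one {u0 u1 u2 u3 a b : H} : helper56_InN u0 u1 u2 u3 a b 1 :=
  ⟨false, false, false, false, false, false, by simp [helper56_nf, helper56_pw]⟩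

theorem helper56_InN_pw_mul {u0 u1 u2 u3 a b x : H} (h : Gens u0 u1 u2 u3 a b x) (g : H)
    (hg : g = u0 ∨ g = u1 ∨ g = u2 ∨ g = u3 ∨ g = a ∨ g = b) (e : Bool) (n : H)
    (hn : helper56_InN u0 u1 u2 u3 a b n) :
    helper56_InN u0 u1 u2 u3 a b (helper56_pw g e * n) := by
  cases e
  · simpa [helper56_pw] using hn
  · exact helper56_left_mul h g hg n hn

theorem helper56_InN_mul {u0 u1 u2 u3 a b x : H} (h : Gens u0 u1 u2 u3 a b x) {m n : H}
    (hm : helper56_InN u0 u1 u2 u3 a b m) (hn : helper56_InN u0 u1 u2 u3 a b n) :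
    helper56_InN u0 u1 u2 u3 a b (m * n) := by
  obtain ⟨e0, e1, e2, e3, i, j, rfl⟩ := hm
  have key := helper56_InN_pw_mul h u0 (Or.inl rfl) e0 _
    (helper56_InN_pw_mul h u1 (Or.inr (Or.inl rfl)) e1 _
      (helper56_InN_pw_mul h u2 (Or.inr (Or.inr (Or.inl rfl))) e2 _
        (helper56_InN_pw_mul h u3 (Or.inr (Or.inr (Or.inr (Or.inl rfl)))) e3 _
          (helper56_InN_pw_mul h a (Or.inr (Or.inr (Or.inr (Or.inr (Or.inl rfl))))) i _
            (helper56_InN_pw_mul h b (Or.inr (Or.inr (Or.inr (Or.inr (Or.inr rfl))))) j n hn)))))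
  simpa only [helper56_nf, mul_assoc] using key

theorem helper56_InN_pow {u0 u1 u2 u3 a b x : H} (h : Gens u0 u1 u2 u3 a b x) {n : H}
    (hn : helper56_InN u0 u1 u2 u3 a b n) (k : ℕ) : helper56_InN u0 u1 u2 u3 a b (n ^ k) := by
  induction k with
  | zero => simpa using helper56_InN_one
  | succ k ih => rw [pow_succ]; exact helper56_InN_mul h ih hn

theorem helper56_InN_gen {u0 u1 u2 u3 a b x : H} (h : Gens u0 u1 u2 u3 a b x) (g : H)
    (hg : g = u0 ∨ g = u1 ∨ g = u2 ∨ g = u3 ∨ g = a ∨ g = b) :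
    helper56_InN u0 u1 u2 u3 a b g := by
  simpa using helper56_left_mul h g hg 1 helper56_InN_one

theorem helper56_InN_inv_of_pow {u0 u1 u2 u3 a b x : H} (h : Gens u0 u1 u2 u3 a b x) {n : H}
    (hn : helper56_InN u0 u1 u2 u3 a b n) (k : ℕ) (hk : n ^ (k + 1) = 1) :
    helper56_InN u0 u1 u2 u3 a b n⁻¹ := by
  have : n⁻¹ = n ^ k := by
    apply inv_eq_of_mul_eq_one_right
    rw [← pow_succ', hk]
  rw [this]
  exact helper56_InN_pow h hn k

theorem helper56_ab_sq {u0 u1 u2 u3 a b x : H} (h : Gens u0 u1 u2 u3 a b x) :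
    (a * b) ^ 2 = 1 := by
  rw [(h.ac b).mul_pow, h.a2, h.b2, one_mul]

theorem helper56_InN_gen_inv {u0 u1 u2 u3 a b x : H} (h : Gens u0 u1 u2 u3 a b x) (g : H)
    (hg : g = u0 ∨ g = u1 ∨ g = u2 ∨ g = u3 ∨ g = a ∨ g = b) :
    helper56_InN u0 u1 u2 u3 a b g⁻¹ := by
  have hab := helper56_ab_sq h
  have h4 : ∀ y : H, y ^ 2 = a * b → y ^ (3 + 1) = 1 := by
    intro y hy
    have : y ^ (3 + 1) = (y ^ 2) ^ 2 := by rw [← pow_mul]
    rw [this, hy, hab]
  have hN := helper56_InN_gen h g hg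
  rcases hg with rfl | rfl | rfl | rfl | rfl | rfl
  · exact helper56_InN_inv_of_pow h hN 3 (h4 _ h.sq0)
  · exact helper56_InN_inv_of_pow h hN 3 (h4 _ h.sq1)
  · exact helper56_InN_inv_of_pow h hN 3 (h4 _ h.sq2)
  · exact helper56_InN_inv_of_pow h hN 3 (h4 _ h.sq3)
  · exact helper56_InN_inv_of_pow h hN 1 h.a2
  · exact helper56_InN_inv_of_pow h hN 1 h.b2

theorem helper56_InN_pw {u0 u1 u2 u3 a b : H} {g : H}
    (hg : helper56_InN u0 u1 u2 u3 a b g) (e : Bool) :
    helper56_InN u0 u1 u2 u3 a b (helper56_pw g e) := by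
  cases e
  · exact helper56_InN_one
  · exact hg

theorem helper56_InN_inv {u0 u1 u2 u3 a b x : H} (h : Gens u0 u1 u2 u3 a b x) {n : H}
    (hn : helper56_InN u0 u1 u2 u3 a b n) : helper56_InN u0 u1 u2 u3 a b n⁻¹ := by
  obtain ⟨e0, e1, e2, e3, i, j, rfl⟩ := hn
  have hpi : ∀ (g : H) (e : Bool), (helper56_pw g e)⁻¹ = helper56_pw g⁻¹ e := by
    intro g e; cases e <;> simp [helper56_pw]
  simp only [helper56_nf, mul_inv_rev, hpi]
  have i0 := helper56_InN_pw (helper56_InN_gen_inv h u0 (Or.inl rfl)) e0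
  have i1 := helper56_InN_pw (helper56_InN_gen_inv h u1 (Or.inr (Or.inl rfl))) e1
  have i2 := helper56_InN_pw (helper56_InN_gen_inv h u2 (Or.inr (Or.inr (Or.inl rfl)))) e2
  have i3 := helper56_InN_pw (helper56_InN_gen_inv h u3 (Or.inr (Or.inr (Or.inr (Or.inl rfl))))) e3
  have i4 := helper56_InN_pw (helper56_InN_gen_inv h a (Or.inr (Or.inr (Or.inr (Or.inr (Or.inl rfl)))))) i
  have i5 := helper56_InN_pw (helper56_InN_gen_inv h b (Or.inr (Or.inr (Or.inr (Or.inr (Or.inr rfl)))))) j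
  exact helper56_InN_mul h (helper56_InN_mul h (helper56_InN_mul h (helper56_InN_mul h
    (helper56_InN_mul h i5 i4) i3) i2) i1) i0

theorem helper56_conj_mul (x m n : H) : x * (m * n) * x⁻¹ = (x * m * x⁻¹) * (x * n * x⁻¹) := by
  group

theorem helper56_conj_pw (x g : H) (e : Bool) :
    x * helper56_pw g e * x⁻¹ = helper56_pw (x * g * x⁻¹) e := by
  cases e <;> simp [helper56_pw]

theorem helper56_InN_conj {u0 u1 u2 u3 a b x : H} (h : Gens u0 u1 u2 u3 a b x) {n : H}
    (hn : helper56_InN u0 u1 u2 u3 a b n) : helper56_InN u0 u1 u2 u3 a b (x * n * x⁻¹) := by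
  obtain ⟨e0, e1, e2, e3, i, j, rfl⟩ := hn
  have hxa : x * a * x⁻¹ = a := by
    rw [← (h.ac x).eq, mul_assoc, mul_inv_cancel, mul_one]
  have hxb : x * b * x⁻¹ = b := by
    rw [← (h.bc x).eq, mul_assoc, mul_inv_cancel, mul_one]
  have key : x * helper56_nf u0 u1 u2 u3 a b e0 e1 e2 e3 i j * x⁻¹ =
      helper56_pw u1 e0 * (helper56_pw u2 e1 * (helper56_pw u3 e2 *
        (helper56_pw (u0 * u1 * u2 * u3)⁻¹ e3 * (helper56_pw a i * helper56_pw b j)))) := by
    simp only [helper56_nf, helper56_conj_mul, helper56_conj_pw, h.x0, h.x1, h.x2, h.x3, hxa, hxb]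
  rw [key]
  have g0 := helper56_InN_gen h u0 (Or.inl rfl)
  have g1 := helper56_InN_gen h u1 (Or.inr (Or.inl rfl))
  have g2 := helper56_InN_gen h u2 (Or.inr (Or.inr (Or.inl rfl)))
  have g3 := helper56_InN_gen h u3 (Or.inr (Or.inr (Or.inr (Or.inl rfl))))
  have g4 := helper56_InN_gen h a (Or.inr (Or.inr (Or.inr (Or.inr (Or.inl rfl)))))
  have g5 := helper56_InN_gen h b (Or.inr (Or.inr (Or.inr (Or.inr (Or.inr rfl)))))
  have gw : helper56_InN u0 u1 u2 u3 a b (u0 * u1 * u2 * u3)⁻¹ :=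
    helper56_InN_inv h (helper56_InN_mul h (helper56_InN_mul h (helper56_InN_mul h g0 g1) g2) g3)
  exact helper56_InN_mul h (helper56_InN_pw g1 e0) (helper56_InN_mul h (helper56_InN_pw g2 e1)
    (helper56_InN_mul h (helper56_InN_pw g3 e2) (helper56_InN_mul h (helper56_InN_pw gw e3)
      (helper56_InN_mul h (helper56_InN_pw g4 i) (helper56_InN_pw g5 j)))))

theorem helper56_InN_conj_pow {u0 u1 u2 u3 a b x : H} (h : Gens u0 u1 u2 u3 a b x) {n : H}
    (hn : helper56_InN u0 u1 u2 u3 a b n) (k : ℕ) :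
    helper56_InN u0 u1 u2 u3 a b (x ^ k * n * (x ^ k)⁻¹) := by
  induction k with
  | zero => simpa using hn
  | succ k ih =>
    have := helper56_InN_conj h ih
    have e : x ^ (k + 1) * n * (x ^ (k + 1))⁻¹ = x * (x ^ k * n * (x ^ k)⁻¹) * x⁻¹ := by
      rw [pow_succ']; group
    rw [e]; exact this

/-- PIECE B2 -/
theorem card_le_of_gens {H : Type*} [Group H] (u0 u1 u2 u3 a b x : H)
    (h : Gens u0 u1 u2 u3 a b x)
    (hgen : Subgroup.closure {u0, u1, u2, u3, a, b, x} = ⊤) :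
    Finite H ∧ Nat.card H ≤ 320 := by
  classical
  have hS : ∀ g : H, ∃ n, helper56_InN u0 u1 u2 u3 a b n ∧ ∃ k : ℕ, g = n * x ^ k := by
    intro g
    have hg : g ∈ Subgroup.closure {u0, u1, u2, u3, a, b, x} := by rw [hgen]; trivial
    induction hg using Subgroup.closure_induction with
    | mem y hy =>
      simp only [Set.mem_insert_iff, Set.mem_singleton_iff] at hy
      rcases hy with rfl | rfl | rfl | rfl | rfl | rfl | rfl
      · exact ⟨_, helper56_InN_gen h _ (Or.inl rfl), 0, by simp⟩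
      · exact ⟨_, helper56_InN_gen h _ (Or.inr (Or.inl rfl)), 0, by simp⟩
      · exact ⟨_, helper56_InN_gen h _ (Or.inr (Or.inr (Or.inl rfl))), 0, by simp⟩
      · exact ⟨_, helper56_InN_gen h _ (Or.inr (Or.inr (Or.inr (Or.inl rfl)))), 0, by simp⟩
      · exact ⟨_, helper56_InN_gen h _ (Or.inr (Or.inr (Or.inr (Or.inr (Or.inl rfl))))), 0, by simp⟩
      · exact ⟨_, helper56_InN_gen h _ (Or.inr (Or.inr (Or.inr (Or.inr (Or.inr rfl))))), 0, by simp⟩
      · exact ⟨1, helper56_InN_one, 1, by simp⟩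
    | one => exact ⟨1, helper56_InN_one, 0, by simp⟩
    | mul y z _ _ ihy ihz =>
      obtain ⟨n, hn, k, rfl⟩ := ihy
      obtain ⟨m, hm, l, rfl⟩ := ihz
      refine ⟨n * (x ^ k * m * (x ^ k)⁻¹), helper56_InN_mul h hn (helper56_InN_conj_pow h hm k),
        k + l, ?_⟩
      rw [pow_add]; group
    | inv y _ ih =>
      obtain ⟨n, hn, k, rfl⟩ := ih
      have hxk : (x ^ k)⁻¹ = x ^ (4 * k) := by
        apply inv_eq_of_mul_eq_one_right
        rw [← pow_add, show k + 4 * k = 5 * k by ring, pow_mul, h.x5, one_pow]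
      refine ⟨x ^ (4 * k) * n⁻¹ * (x ^ (4 * k))⁻¹,
        helper56_InN_conj_pow h (helper56_InN_inv h hn) (4 * k), 4 * k, ?_⟩
      rw [mul_inv_rev, hxk]; group
  let F : (Bool × Bool × Bool × Bool × Bool × Bool) × Fin 5 → H := fun p =>
    helper56_nf u0 u1 u2 u3 a b p.1.1 p.1.2.1 p.1.2.2.1 p.1.2.2.2.1 p.1.2.2.2.2.1 p.1.2.2.2.2.2 *
      x ^ (p.2 : ℕ)
  have hF : Function.Surjective F := by
    intro g
    obtain ⟨n, ⟨e0, e1, e2, e3, i, j, rfl⟩, k, rfl⟩ := hS g
    refine ⟨((e0, e1, e2, e3, i, j), ⟨k % 5, Nat.mod_lt _ (by norm_num)⟩), ?_⟩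
    show helper56_nf u0 u1 u2 u3 a b e0 e1 e2 e3 i j * x ^ (k % 5) = _
    rw [← pow_eq_pow_mod k h.x5]
  have hfin : Finite H := Finite.of_surjective F hF
  refine ⟨hfin, ?_⟩
  have := Nat.card_le_card_of_surjective F hF
  simpa [Nat.card_eq_fintype_card, Fintype.card_prod] using this

end B2

end Cfsg.Agent.Lib.helper16.U34C
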